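import Groth.Prelude.Def_EtCore
import Mathlib.Algebra.Homology.ShortComplex.Ab
import Mathlib.Algebra.Category.Grp.EpiMono
import Mathlib.Algebra.Category.Grp.FilteredColimits
import Mathlib.CategoryTheory.Sites.Abelian
import Mathlib.Algebra.Homology.ShortComplex.ExactFunctor
import Mathlib.Data.Rat.Lemmas
import Mathlib.GroupTheory.QuotientGroup.Basic

/-!
# The short exact sequence of constant sheaves `0 → ℤ → ℚ → ℚ/ℤ → 0`
-/

universe u

open CategoryTheory CategoryTheory.Limits AlgebraicGeometry Opposite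

namespace Groth.Agent.GalEt

/-- the constant sheaf functor -/
noncomputable abbrev constF (X : Scheme.{u}) : AddCommGrpCat.{u + 1} ⥤ EtCoh.Ab X :=
  constantSheaf X.smallEtaleTopology AddCommGrpCat.{u + 1}

instance additive_constF (X : Scheme.{u}) : (constF X).Additive :=
  haveI : (EtCore.gsec X).Additive := ⟨fun {F G f g} => rfl⟩
  (EtCore.constAdj X).left_adjoint_additive

theorem shortExact_constF (X : Scheme.{u}) {S : ShortComplex AddCommGrpCat.{u + 1}} (hS : S.ShortExact) :
    (S.map (constF X)).ShortExact := by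
  have : PreservesFiniteLimits (constF X) := comp_preservesFiniteLimits _ _
  have : PreservesColimitsOfSize.{0, 0} (constF X) := (EtCore.constAdj X).leftAdjoint_preservesColimits
  have : PreservesFiniteColimits (constF X) := PreservesColimitsOfSize.preservesFiniteColimits _
  exact hS.map_of_exact _

/-- the sequence `ℤ → ℚ → ℚ/ℤ`, one universe up -/
noncomputable def intRatSeq : ShortComplex AddCommGrpCat.{u + 1} :=
  ShortComplex.mk
    (AddCommGrpCat.ofHom (AddEquiv.ulift.symm.toAddMonoidHom.comp ((Int.castAddHom ℚ).comp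
      AddEquiv.ulift.toAddMonoidHom)) :
      AddCommGrpCat.of (ULift.{u + 1} ℤ) ⟶ AddCommGrpCat.of (ULift.{u + 1} ℚ))
    (AddCommGrpCat.ofHom (AddEquiv.ulift.symm.toAddMonoidHom.comp
      ((QuotientAddGroup.mk' (AddSubgroup.zmultiples (1 : ℚ))).comp AddEquiv.ulift.toAddMonoidHom)) :
      AddCommGrpCat.of (ULift.{u + 1} ℚ) ⟶
        AddCommGrpCat.of (ULift.{u + 1} (ℚ ⧸ AddSubgroup.zmultiples (1 : ℚ))))
    (by
      ext x
      exact (QuotientAddGroup.eq_zero_iff _).2 (AddSubgroup.mem_zmultiples_iff.2 ⟨x.down, by simp; rfl⟩))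

theorem intRatSeq_shortExact : intRatSeq.{u}.ShortExact :=
  { exact := by
      rw [ShortComplex.ab_exact_iff]
      rintro ⟨x⟩ hx
      have h : x ∈ AddSubgroup.zmultiples (1 : ℚ) :=
        (QuotientAddGroup.eq_zero_iff _).1 (congrArg ULift.down hx)
      obtain ⟨a, ha⟩ := AddSubgroup.mem_zmultiples_iff.1 h
      refine ⟨⟨a⟩, ULift.ext _ _ ?_⟩
      rw [← ha, zsmul_one]
      rfl
    mono_f := (AddCommGrpCat.mono_iff_injective _).2 fun a b h =>
      ULift.ext _ _ (Int.cast_injective (congrArg ULift.down h))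
    epi_g := (AddCommGrpCat.epi_iff_surjective _).2 fun y => by
      obtain ⟨a, ha⟩ := QuotientAddGroup.mk'_surjective _ y.down
      exact ⟨⟨a⟩, ULift.ext _ _ ha⟩ }

theorem isIso_nsmul_const_rat (X : Scheme.{u}) {m : ℕ} (hm : 0 < m) :
    IsIso (m • 𝟙 (EtCoh.const X ℚ)) := by
  have h : IsIso (m • 𝟙 (AddCommGrpCat.of (ULift.{u + 1} ℚ))) := by
    refine ConcreteCategory.isIso_iff_bijective _ |>.2 ?_
    have e : ∀ x : ULift.{u + 1} ℚ, (m • 𝟙 (AddCommGrpCat.of (ULift.{u + 1} ℚ))) x = m • x := fun x => by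
      simp
    refine ⟨fun a b h => ?_, fun y => ⟨⟨y.down / m⟩, ?_⟩⟩
    · rw [e, e] at h
      have h' : m • a.down = m • b.down := congrArg ULift.down h
      rw [nsmul_eq_mul, nsmul_eq_mul] at h'
      exact ULift.ext _ _ (mul_left_cancel₀ (Nat.cast_ne_zero.2 hm.ne') h')
    · rw [e]
      refine ULift.ext _ _ ?_
      show m • (y.down / (m : ℚ)) = y.down
      rw [nsmul_eq_mul, mul_div_cancel₀ _ (Nat.cast_ne_zero.2 hm.ne')]
  have : IsIso ((constF X).map (m • 𝟙 (AddCommGrpCat.of (ULift.{u + 1} ℚ)))) := inferInstance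
  rwa [Functor.map_nsmul, CategoryTheory.Functor.map_id] at this

end Groth.Agent.GalEt
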