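import Groth.Agent.EtFound.PropPush
import Groth.Agent.EtFound.Basic

/-!
# Direct images of torsion sheaves along affine morphisms are torsion
-/

universe u

open CategoryTheory CategoryTheory.Limits AlgebraicGeometry Opposite

namespace Groth.Agent.GalEt

set_option backward.isDefEq.respectTransparency.types false

theorem exists_nsmul_eq_zero_of_compact {X : Scheme.{u}} {F : EtCoh.Ab X} (hF : EtCoh.IsTorsion F)
    (U : X.Etale) [CompactSpace U.left] (s : EtCoh.sect F U) : IsOfFinAddOrder s := by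
  choose V g hv hfin using hF U s
  have hopen : ∀ x, IsOpen (Set.range (g x).left.base) := fun x => by
    have := EtFound.etale_left (g x)
    exact (Scheme.Hom.isOpenMap (g x).left).isOpen_range
  obtain ⟨t, ht⟩ := CompactSpace.elim_nhds_subcover (fun x => Set.range (g x).left.base) fun x =>
    (hopen x).mem_nhds (hv x)
  choose N hN0 hN using fun x => isOfFinAddOrder_iff_nsmul_eq_zero.1 (hfin x)
  refine isOfFinAddOrder_iff_nsmul_eq_zero.2 ⟨∏ x ∈ t, N x, Finset.prod_pos fun x _ => hN0 x, ?_⟩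
  refine EtFound.eq_of_cover F _ _ ((EtFound.mem_topology_iff _).2 fun y => ?_)
  obtain ⟨x, hxt, v, rfl⟩ := Set.mem_iUnion₂.1 (ht.ge (Set.mem_univ y))
  refine ⟨V x, g x, v, ?_, rfl⟩
  show F.obj.map (g x).op _ = F.obj.map (g x).op 0
  rw [map_zero, map_nsmul]
  obtain ⟨c, hc⟩ := Finset.dvd_prod_of_mem N hxt
  rw [hc, mul_nsmul, hN, smul_zero]

theorem isTorsion_push {X Y : Scheme.{u}} (f : X ⟶ Y) [IsAffineHom f] {F : EtCoh.Ab X}
    (hF : EtCoh.IsTorsion F) : EtCoh.IsTorsion ((EtCoh.push f).obj F) := by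
  intro U s x
  obtain ⟨W, hW, hxW, -⟩ := exists_isAffineOpen_mem_and_subset (TopologicalSpace.Opens.mem_top x)
  refine ⟨EtFound.restrictEtale U W, EtFound.restrictEtaleHom U W, ⟨⟨x, hxW⟩, rfl⟩, ?_⟩
  haveI : IsAffine (EtFound.restrictEtale U W).left := hW
  haveI : IsAffine ((EtCoh.bc f).obj (EtFound.restrictEtale U W)).left :=
    @isAffine_of_isAffineHom _ _ (pullback.fst (EtFound.restrictEtale U W).hom f)
      (MorphismProperty.pullback_fst (P := @IsAffineHom) (EtFound.restrictEtale U W).hom f ‹IsAffineHom f›)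
      ‹IsAffine (EtFound.restrictEtale U W).left›
  haveI : CompactSpace ((EtCoh.bc f).obj (EtFound.restrictEtale U W)).left := inferInstance
  exact exists_nsmul_eq_zero_of_compact hF _ _

end Groth.Agent.GalEt
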