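import Groth.Agent.GalEt.Trace

/-!
# Torsion sheaves: stability under étale inverse image
-/

universe u

open CategoryTheory CategoryTheory.Limits AlgebraicGeometry Opposite

namespace Groth.Agent.GalEt

set_option backward.isDefEq.respectTransparency.types false

variable {X : Scheme.{u}}

theorem isTorsion_of_iso {F G : EtCoh.Ab X} (e : F ≅ G) (hF : EtCoh.IsTorsion F) : EtCoh.IsTorsion G := by
  intro U s x
  obtain ⟨V, g, hv, hfin⟩ := hF U (e.inv.hom.app (op U) s) x
  refine ⟨V, g, hv, ?_⟩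
  have := (e.hom.hom.app (op V)).hom.isOfFinAddOrder hfin
  have hh : e.hom.hom.app (op V) (F.obj.map g.op (e.inv.hom.app (op U) s)) = G.obj.map g.op s := by
    rw [← NatTrans.naturality_apply e.inv.hom g.op]
    exact congrArg (fun t : G ⟶ G => t.hom.app (op V) (G.obj.map g.op s)) e.inv_hom_id
  rwa [hh] at this

theorem isTorsion_of_nsmul {F : EtCoh.Ab X} {n : ℕ} (hn : 0 < n)
    (h : ∀ (U : X.Etale) (s : EtCoh.sect F U), n • s = 0) : EtCoh.IsTorsion F :=
  fun U s x => ⟨U, 𝟙 U, ⟨x, rfl⟩, isOfFinAddOrder_iff_nsmul_eq_zero.2 ⟨n, hn, h _ _⟩⟩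

theorem isTorsion_restr (T : X.Etale) {F : EtCoh.Ab X} (hF : EtCoh.IsTorsion F) :
    EtCoh.IsTorsion ((EtShriek.restrAlong (π T)).obj F) := by
  intro U s x
  obtain ⟨V, g, ⟨v, hv⟩, hfin⟩ := hF ((EtShriek.compEtale (π T)).obj U) s x
  let V' : T.left.Etale := (EtShriek.compEtaleLift (π T) g).1
  let i : (EtShriek.compEtale (π T)).obj V' ≅ V := (EtShriek.compEtaleLift (π T) g).2
  let g' : V' ⟶ U := MorphismProperty.Over.homMk (g.left) rfl
  refine ⟨V', g', ⟨v, hv⟩, ?_⟩
  show IsOfFinAddOrder (F.obj.map ((EtShriek.compEtale (π T)).map g').op s)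
  have e : (EtShriek.compEtale (π T)).map g' = i.hom ≫ g :=
    MorphismProperty.Over.Hom.ext (Category.id_comp _).symm
  rw [e, op_comp, F.obj.map_comp]
  exact (F.obj.map i.hom.op).hom.isOfFinAddOrder hfin

theorem isTorsion_pull (T : X.Etale) {F : EtCoh.Ab X} (hF : EtCoh.IsTorsion F) :
    EtCoh.IsTorsion ((EtCoh.pull (π T)).obj F) :=
  isTorsion_of_iso ((restrIso T).app F) (isTorsion_restr T hF)

end Groth.Agent.GalEt
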