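import Groth.Agent.EtFound.Stalk
import Mathlib.Algebra.Homology.DerivedCategory.Ext.ExactSequences
import Mathlib.CategoryTheory.Abelian.Basic

/-!
# Multiplication by an integer on sheaves and on their Ext groups
-/

universe w v u

open CategoryTheory CategoryTheory.Limits CategoryTheory.Abelian

namespace Groth.Agent.GalEt

variable {C : Type u} [Category.{v} C] [Abelian C] [HasExt.{w} C]

theorem comp_nsmul_id {A B : C} {n : ℕ} (α : Ext A B n) (m : ℕ) :
    α.comp (Ext.mk₀ (m • 𝟙 B)) (add_zero n) = m • α := by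
  induction m with
  | zero => rw [zero_smul, zero_smul, Ext.mk₀_zero, Ext.comp_zero]
  | succ m ih => rw [succ_nsmul, succ_nsmul, Ext.mk₀_add, Ext.comp_add, ih, Ext.comp_mk₀_id]

theorem eq_zero_of_isIso_nsmul {A B : C} {n : ℕ} {α : Ext A B n} {m : ℕ} (h : IsIso (m • 𝟙 B))
    (hα : m • α = 0) : α = 0 := by
  have := congrArg (fun e : Ext A B n => e.comp (Ext.mk₀ (inv (m • 𝟙 B))) (add_zero n)) (comp_nsmul_id α m)
  rw [hα] at this
  simpa [Ext.mk₀_comp_mk₀] using this

/-- `B` is killed by `m` -/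
def IsKilled (m : ℕ) (B : C) : Prop := m • 𝟙 B = 0

theorem IsKilled.ext {A B : C} {n : ℕ} {m : ℕ} (h : IsKilled m B) (α : Ext A B n) : m • α = 0 := by
  rw [← comp_nsmul_id, h, Ext.mk₀_zero, Ext.comp_zero]

theorem isKilled_kernel (m : ℕ) (B : C) : IsKilled m (kernel (m • 𝟙 B)) := by
  rw [IsKilled, ← cancel_mono (kernel.ι (m • 𝟙 B)), zero_comp, Preadditive.nsmul_comp, Category.id_comp]
  have := kernel.condition (m • 𝟙 B)
  rwa [Preadditive.comp_nsmul, Category.comp_id] at this

theorem isKilled_cokernel (m : ℕ) (B : C) : IsKilled m (cokernel (m • 𝟙 B)) := by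
  rw [IsKilled, ← cancel_epi (cokernel.π (m • 𝟙 B)), comp_zero, Preadditive.comp_nsmul, Category.comp_id]
  have := cokernel.condition (m • 𝟙 B)
  rwa [Preadditive.nsmul_comp, Category.id_comp] at this

/-- multiplication by `m` is injective on `Ext^{q+1}(A, B)` if all objects killed by `m` have
vanishing `Ext^q` and `Ext^{q+1}` -/
theorem nsmul_injective_of_killed {A B : C} {q m : ℕ}
    (hq : ∀ (K : C), IsKilled m K → ∀ x : Ext A K q, x = 0)
    (hq' : ∀ (K : C), IsKilled m K → ∀ x : Ext A K (q + 1), x = 0)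
    (α : Ext A B (q + 1)) (hα : m • α = 0) : α = 0 := by
  let f := m • 𝟙 B
  let S₁ : ShortComplex C := ShortComplex.mk (kernel.ι f) (Abelian.factorThruImage f) (by
    rw [← cancel_mono (Abelian.image.ι f), Category.assoc, Abelian.image.fac, zero_comp, kernel.condition])
  have hS₁ : S₁.ShortExact :=
    { exact := ShortComplex.exact_of_f_is_kernel _ (by
        refine KernelFork.IsLimit.ofι _ _ (fun g hg => kernel.lift f g (by
          rw [← Abelian.image.fac f, reassoc_of% hg, zero_comp])) (fun g hg => kernel.lift_ι _ _ _)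
          (fun g hg b hb => by
            rw [← cancel_mono (kernel.ι f)]
            exact hb.trans (kernel.lift_ι _ _ _).symm)) }
  let S₂ : ShortComplex C := ShortComplex.mk (Abelian.image.ι f) (cokernel.π f) (kernel.condition _)
  have hS₂ : S₂.ShortExact :=
    { exact := ShortComplex.exact_of_f_is_kernel _ (kernelIsKernel (cokernel.π f)) }
  have h0 : (α.comp (Ext.mk₀ S₁.g) (add_zero _)).comp (Ext.mk₀ S₂.f) (add_zero _) = 0 := by
    rw [Ext.comp_assoc_of_third_deg_zero, Ext.mk₀_comp_mk₀]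
    show α.comp (Ext.mk₀ (Abelian.factorThruImage f ≫ Abelian.image.ι f)) _ = 0
    rw [Abelian.image.fac, comp_nsmul_id, hα]
  obtain ⟨β, hβ⟩ := Ext.covariant_sequence_exact₁ A hS₂ _ h0 (n₀ := q) rfl
  rw [hq _ (isKilled_cokernel m B) β, Ext.zero_comp] at hβ
  obtain ⟨γ, hγ⟩ := Ext.covariant_sequence_exact₂ A hS₁ α hβ.symm
  rw [hq' _ (isKilled_kernel m B) γ, Ext.zero_comp] at hγ
  exact hγ.symm

end Groth.Agent.GalEt
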