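import Groth.Agent.GalEt.Killed
import Mathlib.GroupTheory.Sylow
import Mathlib.FieldTheory.Galois.Basic

/-!
# Reduction to extensions of degree prime to `p`
-/

universe u

open CategoryTheory CategoryTheory.Limits AlgebraicGeometry Opposite CategoryTheory.Abelian

namespace Groth.Agent.GalEt

set_option backward.isDefEq.respectTransparency.types false

variable (k : Type u) [Field k]

theorem specMap_comp_specOver {L M : Type u} [Field L] [Algebra k L] [Field M] [Algebra k M]
    (f : L →ₐ[k] M) :
    Spec.map (CommRingCat.ofHom f.toRingHom) ≫ specOver k L = specOver k M := by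
  rw [← Spec.map_comp, ← CommRingCat.ofHom_comp]
  exact congrArg (fun t => Spec.map (CommRingCat.ofHom t)) (RingHom.ext fun r => f.commutes r)

/-- classes killed over `L` are killed over any extension containing `L` -/
theorem killed_mono {L M : Type u} [Field L] [Algebra k L] [Field M] [Algebra k M] (f : L →ₐ[k] M)
    {A B : EtCoh.Ab (Spec (CommRingCat.of k))} {n : ℕ} (α : Ext A B n)
    (h : pullExt (specOver k L) α = 0) : pullExt (specOver k M) α = 0 :=
  (pullExt_eq_zero_of_comp (specMap_comp_specOver k f) α).1 (by rw [h, pullExt_zero])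

/-- killed over `M` and tower `M/L/k`: the image over `L` is killed over `M` -/
theorem killed_tower (L M : Type u) [Field L] [Algebra k L] [Field M] [Algebra k M] [Algebra L M]
    [IsScalarTower k L M] {A B : EtCoh.Ab (Spec (CommRingCat.of k))} {n : ℕ} (α : Ext A B n)
    (h : pullExt (specOver k M) α = 0) : pullExt (specOver L M) (pullExt (specOver k L) α) = 0 :=
  (pullExt_eq_zero_of_comp (specMap_comp_specOver k (IsScalarTower.toAlgHom k L M)) α).2 h

set_option maxHeartbeats 1000000 in
theorem exists_coprime_pow_killed_galois (p : ℕ) [Fact p.Prime] (M : Type u) [Field M] [Algebra k M]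
    [FiniteDimensional k M] [IsGalois k M]
    {A B : EtCoh.Ab (Spec (CommRingCat.of k))} {n : ℕ} (α : Ext A B n)
    (h : pullExt (specOver k M) α = 0) :
    ∃ (L' : Type u) (_ : Field L') (_ : Algebra k L') (_ : FiniteDimensional k L')
      (_ : Algebra.IsSeparable k L'), ¬ p ∣ Module.finrank k L' ∧
        ∃ a : ℕ, p ^ a • pullExt (specOver k L') α = 0 := by
  haveI : Finite Gal(M/k) := inferInstance
  let P : Sylow p Gal(M/k) := default
  let F := IntermediateField.fixedField (P : Subgroup Gal(M/k))
  refine ⟨F, inferInstance, inferInstance, inferInstance, inferInstance, ?_, ?_⟩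
  · have h1 : Module.finrank k F * Module.finrank F M = Module.finrank k M :=
      Module.finrank_mul_finrank k F M
    rw [IntermediateField.finrank_fixedField_eq_card, ← IsGalois.card_aut_eq_finrank k M] at h1
    have h2 : Nat.card Gal(M/k) = (P : Subgroup Gal(M/k)).index * Nat.card (P : Subgroup Gal(M/k)) :=
      ((P : Subgroup Gal(M/k)).index_mul_card).symm
    have h3 : Module.finrank k F = (P : Subgroup Gal(M/k)).index :=
      Nat.eq_of_mul_eq_mul_right Nat.card_pos (h1.trans h2)
    rw [h3]
    exact P.not_dvd_index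
  · obtain ⟨a, ha⟩ := P.isPGroup'.exists_card_eq
    refine ⟨a, ?_⟩
    have hdeg : Module.finrank F M = p ^ a := (IntermediateField.finrank_fixedField_eq_card _).trans ha
    haveI : Algebra.IsSeparable F M := Algebra.isSeparable_tower_top_of_isSeparable k F M
    have := finrank_nsmul_eq_zero (k := F) (L := M) (pullExt (specOver k F) α)
      (killed_tower k F M α h)
    rwa [hdeg] at this

/-- a killed class has, over an extension of degree prime to `p`, an image killed by a power of `p` -/
theorem exists_coprime_pow_killed (p : ℕ) [Fact p.Prime] (L : Type u) [Field L] [Algebra k L]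
    [FiniteDimensional k L] [Algebra.IsSeparable k L]
    {A B : EtCoh.Ab (Spec (CommRingCat.of k))} {n : ℕ} (α : Ext A B n)
    (h : pullExt (specOver k L) α = 0) :
    ∃ (L' : Type u) (_ : Field L') (_ : Algebra k L') (_ : FiniteDimensional k L')
      (_ : Algebra.IsSeparable k L'), ¬ p ∣ Module.finrank k L' ∧
        ∃ a : ℕ, p ^ a • pullExt (specOver k L') α = 0 :=
  exists_coprime_pow_killed_galois k p (galClosure k L) α (killed_mono k (toGalClosure k L) α h)

theorem eq_zero_of_coprime_smul {G : Type*} [AddCommGroup G] {x : G} {a b : ℕ} (hab : Nat.Coprime a b)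
    (ha : a • x = 0) (hb : b • x = 0) : x = 0 := by
  rw [← AddMonoid.addOrderOf_eq_one_iff]
  exact Nat.eq_one_of_dvd_coprimes hab (addOrderOf_dvd_of_nsmul_eq_zero ha) (addOrderOf_dvd_of_nsmul_eq_zero hb)

/-- a killed class whose order is prime to `p` dies over an extension of degree prime to `p` -/
theorem exists_coprime_killed (p : ℕ) [Fact p.Prime] (L : Type u) [Field L] [Algebra k L]
    [FiniteDimensional k L] [Algebra.IsSeparable k L]
    {A B : EtCoh.Ab (Spec (CommRingCat.of k))} {n : ℕ} (α : Ext A B n)
    (h : pullExt (specOver k L) α = 0) (hp : ¬ p ∣ addOrderOf α) :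
    ∃ (L' : Type u) (_ : Field L') (_ : Algebra k L') (_ : FiniteDimensional k L')
      (_ : Algebra.IsSeparable k L'), ¬ p ∣ Module.finrank k L' ∧ pullExt (specOver k L') α = 0 := by
  obtain ⟨L', i1, i2, i3, i4, hL', a, ha⟩ := exists_coprime_pow_killed k p L α h
  refine ⟨L', i1, i2, i3, i4, hL', eq_zero_of_coprime_smul (a := p ^ a) (b := addOrderOf α)
    (Nat.Coprime.pow_left _ ((Fact.out : p.Prime).coprime_iff_not_dvd.2 hp)) ha ?_⟩
  rw [← pullExt_nsmul, addOrderOf_nsmul_eq_zero, pullExt_zero]

end Groth.Agent.GalEt
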