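import Groth.Agent.GalEt.FixedSection
import Groth.Agent.GalEt.Sylow
import Groth.Agent.GalEt.Torsion
import Groth.Agent.GalEt.Multiplication
import Groth.Agent.EtFound.NoethACC

/-!
# Dévissage to the constant sheaf `ℤ/p` for finite sheaves killed by `p` over a field
-/

universe u

open CategoryTheory CategoryTheory.Limits AlgebraicGeometry Opposite CategoryTheory.Abelian

namespace Groth.Agent.GalEt

set_option backward.isDefEq.respectTransparency.types false

/-- `H^m(L, ℤ/p) = 0` for all finite separable extensions `L` of degree prime to `p` -/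
def ZpVanish (k : Type u) [Field k] (p m : ℕ) : Prop :=
  ∀ (L : Type u) [Field L] [Algebra k L] [FiniteDimensional k L] [Algebra.IsSeparable k L],
    ¬ p ∣ Module.finrank k L →
      ∀ x : EtCoh.H (Spec (CommRingCat.of L)) (EtCoh.const (Spec (CommRingCat.of L)) (ZMod p)) m, x = 0

theorem ZpVanish.tower {k : Type u} [Field k] {p m : ℕ} [Fact p.Prime] (h : ZpVanish k p m) (k' : Type u) [Field k']
    [Algebra k k'] [FiniteDimensional k k'] [Algebra.IsSeparable k k'] (hk' : ¬ p ∣ Module.finrank k k') :
    ZpVanish k' p m := by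
  intro L _ _ _ _ hL
  letI : Algebra k L := ((algebraMap k' L).comp (algebraMap k k')).toAlgebra
  haveI : IsScalarTower k k' L := IsScalarTower.of_algebraMap_eq fun _ => rfl
  haveI : FiniteDimensional k L := FiniteDimensional.trans k k' L
  haveI : Algebra.IsSeparable k L := Algebra.IsSeparable.trans k k' L
  refine h L ?_
  rw [← Module.finrank_mul_finrank k k' L]
  exact fun hd => ((Fact.out : p.Prime).dvd_mul.1 hd).elim hk' hL

/-- a Sylow subfield of a Galois extension -/
theorem exists_sylow_field (k : Type u) [Field k] (p : ℕ) [Fact p.Prime] (M : Type u) [Field M] [Algebra k M]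
    [FiniteDimensional k M] [IsGalois k M] :
    ∃ (F : Type u) (_ : Field F) (_ : Algebra k F) (_ : FiniteDimensional k F) (_ : Algebra.IsSeparable k F)
      (_ : Algebra F M) (_ : IsScalarTower k F M) (_ : FiniteDimensional F M) (_ : IsGalois F M),
      ¬ p ∣ Module.finrank k F ∧ IsPGroup p Gal(M/F) := by
  haveI : Finite Gal(M/k) := inferInstance
  let P : Sylow p Gal(M/k) := default
  let F := IntermediateField.fixedField (P : Subgroup Gal(M/k))
  haveI : IsGalois F M := IsGalois.tower_top_of_isGalois k F M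
  refine ⟨F, inferInstance, inferInstance, inferInstance, inferInstance, inferInstance, inferInstance,
    inferInstance, inferInstance, ?_, ?_⟩
  · have h1 : Module.finrank k F * Module.finrank F M = Module.finrank k M :=
      Module.finrank_mul_finrank k F M
    rw [IntermediateField.finrank_fixedField_eq_card, ← IsGalois.card_aut_eq_finrank k M] at h1
    have h2 : Nat.card Gal(M/k) = (P : Subgroup Gal(M/k)).index * Nat.card (P : Subgroup Gal(M/k)) :=
      ((P : Subgroup Gal(M/k)).index_mul_card).symm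
    have h3 : Module.finrank k F = (P : Subgroup Gal(M/k)).index :=
      Nat.eq_of_mul_eq_mul_right Nat.card_pos (h1.trans h2)
    rw [h3]
    exact P.not_dvd_index
  · obtain ⟨a, ha⟩ := P.isPGroup'.exists_card_eq
    exact IsPGroup.of_card (n := a) (by
      rw [IsGalois.card_aut_eq_finrank, IntermediateField.finrank_fixedField_eq_card, ha])

theorem sect_nsmul_eq_zero {X : Scheme.{u}} {p : ℕ} {F : EtCoh.Ab X} (hF : IsKilled p F) (U : X.Etale)
    (s : EtCoh.sect F U) : p • s = 0 := by
  have e := hom_app_nsmul (𝟙 F) p U s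
  rw [show p • 𝟙 F = 0 from hF] at e
  exact e.symm

theorem IsKilled.map {C D : Type*} [Category* C] [Category* D] [Abelian C] [Abelian D] (F : C ⥤ D) [F.Additive]
    {p : ℕ} {B : C} (h : IsKilled p B) : IsKilled p (F.obj B) := by
  rw [IsKilled, ← F.map_id, ← F.map_nsmul, show p • 𝟙 B = 0 from h, F.map_zero]

theorem IsKilled.of_epi {C : Type*} [Category* C] [Abelian C] {A B : C} (f : A ⟶ B) [Epi f] {p : ℕ}
    (h : IsKilled p A) : IsKilled p B := by
  rw [IsKilled, ← cancel_epi f, comp_zero, Preadditive.comp_nsmul, Category.comp_id, ← Category.id_comp f,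
    ← Preadditive.nsmul_comp, show p • 𝟙 A = 0 from h, zero_comp]

theorem card_stalk_const (k : Type u) [Field k] (p : ℕ) {Ω : Type u} [Field Ω] [IsSepClosed Ω]
    (ξ : Spec (CommRingCat.of Ω) ⟶ Spec (CommRingCat.of k)) :
    Nat.card ((EtCoh.stalk ξ).obj (EtCoh.const (Spec (CommRingCat.of k)) (ZMod p))) = p := by
  have h := EtFound.toSheafify_const_germ_bijective ξ AddCommGrpCat.{u + 1}
    (AddCommGrpCat.of (ULift.{u + 1} (ZMod p))) (EtCoh.top (Spec (CommRingCat.of k)))
    (CategoryTheory.Over.homMk ξ (Category.comp_id _))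
  refine (Nat.card_congr (Equiv.ofBijective _ h)).symm.trans ?_
  show Nat.card (ULift.{u + 1} (ZMod p)) = p
  rw [Nat.card_congr Equiv.ulift, Nat.card_zmod]

theorem card_stalk_cokernel (k : Type u) [Field k] (p : ℕ) [Fact p.Prime] {F : EtCoh.Ab (Spec (CommRingCat.of k))}
    (φ : EtCoh.const (Spec (CommRingCat.of k)) (ZMod p) ⟶ F) [Mono φ] {Ω : Type u} [Field Ω] [IsSepClosed Ω]
    (ξ : Spec (CommRingCat.of Ω) ⟶ Spec (CommRingCat.of k)) [Finite ((EtCoh.stalk ξ).obj F)] :
    Finite ((EtCoh.stalk ξ).obj (cokernel φ)) ∧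
      Nat.card ((EtCoh.stalk ξ).obj (cokernel φ)) < Nat.card ((EtCoh.stalk ξ).obj F) := by
  let S := ShortComplex.mk φ (cokernel.π φ) (cokernel.condition _)
  have hS : S.ShortExact := { exact := ShortComplex.exact_of_g_is_cokernel _ (cokernelIsCokernel φ) }
  have hSξ := hS.map_of_exact (EtCoh.stalk ξ)
  let f := ((EtCoh.stalk ξ).map φ).hom
  let g := ((EtCoh.stalk ξ).map (cokernel.π φ)).hom
  have hf : Function.Injective f := (AddCommGrpCat.mono_iff_injective _).1 hSξ.mono_f
  have hg : Function.Surjective g := (AddCommGrpCat.epi_iff_surjective _).1 hSξ.epi_g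
  have hker : g.ker = f.range :=
    ShortComplex.ab_exact_iff_range_eq_ker.1 hSξ.exact |>.symm
  haveI : Finite ((EtCoh.stalk ξ).obj (cokernel φ)) := Finite.of_surjective g hg
  refine ⟨inferInstance, ?_⟩
  have h1 := AddSubgroup.card_eq_card_quotient_mul_card_addSubgroup g.ker
  rw [Nat.card_congr (QuotientAddGroup.quotientKerEquivOfSurjective g hg).toEquiv, hker,
    ← Nat.card_congr (AddMonoidHom.ofInjective hf).toEquiv, card_stalk_const] at h1
  rw [h1]
  exact lt_mul_of_one_lt_right Nat.card_pos (Fact.out : p.Prime).one_lt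

set_option maxHeartbeats 1000000 in
/-- dévissage for finite sheaves killed by `p` -/
theorem H_eq_zero_of_finite (p m : ℕ) [Fact p.Prime] (N : ℕ) : ∀ (k : Type u) [Field k], ZpVanish k p m →
    ∀ F : EtCoh.Ab (Spec (CommRingCat.of k)), IsKilled p F →
      (∀ (Ω : Type u) [Field Ω] [IsSepClosed Ω] (ξ : Spec (CommRingCat.of Ω) ⟶ Spec (CommRingCat.of k)),
        Finite ((EtCoh.stalk ξ).obj F) ∧ Nat.card ((EtCoh.stalk ξ).obj F) ≤ N) →
      ∀ x : EtCoh.H (Spec (CommRingCat.of k)) F m, x = 0 := by
  induction N with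
  | zero =>
    intro k _ hk F hF hfin x
    exfalso
    obtain ⟨h1, h2⟩ := hfin (SeparableClosure k) (specOver k (SeparableClosure k))
    exact Nat.card_pos.ne' (Nat.le_zero.1 h2)
  | succ N ih =>
    intro k _ hk F hF hfin x
    by_cases hz : IsZero F
    · rw [← Ext.comp_mk₀_id x, (IsZero.iff_id_eq_zero F).1 hz, Ext.mk₀_zero, Ext.comp_zero]
    obtain ⟨M, _, _, _, _, s, hs⟩ := exists_galois_section F hz
    obtain ⟨L, _, _, _, _, _, _, _, _, hL, hPG⟩ := exists_sylow_field k p M
    let F' := (EtCoh.pull (specOver k L)).obj F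
    have hF' : IsKilled p F' := hF.map _
    let c : (EtShriek.compEtale (π (extObj k L))).obj (extObj L M) ≅ extObj k M :=
      MorphismProperty.Over.isoMk (Iso.refl _) (by
        show 𝟙 _ ≫ Spec.map (CommRingCat.ofHom (algebraMap k M)) =
          Spec.map (CommRingCat.ofHom (algebraMap L M)) ≫ Spec.map (CommRingCat.ofHom (algebraMap k L))
        rw [Category.id_comp, ← Spec.map_comp, ← CommRingCat.ofHom_comp, ← IsScalarTower.algebraMap_eq])
    let s₁ : EtCoh.sect ((EtShriek.restrAlong (π (extObj k L))).obj F) (extObj L M) := F.obj.map c.hom.op s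
    let s' : EtCoh.sect F' (extObj L M) := ((restrIso (extObj k L)).hom.app F).hom.app (op (extObj L M)) s₁
    have hs' : s' ≠ 0 := fun h => hs (by
      have h' := congrArg (((restrIso (extObj k L)).inv.app F).hom.app (op (extObj L M))) h
      have h'' : s₁ = 0 :=
        ((congrArg (fun t : (EtShriek.restrAlong (π (extObj k L))).obj F ⟶ _ => t.hom.app (op (extObj L M)) s₁)
          ((restrIso (extObj k L)).hom_inv_id_app F)).symm.trans (h'.trans (map_zero _)))
      have h3 : F.obj.map c.inv.op (F.obj.map c.hom.op s) = 0 :=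
        (congrArg (F.obj.map c.inv.op) h'').trans (map_zero _)
      rw [hom_comp_map F, c.inv_hom_id, id_map] at h3
      exact h3)
    obtain ⟨w, hw⟩ := exists_global_section p F' (sect_nsmul_eq_zero hF') M hPG s' hs'
    let φ := fromConst p F' w (sect_nsmul_eq_zero hF' _ w)
    haveI : Mono φ := mono_fromConst p F' w _ hw
    let S := ShortComplex.mk φ (cokernel.π φ) (cokernel.condition _)
    have hS : S.ShortExact := { exact := ShortComplex.exact_of_g_is_cokernel _ (cokernelIsCokernel φ) }
    have hfin' : ∀ (Ω : Type u) [Field Ω] [IsSepClosed Ω] (ξ : Spec (CommRingCat.of Ω) ⟶ Spec (CommRingCat.of L)),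
        Finite ((EtCoh.stalk ξ).obj (cokernel φ)) ∧ Nat.card ((EtCoh.stalk ξ).obj (cokernel φ)) ≤ N := by
      intro Ω _ _ ξ
      obtain ⟨h1, h2⟩ := hfin Ω (ξ ≫ specOver k L)
      let e := ((EtFound.stalkPullIso (specOver k L) ξ).app F).addCommGroupIsoToAddEquiv
      haveI : Finite ((EtCoh.stalk ξ).obj F') := Finite.of_equiv _ e.symm.toEquiv
      obtain ⟨h3, h4⟩ := card_stalk_cokernel L p φ ξ
      refine ⟨h3, ?_⟩
      have h5 : Nat.card ((EtCoh.stalk ξ).obj F') ≤ N + 1 := (Nat.card_congr e.toEquiv).trans_le h2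
      omega
    haveI := EtFound.pull_preservesFiniteLimits (specOver k L)
    have h0 : EtCore.Hpull (specOver k L) F m x = 0 := by
      obtain ⟨a, ha⟩ := Ext.covariant_sequence_exact₂ _ hS (EtCore.Hpull (specOver k L) F m x)
        (ih L (hk.tower L hL) _ (hF'.of_epi (cokernel.π φ)) hfin' _)
      rw [← ha, hk L hL a, Ext.zero_comp]
    exact eq_zero_of_coprime_smul ((Fact.out : p.Prime).coprime_iff_not_dvd.2 hL) (hF.ext x)
      (finrank_nsmul_eq_zero (L := L) x ((Hpull_eq_zero_iff (specOver k L) F m x).1 h0))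

end Groth.Agent.GalEt
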