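import Groth.Agent.GalEt.BrauerCyclic
import Groth.Agent.GalEt.Devissage
import Groth.Agent.GalEt.ConstSeq
import Groth.Agent.EtLC12.MuConst
import Groth.Agent.S0108
import Mathlib.GroupTheory.IndexNormal
import Mathlib.RingTheory.RootsOfUnity.AlgebraicallyClosed

/-!
# `p`-torsion of Brauer groups and surjectivity of norms
-/

universe u

open CategoryTheory CategoryTheory.Limits AlgebraicGeometry Opposite CategoryTheory.Abelian

namespace Groth.Agent.GalEt

set_option backward.isDefEq.respectTransparency.types false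
set_option synthInstance.maxHeartbeats 400000
set_option maxHeartbeats 1000000

theorem pullExt_comp {X Y : Scheme.{u}} (f : Y ⟶ X) {A B C : EtCoh.Ab X} {a b c : ℕ}
    (α : Ext A B a) (β : Ext B C b) (h : a + b = c) :
    pullExt f (α.comp β h) = (pullExt f α).comp (pullExt f β) h := by
  haveI := EtFound.pull_preservesFiniteLimits f
  exact Ext.mapExactFunctor_comp _ _ _ _

theorem pullExt_mk₀ {X Y : Scheme.{u}} (f : Y ⟶ X) {A B : EtCoh.Ab X} (a : A ⟶ B) :
    pullExt f (Ext.mk₀ a) = Ext.mk₀ ((EtCoh.pull f).map a) := by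
  haveI := EtFound.pull_preservesFiniteLimits f
  exact Ext.mapExactFunctor_mk₀ _ _

theorem pullExt_mk₀_iso_comp_eq_zero {X Y : Scheme.{u}} (f : Y ⟶ X) {A A' B B' : EtCoh.Ab X} {n : ℕ}
    (i : A' ≅ A) (j : B ≅ B') (α : Ext A B n) :
    pullExt f (((Ext.mk₀ i.hom).comp α (zero_add n)).comp (Ext.mk₀ j.hom) (add_zero n)) = 0 ↔ pullExt f α = 0 := by
  rw [pullExt_comp, pullExt_comp, pullExt_mk₀, pullExt_mk₀]
  refine ⟨fun h => ?_, fun h => by rw [h, Ext.comp_zero, Ext.zero_comp]⟩
  refine eq_zero_of_mk₀_iso_comp ((EtCoh.pull f).mapIso i) _ ?_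
  have h' := congrArg (fun e : Ext ((EtCoh.pull f).obj A') ((EtCoh.pull f).obj B') n =>
    e.comp (Ext.mk₀ ((EtCoh.pull f).mapIso j).inv) (add_zero n)) h
  simp only [Ext.zero_comp] at h'
  refine Eq.trans ?_ h'
  refine Eq.trans ?_ (Ext.comp_assoc_of_third_deg_zero _ _ _ (add_zero n)).symm
  refine Eq.trans ?_ (congrArg (fun e => Ext.comp _ e (add_zero n))
    ((Ext.mk₀_comp_mk₀ _ _).trans (congrArg Ext.mk₀ ((EtCoh.pull f).mapIso j).hom_inv_id))).symm
  exact (Ext.comp_mk₀_id _).symm

variable {k : Type u} [Field k]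

section Gm

variable (L : Type u) [Field L] [Algebra k L] [FiniteDimensional k L] [Algebra.IsSeparable k L]

/-- restriction of `G_m` to a finite separable extension -/
noncomputable def restrGm : (EtShriek.restrAlong (π (extObj k L))).obj (EtCoh.Gm (Spec (CommRingCat.of k))) ≅
    EtCoh.Gm (Spec (CommRingCat.of L)) :=
  (fullyFaithfulSheafToPresheaf _ _).preimageIso (NatIso.ofComponents (fun V => Iso.refl _) fun {V W} g => by
    simp only [Iso.refl_hom, Category.comp_id, Category.id_comp]
    rfl)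

/-- `π^{-1} G_m = G_m` -/
noncomputable def pullGm : (EtCoh.pull (specOver k L)).obj (EtCoh.Gm (Spec (CommRingCat.of k))) ≅
    EtCoh.Gm (Spec (CommRingCat.of L)) :=
  (restrIso (extObj k L)).symm.app _ ≪≫ restrGm L

/-- the image of a Brauer class over a finite separable extension -/
noncomputable def gmClass {n : ℕ} (y : EtCoh.H (Spec (CommRingCat.of k)) (EtCoh.Gm (Spec (CommRingCat.of k))) n) :
    EtCoh.H (Spec (CommRingCat.of L)) (EtCoh.Gm (Spec (CommRingCat.of L))) n :=
  ((Ext.mk₀ (EtCore.pullConst (specOver k L) ℤ).inv).comp (pullExt (specOver k L) y) (zero_add n)).comp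
    (Ext.mk₀ (pullGm (k := k) L).hom) (add_zero n)

theorem gmClass_nsmul {n : ℕ} (m : ℕ)
    (y : EtCoh.H (Spec (CommRingCat.of k)) (EtCoh.Gm (Spec (CommRingCat.of k))) n) (h : m • y = 0) :
    m • gmClass L y = 0 := by
  rw [gmClass, ← comp_nsmul_id, Ext.comp_assoc_of_third_deg_zero, Ext.mk₀_comp_mk₀, Preadditive.comp_nsmul,
    Category.comp_id, ← Category.id_comp (pullGm (k := k) L).hom, ← Preadditive.nsmul_comp, ← Ext.mk₀_comp_mk₀,
    ← Ext.comp_assoc_of_third_deg_zero, Ext.comp_assoc_of_third_deg_zero _ (pullExt _ y), comp_nsmul_id,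
    ← pullExt_nsmul, h, pullExt_zero, Ext.comp_zero, Ext.zero_comp]

theorem pullExt_eq_zero_of_gmClass {n : ℕ}
    (y : EtCoh.H (Spec (CommRingCat.of k)) (EtCoh.Gm (Spec (CommRingCat.of k))) n) (h : gmClass L y = 0) :
    pullExt (specOver k L) y = 0 := by
  refine eq_zero_of_mk₀_iso_comp (EtCore.pullConst (specOver k L) ℤ).symm _ ?_
  have h' := congrArg (fun e : EtCoh.H (Spec (CommRingCat.of L)) (EtCoh.Gm (Spec (CommRingCat.of L))) n =>
    e.comp (Ext.mk₀ (pullGm (k := k) L).inv) (add_zero n)) h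
  simp only [gmClass, Ext.zero_comp] at h'
  refine Eq.trans ?_ h'
  refine Eq.trans ?_ (Ext.comp_assoc_of_third_deg_zero _ _ _ (add_zero n)).symm
  refine Eq.trans ?_ (congrArg (fun e => Ext.comp _ e (add_zero n))
    ((Ext.mk₀_comp_mk₀ _ _).trans (congrArg Ext.mk₀ (pullGm (k := k) L).hom_inv_id))).symm
  exact (Ext.comp_mk₀_id _).symm

theorem pullExt_gmClass (M : Type u) [Field M] [Algebra k M] [Algebra L M] [IsScalarTower k L M] {n : ℕ}
    (y : EtCoh.H (Spec (CommRingCat.of k)) (EtCoh.Gm (Spec (CommRingCat.of k))) n)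
    (h : pullExt (specOver k M) y = 0) : pullExt (specOver L M) (gmClass L y) = 0 :=
  (pullExt_mk₀_iso_comp_eq_zero (specOver L M) (EtCore.pullConst (specOver k L) ℤ).symm (pullGm (k := k) L) _).2
    (killed_tower k L M y h)

end Gm

variable (p : ℕ) [Fact p.Prime]

/-- norms from cyclic extensions of degree `p` of separable extensions of `k` are surjective -/
def NormSurj (k : Type u) [Field k] (p : ℕ) : Prop :=
  ∀ (K : Type u) [Field K] [Algebra k K] [Algebra.IsSeparable k K]
    (L : Type u) [Field L] [Algebra K L] [FiniteDimensional K L] [IsGalois K L],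
    Module.finrank K L = p → ∀ x : K, x ≠ 0 → ∃ y : L, Algebra.norm K y = x

theorem NormSurj.tower {p : ℕ} (h : NormSurj k p) (k' : Type u) [Field k'] [Algebra k k'] [Algebra.IsSeparable k k'] :
    NormSurj k' p := by
  intro K _ _ _ L _ _ _ _ hL x hx
  letI : Algebra k K := ((algebraMap k' K).comp (algebraMap k k')).toAlgebra
  haveI : IsScalarTower k k' K := IsScalarTower.of_algebraMap_eq fun _ => rfl
  haveI : Algebra.IsSeparable k K := Algebra.IsSeparable.trans k k' K
  exact h K L hL x hx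

theorem exists_cyclic_step {G : Type*} [Group G] [Finite G] (hG : IsPGroup p G) (hn : Nat.card G ≠ 1) :
    ∃ N : Subgroup G, N.Normal ∧ N.index = p ∧ Nat.card N < Nat.card G := by
  obtain ⟨a, ha⟩ := hG.exists_card_eq
  have hp := (Fact.out : p.Prime)
  obtain ⟨b, rfl⟩ : ∃ b, a = b + 1 := ⟨a - 1, by
    rcases a with _ | a
    · rw [pow_zero] at ha; exact absurd ha hn
    · rfl⟩
  obtain ⟨N, hN⟩ := Sylow.exists_subgroup_card_pow_prime (G := G) p (n := b)
    (ha ▸ pow_dvd_pow p (Nat.le_succ b))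
  have hidx : N.index = p := by
    have h := N.index_mul_card
    rw [hN, ha, pow_succ'] at h
    exact Nat.eq_of_mul_eq_mul_right (pow_pos hp.pos b) h
  refine ⟨N, Subgroup.normal_of_index_eq_minFac_card ?_, hidx, ?_⟩
  · rw [hidx, ha, Nat.pow_minFac (Nat.succ_ne_zero b), hp.minFac_eq]
  · rw [hN, ha]
    exact Nat.pow_lt_pow_right hp.one_lt (Nat.lt_succ_self b)

theorem eq_zero_of_killed_pGroup (N : ℕ) : ∀ (F : Type u) [Field F], NormSurj F p →
    ∀ (M : Type u) [Field M] [Algebra F M] [FiniteDimensional F M] [IsGalois F M],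
      IsPGroup p Gal(M/F) → Nat.card Gal(M/F) = N →
      ∀ (y : EtCoh.H (Spec (CommRingCat.of F)) (EtCoh.Gm (Spec (CommRingCat.of F))) 2),
        pullExt (specOver F M) y = 0 → y = 0 := by
  induction N using Nat.strong_induction_on with
  | _ N ih =>
    intro F _ hF M _ _ _ _ hG hN y hy
    haveI : Finite Gal(M/F) := inferInstance
    by_cases h1 : Nat.card Gal(M/F) = 1
    · have := finrank_nsmul_eq_zero (L := M) y hy
      rwa [← IsGalois.card_aut_eq_finrank, h1, one_nsmul] at this
    obtain ⟨H, hHn, hHi, hHc⟩ := exists_cyclic_step p hG h1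
    let E : IntermediateField F M := IntermediateField.fixedField H
    haveI : IsGalois F E := IsGalois.of_fixedField_normal_subgroup H
    haveI : IsGalois E M := IsGalois.tower_top_of_isGalois F E M
    have hEM : Nat.card Gal(M/E) = Nat.card H :=
      (IsGalois.card_aut_eq_finrank E M).trans (IntermediateField.finrank_fixedField_eq_card H)
    have hdeg : Module.finrank F E = p := by
      have h : Module.finrank F E * Module.finrank E M = Module.finrank F M := Module.finrank_mul_finrank F E M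
      rw [IntermediateField.finrank_fixedField_eq_card, ← IsGalois.card_aut_eq_finrank F M, ← H.index_mul_card,
        hHi] at h
      exact Nat.eq_of_mul_eq_mul_right Nat.card_pos h
    have hEG : IsPGroup p Gal(M/E) := by
      obtain ⟨a, ha⟩ := (hG.to_subgroup H).exists_card_eq
      exact IsPGroup.of_card (hEM.trans ha)
    have h0 : gmClass (k := F) E y = 0 :=
      ih _ (by rw [hEM, ← hN]; exact hHc) E (hF.tower E) M hEG rfl _ (pullExt_gmClass E M y hy)
    haveI : Fact (Nat.card Gal(E/F)).Prime := ⟨by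
      rw [IsGalois.card_aut_eq_finrank, hdeg]; exact Fact.out⟩
    haveI : Nontrivial Gal(E/F) := Finite.one_lt_card_iff_nontrivial.1 (Fact.out : (Nat.card Gal(E/F)).Prime).one_lt
    obtain ⟨σ, hσ⟩ := exists_ne (1 : Gal(E/F))
    haveI : Fact p.Prime := inferInstance
    exact brauer_eq_zero_of_norm E σ (fun g => mem_zpowers_of_prime_card rfl hσ)
      (hF F E hdeg) y (pullExt_eq_zero_of_gmClass E y h0)

/-- surjective norms kill the `p`-torsion of the Brauer group -/
theorem brauer_torsion_eq_zero (hk : NormSurj k p)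
    (y : EtCoh.H (Spec (CommRingCat.of k)) (EtCoh.Gm (Spec (CommRingCat.of k))) 2) (hy : p • y = 0) : y = 0 := by
  obtain ⟨L, _, _, _, _, hL⟩ := exists_killed k _ 1 y
  let M := galClosure k L
  have hM : pullExt (specOver k M) y = 0 := killed_mono k (toGalClosure k L) y hL
  obtain ⟨F, _, _, _, _, _, _, _, _, hF, hG⟩ := exists_sylow_field k p M
  have h0 : gmClass F y = 0 := eq_zero_of_killed_pGroup p _ F (hk.tower F) M hG rfl _ (pullExt_gmClass F M y hM)
  exact eq_zero_of_coprime_smul ((Fact.out : p.Prime).coprime_iff_not_dvd.2 hF) hy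
    (finrank_nsmul_eq_zero (L := F) y (pullExt_eq_zero_of_gmClass F y h0))

/-- the Kummer sequence -/
noncomputable def kumSeq (X : Scheme.{u}) (n : ℕ) : ShortComplex (EtCoh.Ab X) :=
  ShortComplex.mk (EtCoh.muι X n) (EtCoh.powMap X n) (kernel.condition _)

theorem shortExact_kumSeq (K : Type u) [Field K] (n : ℕ) (hn : (n : K) ≠ 0) :
    (kumSeq (Spec (CommRingCat.of K)) n).ShortExact := by
  have h : IsUnit (n : Γ(Spec (CommRingCat.of K), ⊤)) := by
    rw [← map_natCast (Scheme.ΓSpecIso (CommRingCat.of K)).inv.hom n]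
    exact (IsUnit.mk0 _ hn).map _
  haveI : Epi (kumSeq (Spec (CommRingCat.of K)) n).g := S0108.result _ n h
  exact
    { exact := ShortComplex.exact_of_f_is_kernel _ (kernelIsKernel (EtCoh.powMap (Spec (CommRingCat.of K)) n))
      mono_f := inferInstanceAs (Mono (kernel.ι _)) }

theorem isKilled_mu (X : Scheme.{u}) (n : ℕ) : IsKilled n (EtCoh.mu X n) := isKilled_kernel n (EtCoh.Gm X)

theorem isKilled_const_zmod (X : Scheme.{u}) : IsKilled p (EtCoh.const X (ZMod p)) := by
  refine IsKilled.map (constF X) (B := AddCommGrpCat.of (ULift.{u + 1} (ZMod p))) ?_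
  refine AddCommGrpCat.ext fun x => ?_
  refine ULift.ext _ _ ?_
  simp

variable {p}

/-- with `μ_p` in the field, `H^2` of `ℤ/p` embeds into the Brauer group -/
theorem H_zp_eq_zero_of_root (K : Type u) [Field K] (hp : (p : K) ≠ 0) (ζ : K) (hζ : IsPrimitiveRoot ζ p)
    (hBr : ∀ y : EtCoh.H (Spec (CommRingCat.of K)) (EtCoh.Gm (Spec (CommRingCat.of K))) 2, p • y = 0 → y = 0)
    (x : EtCoh.H (Spec (CommRingCat.of K)) (EtCoh.const (Spec (CommRingCat.of K)) (ZMod p)) 2) : x = 0 := by
  let X := Spec (CommRingCat.of K)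
  haveI : NeZero p := ⟨(Fact.out : p.Prime).ne_zero⟩
  have hu : IsUnit (p : Γ(X, ⊤)) := by
    rw [← map_natCast (Scheme.ΓSpecIso (CommRingCat.of K)).inv.hom p]
    exact (IsUnit.mk0 _ hp).map _
  let ζ' : Γ(X, ⊤) := (Scheme.ΓSpecIso (CommRingCat.of K)).inv.hom ζ
  have hζ' : Polynomial.aeval ζ' (Polynomial.cyclotomic p ℤ) = 0 := by
    have h := Polynomial.aeval_algHom_apply (Scheme.ΓSpecIso (CommRingCat.of K)).inv.hom.toIntAlgHom ζ
      (Polynomial.cyclotomic p ℤ)
    refine h.trans ?_
    have h2 : Polynomial.aeval ζ (Polynomial.cyclotomic p ℤ) = 0 := by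
      rw [Polynomial.aeval_def, Polynomial.eval₂_eq_eval_map, Polynomial.map_cyclotomic]
      exact hζ.isRoot_cyclotomic (Fact.out : p.Prime).pos
    rw [h2, map_zero]
  obtain ⟨e⟩ := EtLC12.MuConst.nonempty_mu_iso_const hu ζ' hζ'
  let x' := x.comp (Ext.mk₀ e.inv) (add_zero 2)
  have hx' : x' = 0 := by
    have hS := shortExact_kumSeq K p hp
    have h0 : x'.comp (Ext.mk₀ (EtCoh.muι X p)) (add_zero 2) = 0 := by
      refine hBr _ ?_
      rw [← comp_nsmul_id]
      refine (Ext.comp_assoc_of_third_deg_zero _ _ _ (add_zero 2)).trans ?_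
      refine (congrArg (fun t => Ext.comp x' t (add_zero 2)) ((Ext.mk₀_comp_mk₀ _ _).trans
        ((congrArg Ext.mk₀ (kernel.condition (EtCoh.powMap X p))).trans (Ext.mk₀_zero _ _)))).trans ?_
      exact Ext.comp_zero _ _ _ _ _
    obtain ⟨β, hβ⟩ := Ext.covariant_sequence_exact₁ _ hS x' h0 (n₀ := 1) rfl
    have hβ0 : β = 0 := H_one_eq_zero K _ (galH1Trivial_Gm K) β
    exact hβ.symm.trans ((congrArg (fun t => Ext.comp t hS.extClass rfl) hβ0).trans (Ext.zero_comp _ _ _ _ _))
  have h := congrArg (fun z : EtCoh.H X (EtCoh.mu X p) 2 => z.comp (Ext.mk₀ e.hom) (add_zero 2)) hx'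
  simpa [x'] using h

/-- `p`-torsion of the Brauer groups vanishes, so `H^2` of `ℤ/p` vanishes -/
theorem zpVanish_of_normSurj (hp : (p : k) ≠ 0) (hk : NormSurj k p) : ZpVanish k p 2 := by
  intro L _ _ _ _ _ x
  have hpL : (p : L) ≠ 0 := fun h => hp ((algebraMap k L).injective (by rw [map_natCast, h, map_zero]))
  haveI : NeZero (p : L) := ⟨hpL⟩
  haveI : NeZero (p : SeparableClosure L) := ⟨fun h => hpL ((algebraMap L (SeparableClosure L)).injective
    (by rw [map_natCast, h, map_zero]))⟩
  obtain ⟨ζ, hζ⟩ := HasEnoughRootsOfUnity.exists_primitiveRoot (SeparableClosure L) p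
  let L' : IntermediateField L (SeparableClosure L) := IntermediateField.adjoin L {ζ}
  have hint : IsIntegral L ζ := Algebra.IsIntegral.isIntegral ζ
  haveI : FiniteDimensional L L' := IntermediateField.adjoin.finiteDimensional hint
  haveI : Algebra.IsSeparable L L' := Algebra.isSeparable_tower_bot_of_isSeparable L _ (SeparableClosure L)
  have hdeg : ¬ p ∣ Module.finrank L L' := by
    have hle : Module.finrank L L' ≤ p - 1 := by
      rw [IntermediateField.adjoin.finrank hint]
      refine (Polynomial.natDegree_le_of_dvd (minpoly.dvd L ζ (p := Polynomial.cyclotomic p L) ?_)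
        (Polynomial.cyclotomic_ne_zero p L)).trans ?_
      · rw [Polynomial.aeval_def, Polynomial.eval₂_eq_eval_map, Polynomial.map_cyclotomic]
        exact hζ.isRoot_cyclotomic (Fact.out : p.Prime).pos
      · rw [Polynomial.natDegree_cyclotomic, Nat.totient_prime Fact.out]
    exact fun hd => absurd (Nat.le_of_dvd Module.finrank_pos hd) (by
      have := (Fact.out : p.Prime).one_lt; omega)
  let ζ₀ : L' := ⟨ζ, IntermediateField.mem_adjoin_simple_self L ζ⟩
  have hζ₀ : IsPrimitiveRoot ζ₀ p := hζ.of_map_of_injective (f := L'.val) (RingHom.injective _)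
  letI : Algebra k L' := ((algebraMap L L').comp (algebraMap k L)).toAlgebra
  haveI : IsScalarTower k L L' := IsScalarTower.of_algebraMap_eq fun _ => rfl
  haveI : Algebra.IsSeparable k L' := Algebra.IsSeparable.trans k L L'
  let f := specOver L L'
  haveI := EtFound.pull_preservesFiniteLimits f
  have h1 : pullExt f x = 0 := by
    refine (Hpull_eq_zero_iff f _ 2 x).1 ?_
    have h2 := H_zp_eq_zero_of_root (L' : Type u) (fun h => hpL ((algebraMap L L').injective
      (by rw [map_natCast, h, map_zero]))) ζ₀ hζ₀ (brauer_torsion_eq_zero p (hk.tower L'))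
      ((EtCore.Hpull f _ 2 x).comp (Ext.mk₀ (EtCore.pullConst f (ZMod p)).hom) (add_zero 2))
    have h3 := congrArg (fun z : EtCoh.H (Spec (CommRingCat.of L')) (EtCoh.const (Spec (CommRingCat.of L')) (ZMod p)) 2 =>
      z.comp (Ext.mk₀ (EtCore.pullConst f (ZMod p)).inv) (add_zero 2)) h2
    simpa using h3
  exact eq_zero_of_coprime_smul ((Fact.out : p.Prime).coprime_iff_not_dvd.2 hdeg)
    ((isKilled_const_zmod p (Spec (CommRingCat.of L))).ext x) (finrank_nsmul_eq_zero (L := L') x h1)

end Groth.Agent.GalEt
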