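import Groth.Agent.GalEt.ConstPush
import Groth.Agent.GalEt.BrauerVanish
import Groth.Agent.EtMVLib.MV
import Groth.Agent.BrauerXPoint.Torsion

/-!
# Rational cohomology of normal schemes
-/

universe u

open CategoryTheory CategoryTheory.Limits AlgebraicGeometry Opposite CategoryTheory.Abelian

namespace Groth.Agent.GalEt

set_option backward.isDefEq.respectTransparency.types false
set_option synthInstance.maxHeartbeats 400000
set_option maxHeartbeats 1000000

theorem H_eq_zero_of_isEmpty {X : Scheme.{u}} [IsEmpty X] (F : EtCoh.Ab X) (n : ℕ) (x : EtCoh.H X F n) :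
    x = 0 := by
  have hF : IsZero F := (EtFound.isZero_iff_stalks F).2 fun _ _ _ ξ => IsEmpty.elim ‹_› (ξ.base default)
  rw [← Ext.comp_mk₀_id x, (IsZero.iff_id_eq_zero F).1 hF, Ext.mk₀_zero, Ext.comp_zero]

/-- a class killed on both parts of a disjoint open cover is zero -/
theorem eq_zero_of_split (X : Scheme.{u}) (U V : X.Opens) (hUV : U ⊔ V = ⊤) (hd : U ⊓ V = ⊥) (F : EtCoh.Ab X)
    (n : ℕ) (x : EtCoh.H X F (n + 1)) (hU : pullExt U.ι x = 0) (hV : pullExt V.ι x = 0) : x = 0 := by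
  haveI := EtFound.pull_preservesFiniteLimits U.ι
  haveI := EtFound.pull_preservesFiniteLimits V.ι
  haveI := EtFound.pull_preservesFiniteLimits (X.homOfLE (inf_le_left : U ⊓ V ≤ U))
  haveI := EtFound.pull_preservesFiniteLimits (X.homOfLE (inf_le_right : U ⊓ V ≤ V))
  obtain ⟨δ, -, h, -, -⟩ := EtMVLib.mayerVietoris X U V hUV F
  haveI : IsEmpty ↑(U ⊓ V).toScheme := ⟨fun p => by
    have h : p.1 ∈ (⊥ : X.Opens) := hd ▸ (show p.1 ∈ U ⊓ V from p.2)
    exact h⟩
  have hx : x ∈ (δ n).range := by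
    rw [← h n]
    exact Prod.ext ((Hpull_eq_zero_iff U.ι F (n + 1) x).2 hU) ((Hpull_eq_zero_iff V.ι F (n + 1) x).2 hV)
  obtain ⟨y, rfl⟩ := hx
  rw [H_eq_zero_of_isEmpty _ n y, map_zero]

theorem killed_sup {X : Scheme.{u}} {O₁ O₂ : X.Opens} (hd : O₁ ⊓ O₂ = ⊥) {F : EtCoh.Ab X} {n : ℕ}
    (x : EtCoh.H X F (n + 1)) (h₁ : pullExt O₁.ι x = 0) (h₂ : pullExt O₂.ι x = 0) :
    pullExt (O₁ ⊔ O₂).ι x = 0 := by
  let O := O₁ ⊔ O₂
  haveI := EtFound.pull_preservesFiniteLimits O.ι
  refine (Hpull_eq_zero_iff O.ι F (n + 1) x).1 ?_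
  have key : ∀ P : X.Opens, pullExt P.ι x = 0 →
      pullExt (O.ι ⁻¹ᵁ P).ι (EtCore.Hpull O.ι F (n + 1) x) = 0 := fun P hP => by
    let U := O.ι ⁻¹ᵁ P
    let g : U.toScheme ⟶ P.toScheme := IsOpenImmersion.lift P.ι (U.ι ≫ O.ι) (by
      rintro _ ⟨p, rfl⟩
      rw [Scheme.Opens.range_ι]
      exact p.2)
    have e := IsOpenImmersion.lift_fac P.ι (U.ι ≫ O.ι) (by
      rintro _ ⟨p, rfl⟩
      rw [Scheme.Opens.range_ι]
      exact p.2)
    have h0 : pullExt (U.ι ≫ O.ι) x = 0 :=
      (pullExt_eq_zero_of_comp e x).1 (by rw [hP, pullExt_zero])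
    show pullExt U.ι ((Ext.mk₀ (EtCore.pullConst O.ι ℤ).inv).comp (pullExt O.ι x) (zero_add (n + 1))) = 0
    rw [pullExt_comp, (pullExt_eq_zero_of_comp rfl x).2 h0, Ext.comp_zero]
  refine eq_zero_of_split _ (O.ι ⁻¹ᵁ O₁) (O.ι ⁻¹ᵁ O₂) ?_ ?_ _ n _ (key O₁ h₁) (key O₂ h₂)
  · rw [← Scheme.Hom.preimage_sup, Scheme.Opens.ι_preimage_self]
  · rw [← Scheme.Hom.preimage_inf, hd, Scheme.Hom.preimage_bot]

theorem eq_zero_of_killed_top {X : Scheme.{u}} {F : EtCoh.Ab X} {n : ℕ} (x : EtCoh.H X F (n + 1))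
    (h : pullExt (⊤ : X.Opens).ι x = 0) : x = 0 := by
  haveI : IsEmpty (⊥ : X.Opens).toScheme := ⟨fun p => p.2⟩
  haveI := EtFound.pull_preservesFiniteLimits (⊥ : X.Opens).ι
  refine eq_zero_of_split X ⊤ ⊥ (by simp) (by simp) F n x h ?_
  exact (Hpull_eq_zero_iff (⊥ : X.Opens).ι F (n + 1) x).1 (H_eq_zero_of_isEmpty _ _ _)

/-- rational cohomology of a normal integral scheme -/
theorem H_rat_eq_zero_of_integral (X : Scheme.{u}) [IsIntegral X] [CompactSpace X] [QuasiSeparatedSpace X]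
    (hN : ∀ x : X, IsIntegrallyClosed (X.presheaf.stalk x)) [QuasiCompact (X.fromSpecStalk (genericPoint X))] (n : ℕ)
    (x : EtCoh.H X (EtCoh.const X ℚ) (n + 1)) : x = 0 := by
  let f := X.fromSpecStalk (genericPoint X)
  let η := (EtCoh.pullPushAdj f).unit.app (EtCoh.const X ℚ)
  haveI : IsIso η := isIso_unit_const_genericPoint hN ℚ
  letI : Field (X.presheaf.stalk (genericPoint X)) := inferInstanceAs (Field X.functionField)
  have ht := BrauerXPoint.isAddTorsion_H_push (k := X.presheaf.stalk (genericPoint X)) f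
    ((EtCoh.pull f).obj (EtCoh.const X ℚ)) n (x.comp (Ext.mk₀ η) (add_zero _))
  obtain ⟨m, hm, hm'⟩ := isOfFinAddOrder_iff_nsmul_eq_zero.1 ht
  refine eq_zero_of_isIso_nsmul (isIso_nsmul_const_rat X hm) ?_
  have h := congrArg (fun e : EtCoh.H X ((EtCoh.push f).obj ((EtCoh.pull f).obj (EtCoh.const X ℚ))) (n + 1) =>
    e.comp (Ext.mk₀ (inv η)) (add_zero _)) hm'
  simp only [Ext.zero_comp] at h
  refine Eq.trans ?_ h
  rw [← comp_nsmul_id x, ← comp_nsmul_id (x.comp (Ext.mk₀ η) (add_zero _))]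
  simp [Ext.mk₀_comp_mk₀]

section

variable {X : Scheme.{u}} (hN : ∀ x : X, IsDomain (X.presheaf.stalk x) ∧ IsIntegrallyClosed (X.presheaf.stalk x))

include hN in
/-- at a point of a normal scheme only one irreducible component passes -/
theorem irreducibleComponent_unique {Z Z' : Set X} (hZ : Z ∈ irreducibleComponents X)
    (hZ' : Z' ∈ irreducibleComponents X) {x : X} (hx : x ∈ Z) (hx' : x ∈ Z') : Z = Z' := by
  haveI := (hN x).1
  let g₀ : X := (X.fromSpecStalk x) (⟨⊥, Ideal.isPrime_bot⟩ : PrimeSpectrum (X.presheaf.stalk x))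
  suffices key : ∀ W ∈ irreducibleComponents X, x ∈ W → W = closure {g₀} from (key Z hZ hx).trans (key Z' hZ' hx').symm
  intro W hW hxW
  have hWc := isClosed_of_mem_irreducibleComponents W hW
  obtain ⟨p, hp⟩ : hW.1.genericPoint ∈ Set.range (X.fromSpecStalk x).base := by
    rw [Scheme.range_fromSpecStalk]
    exact (hW.1.isGenericPoint_genericPoint hWc).specializes hxW
  have hs : g₀ ⤳ hW.1.genericPoint := hp ▸
    ((PrimeSpectrum.le_iff_specializes (⟨⊥, Ideal.isPrime_bot⟩ : PrimeSpectrum _) p).1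
      (bot_le (a := p.asIdeal))).map (X.fromSpecStalk x).continuous
  have h1 : W ⊆ closure {g₀} := by
    rw [← (hW.1.isGenericPoint_genericPoint hWc).def]
    exact (specializes_iff_closure_subset.1 hs)
  exact (h1.antisymm (hW.2 isIrreducible_singleton.closure h1))

end

/-- rational cohomology of a normal noetherian scheme -/
theorem H_rat_eq_zero_of_normal (X : Scheme.{u}) [IsLocallyNoetherian X] [CompactSpace X]
    (hN : ∀ x : X, IsDomain (X.presheaf.stalk x) ∧ IsIntegrallyClosed (X.presheaf.stalk x)) (n : ℕ)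
    (x : EtCoh.H X (EtCoh.const X ℚ) (n + 1)) : x = 0 := by
  classical
  haveI : IsNoetherian X := {}
  haveI : Finite (irreducibleComponents X) :=
    (TopologicalSpace.NoetherianSpace.finite_irreducibleComponents (α := X)).to_subtype
  let O : irreducibleComponents X → X.Opens := fun Z =>
    ⟨Z.1, by
      have e : (Z.1 : Set X) = (⋃ Z' ∈ {Z' : irreducibleComponents X | Z' ≠ Z}, Z'.1)ᶜ := by
        ext y
        refine ⟨fun hy hb => ?_, fun hy => ?_⟩
        · obtain ⟨Z', hne, hy'⟩ := Set.mem_iUnion₂.1 hb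
          exact hne (Subtype.ext (irreducibleComponent_unique hN Z'.2 Z.2 hy' hy))
        · by_contra hyZ
          exact hy (Set.mem_iUnion₂.2 ⟨⟨irreducibleComponent y, irreducibleComponent_mem_irreducibleComponents y⟩,
            fun h => hyZ (h ▸ mem_irreducibleComponent), mem_irreducibleComponent⟩)
      rw [e]
      exact ((Set.toFinite _).isClosed_biUnion fun Z' _ =>
        isClosed_of_mem_irreducibleComponents _ Z'.2).isOpen_compl⟩
  have hone : ∀ Z, pullExt (O Z).ι x = 0 := fun Z => by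
    let T := (O Z).toScheme
    haveI := EtFound.pull_preservesFiniteLimits (O Z).ι
    have hNT : ∀ t : T, IsDomain (T.presheaf.stalk t) ∧ IsIntegrallyClosed (T.presheaf.stalk t) := fun t =>
      (EtStalk.normal_stalk_iff (O Z).ι t).2 (hN _)
    haveI : ∀ t : T, _root_.IsReduced (T.presheaf.stalk t) := fun t =>
      haveI := (hNT t).1
      inferInstance
    haveI : IsReduced T := isReduced_of_isReduced_stalk T
    haveI : IrreducibleSpace T := Subtype.irreducibleSpace Z.2.1
    haveI : IsIntegral T := (isIntegral_iff_irreducibleSpace_and_isReduced T).2 ⟨inferInstance, inferInstance⟩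
    haveI : IsLocallyNoetherian T := isLocallyNoetherian_of_isOpenImmersion (O Z).ι
    haveI : CompactSpace T := isCompact_iff_compactSpace.1 (TopologicalSpace.NoetherianSpace.isCompact _)
    refine (Hpull_eq_zero_iff (O Z).ι _ (n + 1) x).1 ?_
    let e := EtCore.pullConst (O Z).ι ℚ
    have h0 := H_rat_eq_zero_of_integral T (fun t => (hNT t).2) n
      ((EtCore.Hpull (O Z).ι _ (n + 1) x).comp (Ext.mk₀ e.hom) (add_zero _))
    have h1 := congrArg (fun z : EtCoh.H T (EtCoh.const T ℚ) (n + 1) => z.comp (Ext.mk₀ e.inv) (add_zero _)) h0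
    simpa [e] using h1
  haveI := Fintype.ofFinite (irreducibleComponents X)
  have hall : ∀ s : Finset (irreducibleComponents X), pullExt (s.sup O).ι x = 0 := fun s => by
    induction s using Finset.induction with
    | empty =>
      haveI : IsEmpty (⊥ : X.Opens).toScheme := ⟨fun p => p.2⟩
      haveI := EtFound.pull_preservesFiniteLimits (⊥ : X.Opens).ι
      rw [Finset.sup_empty]
      exact (Hpull_eq_zero_iff (⊥ : X.Opens).ι _ (n + 1) x).1 (H_eq_zero_of_isEmpty _ _ _)
    | @insert Z s hZ ih =>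
      rw [Finset.sup_insert]
      refine killed_sup (disjoint_iff.1 (Finset.disjoint_sup_right.2 fun Z' hZ' => disjoint_iff.2 ?_)) x (hone Z) ih
      refine eq_bot_iff.2 fun y hy0 => ?_
      obtain ⟨hy, hy'⟩ := hy0
      exact (hZ ((Subtype.ext (irreducibleComponent_unique hN Z.2 Z'.2 hy hy') : Z = Z') ▸ hZ')).elim
  refine eq_zero_of_killed_top x ?_
  have htop : Finset.univ.sup O = ⊤ := top_le_iff.1 fun y _ =>
    (Finset.le_sup (f := O) (Finset.mem_univ (⟨irreducibleComponent y,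
      irreducibleComponent_mem_irreducibleComponents y⟩ : irreducibleComponents X))) mem_irreducibleComponent
  rw [← htop]
  exact hall _

end Groth.Agent.GalEt
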