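import Groth.Agent.EtMVLib.ExtTools

/-!
# Ext classes killed by an exact functor with an adjoint and a trace
-/

universe w v u

open CategoryTheory CategoryTheory.Limits CategoryTheory.Abelian

namespace Groth.Agent.GalEt

variable {C : Type u} [Category.{v} C] [Abelian C] [HasExt.{w} C] [EnoughInjectives C]

theorem mapExactFunctor_id {A B : C} {n : ℕ} (α : Ext A B n) : α.mapExactFunctor (𝟭 C) = α := by
  induction α using EtMVLib.ext_induction with
  | h0 A B f => exact Ext.mapExactFunctor_mk₀ (𝟭 C) f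
  | hs A hS β ih =>
    rw [Ext.mapExactFunctor_comp, ih, Ext.mapExactFunctor_extClass]
    rfl

variable {D : Type*} [Category* D] [Abelian D] [HasExt.{w} D] {L : C ⥤ D} {R : D ⥤ C} (adj : L ⊣ R)
  [L.Additive] [PreservesFiniteLimits L] [PreservesFiniteColimits L]
  [R.Additive] [PreservesFiniteLimits R] [PreservesFiniteColimits R]

include adj in
theorem comp_unit_eq_zero {A B : C} {n : ℕ} (α : Ext A B n) (h : α.mapExactFunctor L = 0) :
    α.comp (Ext.mk₀ (adj.unit.app B)) (add_zero n) = 0 := by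
  haveI : PreservesFiniteLimits (L ⋙ R) := comp_preservesFiniteLimits L R
  haveI : PreservesFiniteColimits (L ⋙ R) := comp_preservesFiniteColimits L R
  have := EtMVLib.mapExactFunctor_natTrans (𝟭 C) (L ⋙ R) adj.unit α
  rw [mapExactFunctor_id] at this
  refine this.trans ?_
  rw [EtMVLib.mapExactFunctor_functorComp, h, Ext.mapExactFunctor_zero, Ext.comp_zero]

include adj in
theorem nsmul_eq_zero_of_map_eq_zero {A B : C} {n : ℕ} (α : Ext A B n) (h : α.mapExactFunctor L = 0)
    (d : ℕ) (tr : R.obj (L.obj B) ⟶ B) (htr : adj.unit.app B ≫ tr = d • 𝟙 B) : d • α = 0 := by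
  have h1 : (α.comp (Ext.mk₀ (adj.unit.app B)) (add_zero n)).comp (Ext.mk₀ tr) (add_zero n) = 0 := by
    rw [comp_unit_eq_zero adj α h, Ext.zero_comp]
  rw [Ext.comp_assoc_of_third_deg_zero, Ext.mk₀_comp_mk₀, htr] at h1
  have h2 : ∀ m : ℕ, α.comp (Ext.mk₀ (m • 𝟙 B)) (add_zero n) = m • α := fun m => by
    induction m with
    | zero => rw [zero_smul, zero_smul, Ext.mk₀_zero, Ext.comp_zero]
    | succ m ih => rw [succ_nsmul, succ_nsmul, Ext.mk₀_add, Ext.comp_add, ih, Ext.comp_mk₀_id]
  rwa [h2] at h1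

end Groth.Agent.GalEt
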