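import Groth.Agent.GalEt.Cover
import Groth.Agent.GalEt.ExtKill
import Groth.Agent.EtLC12.AffineLocalAcyclic
import Groth.Agent.EtFound.PushExact

/-!
# The trace `π_* π^{-1} F → F` along a finite étale morphism split by a Galois object
-/

universe u

open CategoryTheory CategoryTheory.Limits AlgebraicGeometry Opposite CategoryTheory.Abelian

namespace Groth.Agent.GalEt

set_option backward.isDefEq.respectTransparency.types false

variable {X : Scheme.{u}} (T : X.Etale)

/-- the structure morphism -/
noncomputable abbrev π : T.left ⟶ X := T.hom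

instance etale_π : AlgebraicGeometry.Etale (π T) := T.prop

instance jCont_hom : EtShriek.JCont (π T) := EtFound.jCont (π T)

/-- `π^{-1}` is restriction along `π` -/
noncomputable abbrev restrIso : EtShriek.restrAlong (π T) ≅ EtCoh.pull (π T) :=
  EtLC12.AffineLocalAcyclic.restrIsoPull (π T)

/-- `compEtale ⊣ bc` -/
noncomputable abbrev compAdj : EtShriek.compEtale (π T) ⊣ EtCoh.bc (π T) :=
  MorphismProperty.Over.mapPullbackAdj EtCoh.etaleMP ⊤ (π T)
    (inferInstanceAs (AlgebraicGeometry.Etale (π T))) trivial

/-- the unit `F → π_*(F|T)` is the restriction -/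
theorem unit_restr_app (F : EtCoh.Ab X) (U : X.Etale) (s : EtCoh.sect F U) :
    ((((compAdj T).sheafPushforwardContinuous (E := AddCommGrpCat.{u + 1})
      T.left.smallEtaleTopology X.smallEtaleTopology).unit.app F).hom.app (op U)) s
      = F.obj.map (pr T U).op s := by
  show F.obj.map ((compAdj T).counit.app U).op s = _
  congr 4

/-- the unit of `π^{-1} ⊣ π_*` followed by the identification is the restriction -/
theorem unit_eq (F : EtCoh.Ab X) :
    (EtCoh.pullPushAdj (π T)).unit.app F ≫ (EtCoh.push (π T)).map ((restrIso T).inv.app F) =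
      ((compAdj T).sheafPushforwardContinuous (E := AddCommGrpCat.{u + 1})
        T.left.smallEtaleTopology X.smallEtaleTopology).unit.app F := by
  rw [← Adjunction.unit_leftAdjointUniq_hom_app
    ((compAdj T).sheafPushforwardContinuous (E := AddCommGrpCat.{u + 1})
      T.left.smallEtaleTopology X.smallEtaleTopology) (EtCoh.pullPushAdj (π T)) F,
    Category.assoc]
  have : (restrIso T).hom.app F ≫ (restrIso T).inv.app F = 𝟙 _ := by simp
  refine (congrArg (fun m => _ ≫ m) ((Functor.map_comp _ _ _).symm.trans
    (congrArg (EtCoh.push (π T)).map this))).trans ?_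
  simp

variable {T} {M : X.Etale} (hM : IsGaloisObj M) [Fintype (M ⟶ T)]

/-- the trace on restrictions -/
noncomputable def trRestr (F : EtCoh.Ab X) :
    (EtCoh.push (π T)).obj ((EtShriek.restrAlong (π T)).obj F) ⟶ F :=
  ⟨{ app := fun U => AddCommGrpCat.ofHom (hM.trace (T := T) F U.unop)
     naturality := fun U V g => by
       ext s
       exact hM.trace_naturality F g.unop s }⟩

/-- the trace `π_* π^{-1} F → F` -/
noncomputable def tr (F : EtCoh.Ab X) : (EtCoh.push (π T)).obj ((EtCoh.pull (π T)).obj F) ⟶ F :=
  (EtCoh.push (π T)).map ((restrIso T).inv.app F) ≫ trRestr hM F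

theorem hom_app_nsmul {F G : EtCoh.Ab X} (φ : F ⟶ G) (d : ℕ) (U : X.Etale) (s : EtCoh.sect F U) :
    (d • φ).hom.app (op U) s = d • φ.hom.app (op U) s := by
  induction d with
  | zero => rw [zero_smul, zero_smul]; rfl
  | succ d ih =>
    rw [succ_nsmul, succ_nsmul, ← ih]
    rfl

/-- the trace is split by the degree -/
theorem unit_tr (F : EtCoh.Ab X) :
    (EtCoh.pullPushAdj (π T)).unit.app F ≫ tr hM F = Fintype.card (M ⟶ T) • 𝟙 F := by
  rw [tr, ← Category.assoc, unit_eq]
  ext U s
  refine Eq.trans ?_ (hom_app_nsmul (𝟙 F) _ U.unop s).symm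
  refine (congrArg (hM.trace (T := T) F U.unop) (unit_restr_app T F U.unop s)).trans ?_
  exact hM.trace_res F U.unop s

include hM in
/-- a class killed by pullback to `T` is killed by the degree of `T` -/
theorem card_nsmul_eq_zero [IsIntegralHom (π T)] {A B : EtCoh.Ab X} {n : ℕ} (α : Ext A B n)
    [PreservesFiniteLimits (EtCoh.pull (π T))] (h : α.mapExactFunctor (EtCoh.pull (π T)) = 0) :
    Fintype.card (M ⟶ T) • α = 0 := by
  haveI := EtFound.push_preservesFiniteLimits (π T)
  haveI := EtFound.push_preservesFiniteColimits (π T)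
  exact nsmul_eq_zero_of_map_eq_zero (EtCoh.pullPushAdj (π T)) α h _ (tr hM B) (unit_tr hM B)

end Groth.Agent.GalEt
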