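import Groth.Agent.GalEt.H1
import Groth.Agent.EtFound.ConstStalk
import Mathlib.GroupTheory.PGroup

/-!
# Sheaves killed by `p`: invariant sections, constant subsheaves
-/

universe u

open CategoryTheory CategoryTheory.Limits AlgebraicGeometry Opposite

namespace Groth.Agent.GalEt

set_option backward.isDefEq.respectTransparency.types false

variable {k : Type u} [Field k]

/-- restriction to a nonempty étale scheme over a field is injective -/
theorem injective_res (F : EtCoh.Ab (Spec (CommRingCat.of k))) {U : (Spec (CommRingCat.of k)).Etale}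
    [Subsingleton U.left] {V : (Spec (CommRingCat.of k)).Etale} (g : V ⟶ U) (v : V.left)
    {s t : EtCoh.sect F U} (h : F.obj.map g.op s = F.obj.map g.op t) : s = t :=
  EtFound.eq_of_cover F _ _ ((EtFound.mem_topology_iff _).2 fun _ => ⟨V, g, v, h, Subsingleton.elim _ _⟩)

/-- a nonzero sheaf has a nonzero section over a finite Galois extension -/
theorem exists_galois_section (F : EtCoh.Ab (Spec (CommRingCat.of k))) (hF : ¬ IsZero F) :
    ∃ (M : Type u) (_ : Field M) (_ : Algebra k M) (_ : FiniteDimensional k M) (_ : IsGalois k M)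
      (s : EtCoh.sect F (extObj k M)), s ≠ 0 := by
  by_contra h
  push Not at h
  refine hF ((IsZero.iff_id_eq_zero F).2 ?_)
  ext U s
  show s = 0
  refine EtFound.eq_of_cover F _ _ ((EtFound.mem_topology_iff _).2 fun x => ?_)
  obtain ⟨L, _, _, _, _, g, w, hw⟩ := exists_extObj_through k x
  let M := galClosure k L
  let q : extObj k M ⟶ U.unop := extMap (toGalClosure k L) ≫ g
  haveI : Subsingleton (extObj k L).left := inferInstanceAs (Subsingleton (Spec (CommRingCat.of L)))
  let v : (extObj k M).left := (default : Spec (CommRingCat.of M))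
  refine ⟨extObj k M, q, v, ?_, ?_⟩
  · show F.obj.map q.op s = F.obj.map q.op 0
    rw [map_zero]
    exact h M _ _ inferInstance inferInstance _
  · show (((extMap (toGalClosure k L)).left ≫ g.left)).base v = x
    rw [← hw, Scheme.Hom.comp_apply]
    exact congrArg g.left.base (Subsingleton.elim (α := (extObj k L).left) _ _)

theorem autIso_mul {M : Type u} [Field M] [Algebra k M] [FiniteDimensional k M] [Algebra.IsSeparable k M]
    (g h : M ≃ₐ[k] M) : autIso k (g * h) = autIso k g ≪≫ autIso k h := by
  refine Iso.ext ?_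
  show extMap _ = extMap g.toAlgHom ≫ extMap h.toAlgHom
  rw [extMap_comp]
  rfl

theorem autIso_one {M : Type u} [Field M] [Algebra k M] [FiniteDimensional k M] [Algebra.IsSeparable k M] :
    autIso k (1 : M ≃ₐ[k] M) = Iso.refl _ :=
  Iso.ext (MorphismProperty.Over.Hom.ext ((congrArg (fun t => Spec.map (CommRingCat.ofHom t))
    (show (AlgEquiv.toAlgHom (1 : M ≃ₐ[k] M)).toRingHom = RingHom.id M from rfl)).trans (Spec.map_id _)))

theorem exists_fixed_ne_zero {G : Type*} [Group G] [Finite G] {p : ℕ} [Fact p.Prime] (hG : IsPGroup p G)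
    {A : Type*} [AddCommGroup A] (act : G → A →+ A) (act_mul : ∀ g h a, act (g * h) a = act g (act h a))
    (act_one : ∀ a, act 1 a = a) (hp : ∀ a : A, p • a = 0) (s : A) (hs : s ≠ 0) :
    ∃ b : A, b ≠ 0 ∧ ∀ g, act g b = b := by
  classical
  haveI : NeZero p := ⟨(Fact.out : p.Prime).ne_zero⟩
  let V := AddSubgroup.closure (Set.range fun g => act g s)
  have hV : ∀ g a, a ∈ V → act g a ∈ V := fun g a ha => by
    refine (AddSubgroup.closure_le (K := V.comap (act g))).2 ?_ ha
    rintro _ ⟨h, rfl⟩
    exact AddSubgroup.subset_closure ⟨g * h, act_mul g h s⟩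
  have hpV : ∀ v : V, p • v = 0 := fun v => Subtype.ext (hp _)
  letI : Module (ZMod p) V := AddCommGroup.zmodModule hpV
  haveI : Finite V := by
    haveI : AddGroup.FG V := (AddGroup.fg_iff_addSubgroup_fg V).2
      ((AddSubgroup.fg_iff V).2 ⟨_, rfl, Set.finite_range _⟩)
    haveI : Module.Finite (ZMod p) V :=
      Module.Finite.of_restrictScalars_finite ℤ (ZMod p) V
    exact Module.finite_of_finite (ZMod p)
  letI : MulAction G V :=
    { smul := fun g v => ⟨act g v, hV g _ v.2⟩
      one_smul := fun v => Subtype.ext (act_one _)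
      mul_smul := fun g h v => Subtype.ext (act_mul g h _) }
  have hs0 : s ∈ V := AddSubgroup.subset_closure ⟨1, act_one s⟩
  have hdvd : p ∣ Nat.card V := by
    have h1 : addOrderOf (⟨s, hs0⟩ : V) = p :=
      addOrderOf_eq_prime (hpV _) fun h => hs (congrArg Subtype.val h)
    have := addOrderOf_dvd_natCard (⟨s, hs0⟩ : V)
    rwa [h1] at this
  have h0 : (0 : V) ∈ MulAction.fixedPoints G V := fun g => Subtype.ext (map_zero (act g))
  obtain ⟨b, hb, hne⟩ := hG.exists_fixed_point_of_prime_dvd_card_of_fixed_point V hdvd h0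
  exact ⟨b, fun h => hne (Subtype.ext h.symm), fun g => congrArg Subtype.val (hb g)⟩

/-- fixed point of a `p`-group: a sheaf killed by `p` with a nonzero section over a Galois extension of
`p`-power degree has a nonzero global section -/
theorem exists_global_section (p : ℕ) [Fact p.Prime] (F : EtCoh.Ab (Spec (CommRingCat.of k)))
    (hF : ∀ (U : (Spec (CommRingCat.of k)).Etale) (s : EtCoh.sect F U), p • s = 0)
    (M : Type u) [Field M] [Algebra k M] [FiniteDimensional k M] [IsGalois k M]
    (hM : IsPGroup p Gal(M/k)) (s : EtCoh.sect F (extObj k M)) (hs : s ≠ 0) :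
    ∃ w : EtCoh.sect F (EtCoh.top (Spec (CommRingCat.of k))), w ≠ 0 := by
  haveI : Finite Gal(M/k) := inferInstance
  obtain ⟨b, hne, hb⟩ := exists_fixed_ne_zero hM (fun g => (F.obj.map (autIso k g).hom.op).hom)
    (fun g h a => by
      show F.obj.map (autIso k (g * h)).hom.op a = _
      rw [autIso_mul, Iso.trans_hom, ← hom_comp_map F])
    (fun a => by
      show F.obj.map (autIso k (1 : M ≃ₐ[k] M)).hom.op a = a
      rw [autIso_one, Iso.refl_hom, id_map])
    (fun a => hF _ a) s hs
  obtain ⟨w, hw⟩ := (isGaloisObj_extObj (k := k) M).exists_descent_top F b fun σ => by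
    have hστ : autIso k (AlgEquiv.ofBijective (extHomEquiv.symm σ.hom) (AlgHom.bijective _)) = σ :=
      Iso.ext (extHomEquiv.apply_symm_apply σ.hom)
    rw [← hστ]
    exact hb _
  exact ⟨w, fun h => hne (hw.symm.trans ((congrArg _ h).trans (map_zero _)))⟩

/-- the map from the constant sheaf given by a global section killed by `p` -/
noncomputable def fromConst (p : ℕ) {X : Scheme.{u}} (F : EtCoh.Ab X) (w : EtCoh.sect F (EtCoh.top X))
    (hw : p • w = 0) : EtCoh.const X (ZMod p) ⟶ F :=
  ((EtCore.constAdj X).homEquiv _ _).symm (AddCommGrpCat.ofHom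
    ((ZMod.lift p ⟨zmultiplesHom _ w, by simpa using hw⟩).comp AddEquiv.ulift.toAddMonoidHom))

theorem mono_fromConst (p : ℕ) [Fact p.Prime] (F : EtCoh.Ab (Spec (CommRingCat.of k)))
    (w : EtCoh.sect F (EtCoh.top (Spec (CommRingCat.of k)))) (hw : p • w = 0) (hne : w ≠ 0) :
    Mono (fromConst p F w hw) := by
  refine (EtFound.mono_iff_stalks _).2 fun Ω _ _ ξ => ?_
  refine (injective_iff_map_eq_zero ((EtCoh.stalk ξ).map (fromConst p F w hw)).hom).2 fun z hz => ?_
  let X := Spec (CommRingCat.of k)
  let u : (Scheme.pointSmallEtale ξ).fiber.obj (EtCoh.top X) :=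
    CategoryTheory.Over.homMk ξ (Category.comp_id _)
  obtain ⟨⟨i⟩, rfl⟩ := (EtFound.toSheafify_const_germ_bijective ξ AddCommGrpCat.{u + 1}
    (AddCommGrpCat.of (ULift.{u + 1} (ZMod p))) (EtCoh.top X) u).2 z
  let a : ZMod p →+ EtCoh.sect F (EtCoh.top X) := ZMod.lift p ⟨zmultiplesHom _ w, by simpa using hw⟩
  have key : (fromConst p F w hw).hom.app (op (EtCoh.top X))
      ((toSheafify X.smallEtaleTopology ((Functor.const X.Etaleᵒᵖ).obj
        (AddCommGrpCat.of (ULift.{u + 1} (ZMod p))))).app (op (EtCoh.top X)) (ULift.up i)) = a i := by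
    have := congrArg (fun m => m.hom (ULift.up i))
      (((EtCore.constAdj X).homEquiv _ _).apply_symm_apply (AddCommGrpCat.ofHom
        (a.comp AddEquiv.ulift.toAddMonoidHom)))
    exact this
  have hgerm : (Scheme.pointSmallEtale ξ).toPresheafFiber (EtCoh.top X) u F.obj (a i) = 0 := by
    rw [← key]
    exact ((Scheme.pointSmallEtale ξ).toPresheafFiber_naturality_apply (fromConst p F w hw).hom _ u _).symm.trans hz
  obtain ⟨V, f, v, -, hf⟩ := ((Scheme.pointSmallEtale ξ).toPresheafFiber_eq_iff' _ u (a i) 0).1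
    (hgerm.trans (map_zero _).symm)
  haveI : Subsingleton (EtCoh.top X).left := inferInstanceAs (Subsingleton (Spec (CommRingCat.of k)))
  have hai : a i = 0 := injective_res F f
    ((v.left : Spec (CommRingCat.of Ω) ⟶ V.left).base (default : Spec (CommRingCat.of Ω))) hf
  suffices i = 0 by
    subst this
    exact (congrArg _ (map_zero ((toSheafify X.smallEtaleTopology ((Functor.const X.Etaleᵒᵖ).obj
      (AddCommGrpCat.of (ULift.{u + 1} (ZMod p))))).app (op (EtCoh.top X))).hom)).trans (map_zero _)
  by_contra hi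
  apply hne
  have h1 : a ((i⁻¹).val • i) = 0 := by rw [map_nsmul, hai, smul_zero]
  rw [nsmul_eq_mul, ZMod.natCast_zmod_val, inv_mul_cancel₀ hi] at h1
  have h2 := ZMod.lift_coe p ⟨zmultiplesHom (EtCoh.sect F (EtCoh.top X)) w, by simpa using hw⟩ 1
  rw [Int.cast_one] at h2
  rw [← one_zsmul w]
  exact h2.symm.trans h1

end Groth.Agent.GalEt
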