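import Groth.Agent.GalEt.Split
import Groth.Agent.GalEt.Trace
import Groth.Agent.GalEt.FixedSection

/-!
# The two short exact sequences of a cyclic extension
-/

universe u

open CategoryTheory CategoryTheory.Limits AlgebraicGeometry Opposite

namespace Groth.Agent.GalEt

set_option backward.isDefEq.respectTransparency.types false

theorem exists_sub_eq_of_cyclic {G A : Type*} [Group G] [Fintype G] [AddCommGroup A] (σ : G)
    (hσ : ∀ g, g ∈ Subgroup.zpowers σ) (f : G → A) (hf : ∑ g, f g = 0) :
    ∃ h : G → A, ∀ g, h (g * σ) - h g = f g := by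
  classical
  let S : ℕ → A := fun j => ∑ l ∈ Finset.range j, f (σ ^ l)
  have hd : ∑ l ∈ Finset.range (orderOf σ), f (σ ^ l) = 0 := by
    rw [← hf, ← Finset.sum_image (f := f) (g := fun l => σ ^ l) (fun a ha b hb h =>
      pow_injOn_Iio_orderOf (Finset.mem_range.1 ha) (Finset.mem_range.1 hb) h)]
    congr 1
    refine Finset.eq_univ_of_forall fun g => ?_
    exact mem_zpowers_iff_mem_range_orderOf.1 (hσ g)
  have hper : ∀ j, S (j + orderOf σ) = S j := fun j => by
    show ∑ l ∈ Finset.range (j + orderOf σ), f (σ ^ l) = _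
    rw [add_comm j, Finset.sum_range_add, hd, zero_add]
    exact Finset.sum_congr rfl fun l _ => by rw [pow_add, pow_orderOf_eq_one, one_mul]
  have hmod : ∀ i j : ℕ, σ ^ i = σ ^ j → S i = S j := by
    have key : ∀ i, S i = S (i % orderOf σ) := fun i => by
      induction i using Nat.strong_induction_on with
      | _ i ih =>
        by_cases hi : i < orderOf σ
        · rw [Nat.mod_eq_of_lt hi]
        · obtain ⟨c, rfl⟩ := Nat.exists_eq_add_of_le (not_lt.1 hi)
          rw [add_comm (orderOf σ) c, hper, ih c (by have := orderOf_pos σ; omega), Nat.add_mod_right]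
    intro i j hij
    rw [key i, key j, pow_eq_pow_iff_modEq.1 hij]
  choose e he using fun g => (mem_zpowers_iff_mem_range_orderOf.1 (hσ g) |> Finset.mem_image.1)
  refine ⟨fun g => S (e g), fun g => ?_⟩
  show S (e (g * σ)) - S (e g) = f g
  rw [hmod (e (g * σ)) (e g + 1) (by rw [(he _).2, pow_succ, (he _).2])]
  show ∑ l ∈ Finset.range (e g + 1), f (σ ^ l) - ∑ l ∈ Finset.range (e g), f (σ ^ l) = f g
  rw [Finset.sum_range_succ, add_sub_cancel_left, (he g).2]

variable {k : Type u} [Field k] (L : Type u) [Field L] [Algebra k L] [FiniteDimensional k L] [IsGalois k L]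
  (F : EtCoh.Ab (Spec (CommRingCat.of k)))

/-- `π_* π^{-1} F` as restrictions -/
noncomputable abbrev RT : EtCoh.Ab (Spec (CommRingCat.of k)) :=
  (EtCoh.push (π (extObj k L))).obj ((EtShriek.restrAlong (π (extObj k L))).obj F)

/-- the restriction `F → R` -/
noncomputable def resR : F ⟶ RT L F :=
  ⟨{ app := fun U => F.obj.map (pr (extObj k L) U.unop).op
     naturality := fun U V g => by
       ext s
       show F.obj.map (pr (extObj k L) V.unop).op (F.obj.map g.unop.op s) =
         F.obj.map ((P (extObj k L)).map g.unop).op (F.obj.map (pr (extObj k L) U.unop).op s)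
       rw [hom_comp_map F, hom_comp_map F, map_pr] }⟩

/-- `σ - 1` on `R` -/
noncomputable def dR (σ : Gal(L/k)) : RT L F ⟶ RT L F :=
  ⟨{ app := fun U => F.obj.map (mapT (autIso k σ).hom U.unop).op
     naturality := fun U V g => by
       ext s
       show F.obj.map (mapT (autIso k σ).hom V.unop).op (F.obj.map ((P (extObj k L)).map g.unop).op s) =
         F.obj.map ((P (extObj k L)).map g.unop).op (F.obj.map (mapT (autIso k σ).hom U.unop).op s)
       rw [hom_comp_map F, hom_comp_map F, mapT_naturality] }⟩ - 𝟙 _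

theorem dR_app (σ : Gal(L/k)) (U : (Spec (CommRingCat.of k)).Etale) (s : EtCoh.sect F ((P (extObj k L)).obj U)) :
    (dR L F σ).hom.app (op U) s = F.obj.map (mapT (autIso k σ).hom U).op s - s := rfl

/-- automorphisms as endomorphisms -/
noncomputable def endEquiv : Gal(L/k) ≃ (extObj k L ⟶ extObj k L) :=
  (Equiv.ofBijective (fun σ : Gal(L/k) => σ.toAlgHom)
    ⟨fun a b h => AlgEquiv.ext fun x => AlgHom.congr_fun h x,
      fun f => ⟨AlgEquiv.ofBijective f f.bijective, AlgHom.ext fun _ => rfl⟩⟩).trans extHomEquiv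

theorem exists_autIso (i : extObj k L ≅ extObj k L) : ∃ g : Gal(L/k), autIso k g = i :=
  ⟨AlgEquiv.ofBijective (extHomEquiv.symm i.hom) (AlgHom.bijective _),
    Iso.ext (extHomEquiv.apply_symm_apply i.hom)⟩

/-- the norm-trace `R → F` -/
noncomputable def trR : RT L F ⟶ F := trRestr (isGaloisObj_extObj (k := k) L) F

/-- values of the trace -/
theorem trR_graph [Fintype Gal(L/k)] {U : (Spec (CommRingCat.of k)).Etale} (v : U ⟶ extObj k L)
    (s : EtCoh.sect F ((P (extObj k L)).obj U)) :
    (trR L F).hom.app (op U) s = ∑ g : Gal(L/k), F.obj.map (graph (v ≫ (autIso k g).hom)).op s := by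
  have h := congrArg (F.obj.map (graph v).op)
    ((isGaloisObj_extObj (k := k) L).trace_spec (T := extObj k L) F U s)
  rw [hom_comp_map F, graph_pr, id_map, IsGaloisObj.traceSum, map_sum] at h
  refine h.trans ?_
  refine (Fintype.sum_equiv (endEquiv L) _ _ fun g => ?_).symm
  rw [hom_comp_map F, graph_mapT]
  rfl

theorem resR_trR (U : (Spec (CommRingCat.of k)).Etale) (s : EtCoh.sect F U) :
    (trR L F).hom.app (op U) ((resR L F).hom.app (op U) s) = Module.finrank k L • s := by
  refine ((isGaloisObj_extObj (k := k) L).trace_res (T := extObj k L) F U s).trans ?_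
  rw [card_extHom L L (splits_of_algHom k (AlgHom.id k L))]

theorem dR_trR (σ : Gal(L/k)) : dR L F σ ≫ trR L F = 0 := by
  ext U s
  show (trR L F).hom.app U ((dR L F σ).hom.app (op U.unop) s) = 0
  rw [dR_app]
  refine (map_sub ((trR L F).hom.app U).hom _ _).trans (sub_eq_zero.2 ?_)
  apply (isGaloisObj_extObj (k := k) L).sect_ext F U.unop
  show F.obj.map (pr _ U.unop).op ((isGaloisObj_extObj (k := k) L).trace F U.unop _) =
    F.obj.map (pr _ U.unop).op ((isGaloisObj_extObj (k := k) L).trace F U.unop _)
  rw [IsGaloisObj.trace_spec, IsGaloisObj.trace_spec, IsGaloisObj.traceSum, IsGaloisObj.traceSum]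
  refine Fintype.sum_equiv ((autIso k σ).homToEquiv) _ _ fun i => ?_
  rw [hom_comp_map F, ← mapT_comp]
  rfl

/-- sequence `0 → ker(N) → R → F → 0` -/
noncomputable abbrev seqA : ShortComplex (EtCoh.Ab (Spec (CommRingCat.of k))) :=
  ShortComplex.mk (kernel.ι (trR L F)) (trR L F) (kernel.condition _)

set_option maxHeartbeats 1000000 in
theorem shortExact_seqA : (seqA L F).ShortExact := by
  haveI : Epi (trR L F) := by
    refine (Sheaf.isLocallySurjective_iff_epi' _ _).1 ⟨fun {U} x => (EtFound.mem_topology_iff _).2 fun z => ?_⟩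
    classical
    haveI : Fintype Gal(L/k) := Fintype.ofFinite _
    obtain ⟨K, _, _, _, _, g, w, hw⟩ := exists_extObj_through k z
    obtain ⟨M, _, _, _, _, ⟨fL⟩, ⟨fK⟩⟩ := exists_galois_containing (k := k) L K
    let q := extMap fK ≫ g
    let x' : EtCoh.sect F (extObj k M) := F.obj.map q.op x
    obtain ⟨s, hs⟩ := exists_section_graph L M (extMap fL) F fun i => if i = autIso k (1 : Gal(L/k)) then x' else 0
    refine ⟨extObj k M, q, (default : Spec (CommRingCat.of M)), ⟨s, ?_⟩, ?_⟩
    · show (trR L F).hom.app (op (extObj k M)) s = x'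
      rw [trR_graph L F (extMap fL) s]
      rw [Finset.sum_eq_single (1 : Gal(L/k))]
      · rw [hs, if_pos rfl]
      · intro b _ hb
        rw [hs, if_neg fun h => hb ((endEquiv L).injective (congrArg Iso.hom h))]
      · exact fun h => absurd (Finset.mem_univ _) h
    · show ((extMap fK).left ≫ g.left).base _ = z
      rw [← hw, Scheme.Hom.comp_apply]
      exact congrArg g.left.base (Subsingleton.elim (α := Spec (CommRingCat.of K)) _ _)
  exact { exact := ShortComplex.exact_of_f_is_kernel _ (kernelIsKernel _) }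

/-- `R → ker(N)` -/
noncomputable def dKer (σ : Gal(L/k)) : RT L F ⟶ kernel (trR L F) := kernel.lift _ (dR L F σ) (dR_trR L F σ)

theorem ι_dKer (σ : Gal(L/k)) (U : (Spec (CommRingCat.of k)).Etale) (s : EtCoh.sect F ((P (extObj k L)).obj U)) :
    (kernel.ι (trR L F)).hom.app (op U) ((dKer L F σ).hom.app (op U) s) = (dR L F σ).hom.app (op U) s :=
  congrArg (fun m : RT L F ⟶ RT L F => m.hom.app (op U) s) (kernel.lift_ι _ _ _)

theorem resR_dKer (σ : Gal(L/k)) : resR L F ≫ dKer L F σ = 0 := by
  rw [← cancel_mono (kernel.ι (trR L F)), zero_comp, Category.assoc, dKer, kernel.lift_ι]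
  ext U s
  show (dR L F σ).hom.app (op U.unop) (F.obj.map (pr (extObj k L) U.unop).op s) = 0
  rw [dR_app, hom_comp_map F, mapT_pr]
  exact sub_self _

/-- sequence `0 → F → R → ker(N) → 0` -/
noncomputable abbrev seqB (σ : Gal(L/k)) : ShortComplex (EtCoh.Ab (Spec (CommRingCat.of k))) :=
  ShortComplex.mk (resR L F) (dKer L F σ) (resR_dKer L F σ)

theorem mono_resR : Mono (resR L F) := by
  haveI : ∀ U, Mono ((resR L F).hom.app U) := fun U =>
    (AddCommGrpCat.mono_iff_injective _).2 fun s t h =>
      (isGaloisObj_extObj (k := k) L).sect_ext F U.unop h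
  haveI := NatTrans.mono_of_mono_app (resR L F).hom
  exact (sheafToPresheaf _ _).mono_of_mono_map (inferInstanceAs (Mono (resR L F).hom))

set_option maxHeartbeats 1000000 in
theorem shortExact_seqB (σ : Gal(L/k)) (hσ : ∀ g : Gal(L/k), g ∈ Subgroup.zpowers σ) :
    (seqB L F σ).ShortExact := by
  classical
  haveI := mono_resR L F
  haveI : Epi (dKer L F σ) := by
    haveI : Mono (kernel.ι (trR L F)) := inferInstance
    refine (Sheaf.isLocallySurjective_iff_epi' _ _).1 ⟨fun {U} y => (EtFound.mem_topology_iff _).2 fun z => ?_⟩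
    haveI : Fintype Gal(L/k) := Fintype.ofFinite _
    obtain ⟨K, _, _, _, _, g, w, hw⟩ := exists_extObj_through k z
    obtain ⟨M, _, _, _, _, ⟨fL⟩, ⟨fK⟩⟩ := exists_galois_containing (k := k) L K
    let q := extMap fK ≫ g
    let y' := (kernel (trR L F)).obj.map q.op y
    let Y : EtCoh.sect F ((P (extObj k L)).obj (extObj k M)) := (kernel.ι (trR L F)).hom.app (op (extObj k M)) y'
    have hY : (trR L F).hom.app (op (extObj k M)) Y = 0 :=
      congrArg (fun m : kernel (trR L F) ⟶ F => m.hom.app (op (extObj k M)) y') (kernel.condition (trR L F))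
    rw [trR_graph L F (extMap fL)] at hY
    obtain ⟨h, hh⟩ := exists_sub_eq_of_cyclic σ hσ _ hY
    obtain ⟨s, hs⟩ := exists_section_graph L M (extMap fL) F fun i => h ((endEquiv L).symm i.hom)
    refine ⟨extObj k M, q, (default : Spec (CommRingCat.of M)), ⟨s, ?_⟩, ?_⟩
    · show (dKer L F σ).hom.app (op (extObj k M)) s = y'
      have hinj : Function.Injective ((kernel.ι (trR L F)).hom.app (op (extObj k M))) :=
        EtFound.injective_of_stalks (kernel.ι (trR L F))
          ((EtFound.mono_iff_stalks _).1 inferInstance) (extObj k M)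
      apply hinj
      rw [ι_dKer]
      refine section_graph_ext L M (extMap fL) F fun i => ?_
      obtain ⟨a, rfl⟩ := exists_autIso L i
      rw [dR_app, map_sub, hom_comp_map F, graph_mapT, Category.assoc, ← Iso.trans_hom, ← autIso_mul, hs, hs]
      show h ((endEquiv L).symm (endEquiv L (a * σ))) - h ((endEquiv L).symm (endEquiv L a)) = _
      rw [Equiv.symm_apply_apply, Equiv.symm_apply_apply]
      exact hh a
    · show ((extMap fK).left ≫ g.left).base _ = z
      rw [← hw, Scheme.Hom.comp_apply]
      exact congrArg g.left.base (Subsingleton.elim (α := Spec (CommRingCat.of K)) _ _)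
  refine { exact := ShortComplex.exact_of_f_is_kernel _ (KernelFork.IsLimit.ofι' _ _ fun {A} m hm => ?_) }
  -- invariant sections descend
  have hex : ∀ (U : (Spec (CommRingCat.of k)).Etale) (a : EtCoh.sect A U),
      ∃ t : EtCoh.sect F U, F.obj.map (pr (extObj k L) U).op t = m.hom.app (op U) a := by
    intro U a
    refine (isGaloisObj_extObj (k := k) L).exists_descent F U _ fun i => ?_
    let S : Subgroup Gal(L/k) :=
      { carrier := {g | F.obj.map (mapT (autIso k g).hom U).op (m.hom.app (op U) a) = m.hom.app (op U) a}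
        one_mem' := by
          show F.obj.map (mapT (autIso k (1 : L ≃ₐ[k] L)).hom U).op _ = _
          rw [autIso_one, Iso.refl_hom, show mapT (𝟙 (extObj k L)) U = 𝟙 _ from
            P_hom_ext (by rw [mapT_pr, Category.id_comp]) (by rw [mapT_pr₂, Category.id_comp, Category.comp_id]),
            id_map]
        mul_mem' := fun {g h} hg hh => by
          show F.obj.map (mapT (autIso k (g * h)).hom U).op _ = _
          rw [autIso_mul, Iso.trans_hom, mapT_comp, ← hom_comp_map F, hh, hg]
        inv_mem' := fun {g} hg => by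
          show F.obj.map (mapT (autIso k g⁻¹).hom U).op _ = _
          conv_lhs => rw [← hg]
          rw [hom_comp_map F, ← mapT_comp, ← Iso.trans_hom, ← autIso_mul, inv_mul_cancel, autIso_one,
            Iso.refl_hom, show mapT (𝟙 (extObj k L)) U = 𝟙 _ from
            P_hom_ext (by rw [mapT_pr, Category.id_comp]) (by rw [mapT_pr₂, Category.id_comp, Category.comp_id]),
            id_map] }
    have hσS : σ ∈ S := by
      show F.obj.map _ _ = _
      refine sub_eq_zero.1 ?_
      rw [← dR_app, ← ι_dKer]
      exact (congrArg _ (congrArg (fun t : A ⟶ kernel (trR L F) => t.hom.app (op U) a) hm)).trans (map_zero _)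
    obtain ⟨g, rfl⟩ := exists_autIso L i
    exact (Subgroup.zpowers_le.2 hσS) (hσ g)
  choose t ht using hex
  have hu : ∀ U (x y : EtCoh.sect F U), F.obj.map (pr (extObj k L) U).op x = F.obj.map (pr (extObj k L) U).op y → x = y :=
    fun U _ _ h => (isGaloisObj_extObj (k := k) L).sect_ext F U h
  refine ⟨⟨{ app := fun U => AddCommGrpCat.ofHom (AddMonoidHom.mk' (t U.unop) fun a b => hu _ _ _ (by
      rw [ht, map_add, map_add, ht, ht]
      rfl)), naturality := fun U V g => ?_ }⟩, ?_⟩
  · ext a
    apply hu
    show F.obj.map _ (t V.unop (A.obj.map g a)) = F.obj.map _ (F.obj.map g.unop.op (t U.unop a))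
    rw [ht, hom_comp_map F, ← map_pr, ← hom_comp_map F, ht]
    exact NatTrans.naturality_apply m.hom g a
  · ext U a
    exact ht U.unop a

end Groth.Agent.GalEt
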