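import Groth.Agent.GalEt.Field
import Groth.Prelude.Def_EtCore

/-!
# Cohomology classes of a field killed by finite separable extensions
-/

universe u

open CategoryTheory CategoryTheory.Limits AlgebraicGeometry Opposite CategoryTheory.Abelian

namespace Groth.Agent.GalEt

set_option backward.isDefEq.respectTransparency.types false

variable {X : Scheme.{u}}

/-- the image of an Ext class under inverse image -/
noncomputable def pullExt {Y : Scheme.{u}} (f : Y ⟶ X) {A B : EtCoh.Ab X} {n : ℕ} (α : Ext A B n) :
    Ext ((EtCoh.pull f).obj A) ((EtCoh.pull f).obj B) n :=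
  haveI := EtFound.pull_preservesFiniteLimits f
  α.mapExactFunctor (EtCoh.pull f)

theorem eq_zero_of_mk₀_iso_comp {Y : Scheme.{u}} {A A' B : EtCoh.Ab Y} (i : A ≅ A') {n : ℕ} (e : Ext A' B n)
    (h : (Ext.mk₀ i.hom).comp e (zero_add n) = 0) : e = 0 := by
  have h' := congrArg (fun x : Ext A B n => (Ext.mk₀ i.inv).comp x (zero_add n)) h
  simpa using h'

theorem Hpull_eq_zero_iff {Y : Scheme.{u}} (f : Y ⟶ X) [PreservesFiniteLimits (EtCoh.pull f)]
    (G : EtCoh.Ab X) (n : ℕ) (ξ : EtCoh.H X G n) :
    EtCore.Hpull f G n ξ = 0 ↔ pullExt f ξ = 0 := by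
  change (Ext.mk₀ (EtCore.pullConst f ℤ).inv).comp (pullExt f ξ) (zero_add n) = 0 ↔ _
  refine ⟨fun h => ?_, fun h => by rw [h, Ext.comp_zero]⟩
  exact eq_zero_of_mk₀_iso_comp (EtCore.pullConst f ℤ).symm _ h

theorem pullExt_eq_zero_of_comp {Y Z : Scheme.{u}} {f : Y ⟶ X} {g : Z ⟶ Y} {h : Z ⟶ X} (e : g ≫ f = h)
    {A B : EtCoh.Ab X} {n : ℕ} (α : Ext A B n) :
    pullExt g (pullExt f α) = 0 ↔ pullExt h α = 0 := by
  haveI := EtFound.pull_preservesFiniteLimits f
  haveI := EtFound.pull_preservesFiniteLimits g
  haveI := EtFound.pull_preservesFiniteLimits h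
  haveI : PreservesFiniteLimits (EtCoh.pull f ⋙ EtCoh.pull g) := comp_preservesFiniteLimits _ _
  haveI : PreservesFiniteColimits (EtCoh.pull f ⋙ EtCoh.pull g) := comp_preservesFiniteColimits _ _
  let θ : EtCoh.pull f ⋙ EtCoh.pull g ≅ EtCoh.pull h := (EtCore.pullComp g f).symm ≪≫ EtCore.pullCongr e
  have n1 := EtMVLib.mapExactFunctor_natTrans _ _ θ.hom α
  have n2 := EtMVLib.mapExactFunctor_natTrans _ _ θ.inv α
  rw [EtMVLib.mapExactFunctor_functorComp] at n1 n2
  constructor
  · intro hz
    change (pullExt g (pullExt f α)).comp _ _ = (Ext.mk₀ _).comp (pullExt h α) _ at n1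
    rw [hz, Ext.zero_comp] at n1
    exact eq_zero_of_mk₀_iso_comp (θ.app A) _ n1.symm
  · intro hz
    change (pullExt h α).comp _ _ = (Ext.mk₀ _).comp (pullExt g (pullExt f α)) _ at n2
    rw [hz, Ext.zero_comp] at n2
    exact eq_zero_of_mk₀_iso_comp (θ.app A).symm _ n2.symm

theorem pullExt_nsmul {Y : Scheme.{u}} (f : Y ⟶ X) {A B : EtCoh.Ab X} {n : ℕ} (m : ℕ) (α : Ext A B n) :
    pullExt f (m • α) = m • pullExt f α := by
  haveI := EtFound.pull_preservesFiniteLimits f
  exact map_nsmul ((EtCoh.pull f).mapExtAddHom A B n) m α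

theorem pullExt_zero {Y : Scheme.{u}} (f : Y ⟶ X) (A B : EtCoh.Ab X) (n : ℕ) :
    pullExt f (0 : Ext A B n) = 0 := by
  haveI := EtFound.pull_preservesFiniteLimits f
  exact Ext.mapExactFunctor_zero (F := EtCoh.pull f) (X := A) (Y := B) (n := n)

variable (k : Type u) [Field k]

/-- the structure morphism of `Spec L` over `Spec k` -/
noncomputable abbrev specOver (L : Type u) [Field L] [Algebra k L] :
    Spec (CommRingCat.of L) ⟶ Spec (CommRingCat.of k) :=
  Spec.map (CommRingCat.ofHom (algebraMap k L))

theorem splits_of_algHom {L M : Type u} [Field L] [Algebra k L] [Field M] [Algebra k M] [Normal k M]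
    (f : L →ₐ[k] M) (x : L) : ((minpoly k x).map (algebraMap k M)).Splits := by
  rw [← minpoly.algHom_eq f f.injective x]
  exact Normal.splits inferInstance (f x)

variable (L : Type u) [Field L] [Algebra k L] [FiniteDimensional k L] [Algebra.IsSeparable k L]

/-- a Galois extension containing `L` -/
noncomputable abbrev galClosure : IntermediateField k (SeparableClosure k) :=
  IntermediateField.normalClosure k L (SeparableClosure k)

instance isGalois_galClosure : IsGalois k (galClosure k L) where
  to_isSeparable := Algebra.isSeparable_tower_bot_of_isSeparable k _ (SeparableClosure k)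

/-- the embedding into the Galois closure -/
noncomputable def toGalClosure : L →ₐ[k] galClosure k L :=
  (IsSepClosed.lift : L →ₐ[k] SeparableClosure k).codRestrict (galClosure k L).toSubalgebra
    fun x => (IsSepClosed.lift : L →ₐ[k] SeparableClosure k).fieldRange_le_normalClosure ⟨x, rfl⟩

variable {k L}

/-- a class killed over `L` is killed by `[L : k]` -/
theorem finrank_nsmul_eq_zero {A B : EtCoh.Ab (Spec (CommRingCat.of k))} {n : ℕ} (α : Ext A B n)
    (h : pullExt (specOver k L) α = 0) : Module.finrank k L • α = 0 := by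
  let M := galClosure k L
  have hsplit : ∀ x : L, ((minpoly k x).map (algebraMap k M)).Splits :=
    splits_of_algHom k (toGalClosure k L)
  haveI := isIntegralHom_extObj (k := k) (L := L)
  haveI := EtFound.pull_preservesFiniteLimits (π (extObj k L))
  have := card_nsmul_eq_zero (isGaloisObj_extObj (k := k) M) (T := extObj k L) α h
  rwa [card_extHom L M hsplit] at this

variable (k)

set_option maxHeartbeats 1000000 in
/-- a class of positive degree dies over a finite separable extension -/
theorem exists_killed (B : EtCoh.Ab (Spec (CommRingCat.of k))) (n : ℕ)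
    (α : EtCoh.H (Spec (CommRingCat.of k)) B (n + 1)) :
    ∃ (L : Type u) (_ : Field L) (_ : Algebra k L) (_ : FiniteDimensional k L)
      (_ : Algebra.IsSeparable k L), pullExt (specOver k L) α = 0 := by
  induction n generalizing B with
  | zero =>
    obtain ⟨β, rfl⟩ := EtMVLib.exists_eq_comp_extClass α
    obtain ⟨y, rfl⟩ := (Ext.mk₀_bijective _ _).2 β
    let E := EtMVLib.injSES B
    have hE : E.ShortExact := EtMVLib.injSES_shortExact B
    let adj := EtCore.constAdj (Spec (CommRingCat.of k))
    let s : E.X₃.obj.obj (op (EtCoh.top (Spec (CommRingCat.of k)))) :=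
      (adj.homEquiv _ _ y).hom (ULift.up 1)
    haveI := hE.epi_g
    haveI hls := (Sheaf.isLocallySurjective_iff_epi' _ E.g).2 inferInstance
    obtain ⟨V, g, v, ⟨t₀, ht₀⟩, -⟩ := (EtFound.mem_topology_iff _).1
      (Presheaf.imageSieve_mem (Spec (CommRingCat.of k)).smallEtaleTopology E.g.hom
        (U := op (EtCoh.top (Spec (CommRingCat.of k)))) s) (default : Spec (CommRingCat.of k))
    obtain ⟨L, _, _, _, _, c, -, -⟩ := exists_extObj_through k v
    refine ⟨L, inferInstance, inferInstance, inferInstance, inferInstance, ?_⟩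
    haveI := EtFound.pull_preservesFiniteLimits (specOver k L)
    let T := extObj k L
    haveI := EtFound.pull_preservesFiniteLimits (π T)
    let t : E.X₂.obj.obj (op T) := E.X₂.obj.map c.op t₀
    have ht : E.g.hom.app (op T) t = E.X₃.obj.map (c ≫ g).op s := by
      refine (NatTrans.naturality_apply E.g.hom c.op t₀).trans ?_
      rw [ht₀, hom_comp_map E.X₃]
    -- the lift, as a section of the direct image
    let pullAdj := EtCoh.pullPushAdj (π T)
    let top' := EtCoh.top (Spec (CommRingCat.of k))
    let ψs : ((EtCoh.push (π T)).obj ((EtCoh.pull (π T)).obj E.X₂)).obj.obj (op top') :=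
      ((EtCoh.push (π T)).map ((restrIso T).hom.app E.X₂)).hom.app (op top')
        (E.X₂.obj.map (pr₂ T top').op t)
    let ψ : EtCoh.const (Spec (CommRingCat.of k)) ℤ ⟶ (EtCoh.push (π T)).obj ((EtCoh.pull (π T)).obj E.X₂) :=
      (adj.homEquiv _ _).symm (AddCommGrpCat.ofHom
        ((zmultiplesHom _ ψs).comp AddEquiv.ulift.toAddMonoidHom))
    have hψ : ψ ≫ (EtCoh.push (π T)).map ((EtCoh.pull (π T)).map E.g) = y ≫ pullAdj.unit.app E.X₃ := by
      apply (adj.homEquiv _ _).injective
      rw [Adjunction.homEquiv_naturality_right, Adjunction.homEquiv_naturality_right]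
      simp only [ψ, Equiv.apply_symm_apply]
      apply AddCommGrpCat.ext
      intro x
      have hx : x = x.down • (ULift.up 1 : ULift.{u + 1} ℤ) := ULift.ext _ _ (by simp)
      rw [hx, map_zsmul, map_zsmul]
      congr 1
      show ((EtCoh.push (π T)).map ((EtCoh.pull (π T)).map E.g)).hom.app (op top') ((1 : ℤ) • ψs) =
        (pullAdj.unit.app E.X₃).hom.app (op top') s
      rw [one_zsmul]
      have key : (E.X₃.obj.map (pr₂ T top').op (E.g.hom.app (op T) t)) = E.X₃.obj.map (pr T top').op s := by
        rw [ht, hom_comp_map E.X₃]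
        congr 4
        exact (EtCore.topIsTerminal (Spec (CommRingCat.of k))).hom_ext _ _
      have hu : pullAdj.unit.app E.X₃ =
          ((compAdj T).sheafPushforwardContinuous (E := AddCommGrpCat.{u + 1})
            T.left.smallEtaleTopology (Spec (CommRingCat.of k)).smallEtaleTopology).unit.app E.X₃ ≫
            (EtCoh.push (π T)).map ((restrIso T).hom.app E.X₃) :=
        (Adjunction.unit_leftAdjointUniq_hom_app
          ((compAdj T).sheafPushforwardContinuous (E := AddCommGrpCat.{u + 1})
            T.left.smallEtaleTopology (Spec (CommRingCat.of k)).smallEtaleTopology) pullAdj E.X₃).symm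
      rw [hu]
      refine Eq.trans ?_ (congrArg (((EtCoh.push (π T)).map ((restrIso T).hom.app E.X₃)).hom.app (op top'))
        ((unit_restr_app T E.X₃ top' s).trans key.symm).symm)
      refine (congrArg (fun m : (EtShriek.restrAlong (π T)).obj E.X₂ ⟶ (EtCoh.pull (π T)).obj E.X₃ =>
        ((EtCoh.push (π T)).map m).hom.app (op top') (E.X₂.obj.map (pr₂ T top').op t))
        ((restrIso T).hom.naturality E.g).symm).trans ?_
      exact congrArg (((EtCoh.push (π T)).map ((restrIso T).hom.app E.X₃)).hom.app (op top'))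
        (NatTrans.naturality_apply E.g.hom (pr₂ T top').op t)
    have hy : (EtCoh.pull (π T)).map y = (pullAdj.homEquiv _ _).symm ψ ≫ (EtCoh.pull (π T)).map E.g := by
      apply (pullAdj.homEquiv _ _).injective
      rw [Adjunction.homEquiv_naturality_right, Equiv.apply_symm_apply, hψ, Adjunction.homEquiv_unit]
      exact (pullAdj.unit.naturality y).symm
    change ((Ext.mk₀ y).comp hE.extClass _).mapExactFunctor (EtCoh.pull (π T)) = 0
    rw [Ext.mapExactFunctor_comp, Ext.mapExactFunctor_mk₀, Ext.mapExactFunctor_extClass, hy,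
      ← Ext.mk₀_comp_mk₀, Ext.comp_assoc_of_second_deg_zero]
    exact (congrArg (fun e => (Ext.mk₀ ((pullAdj.homEquiv _ _).symm ψ)).comp e (zero_add 1))
      (hE.map_of_exact (EtCoh.pull (π T))).comp_extClass).trans (Ext.comp_zero _ _ _ _ rfl)
  | succ n ih =>
    obtain ⟨β, rfl⟩ := EtMVLib.exists_eq_comp_extClass α
    obtain ⟨L, _, _, _, _, hL⟩ := ih _ β
    refine ⟨L, inferInstance, inferInstance, inferInstance, inferInstance, ?_⟩
    haveI := EtFound.pull_preservesFiniteLimits (specOver k L)
    change (β.comp _ _).mapExactFunctor (EtCoh.pull (specOver k L)) = 0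
    rw [Ext.mapExactFunctor_comp]
    change (pullExt (specOver k L) β).comp _ _ = 0
    rw [hL, Ext.zero_comp]

/-- cohomology of positive degree is torsion -/
theorem isOfFinAddOrder_H (B : EtCoh.Ab (Spec (CommRingCat.of k))) (n : ℕ)
    (α : EtCoh.H (Spec (CommRingCat.of k)) B (n + 1)) : IsOfFinAddOrder α := by
  obtain ⟨L, _, _, _, _, h⟩ := exists_killed k B n α
  have h0 := finrank_nsmul_eq_zero (L := L) (A := EtCoh.const _ ℤ) (B := B) (n := n + 1) α h
  exact isOfFinAddOrder_iff_nsmul_eq_zero.2 ⟨Module.finrank k L, Module.finrank_pos, h0⟩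

end Groth.Agent.GalEt
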