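import Groth.Agent.GalEt.Field
import Groth.Agent.GalEt.Killed
import Groth.Prelude.Def_EtGm
import Mathlib.RepresentationTheory.Homological.GroupCohomology.Hilbert90

/-!
# `H^1` of a field through cocycles on Galois extensions; Hilbert 90 for `G_m`
-/

universe u

open CategoryTheory CategoryTheory.Limits AlgebraicGeometry Opposite CategoryTheory.Abelian

namespace Groth.Agent.GalEt

set_option backward.isDefEq.respectTransparency.types false

variable {X : Scheme.{u}}

/-- the map to the terminal object -/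
noncomputable def toTop (M : X.Etale) : M ⟶ EtCoh.top X := (EtCore.topIsTerminal X).from M

theorem IsGaloisObj.exists_descent_top {M : X.Etale} (hM : IsGaloisObj M) (F : EtCoh.Ab X)
    (s : EtCoh.sect F M) (hs : ∀ σ : M ≅ M, F.obj.map σ.hom.op s = s) :
    ∃ t : EtCoh.sect F (EtCoh.top X), F.obj.map (toTop M).op t = s := by
  obtain ⟨t, ht⟩ := hM.exists_descent F (EtCoh.top X) (F.obj.map (pr₂ M (EtCoh.top X)).op s) fun σ => by
    rw [hom_comp_map F, mapT_pr₂, ← hom_comp_map F, hs]
  let q : M ⟶ (P M).obj (EtCoh.top X) :=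
    MorphismProperty.Over.homMk (pullback.lift (M.hom : M.left ⟶ X) (𝟙 M.left)
        ((Category.comp_id _).trans (Category.id_comp _).symm))
      ((Category.assoc _ _ _).symm.trans ((congrArg (· ≫ (M.hom : M.left ⟶ X))
        (pullback.lift_snd _ _ _)).trans (Category.id_comp _)))
  refine ⟨t, ?_⟩
  have h := congrArg (F.obj.map q.op) ht
  rw [hom_comp_map F, hom_comp_map F] at h
  have e₁ : q ≫ pr M (EtCoh.top X) = toTop M := (EtCore.topIsTerminal X).hom_ext _ _
  have e₂ : q ≫ pr₂ M (EtCoh.top X) = 𝟙 M :=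
    MorphismProperty.Over.Hom.ext (pullback.lift_snd _ _ _)
  rw [e₁, e₂, id_map] at h
  exact h

variable (k : Type u) [Field k]

/-- every `1`-cocycle of a finite Galois extension with values in `B` is a coboundary -/
def GalH1Trivial (B : EtCoh.Ab (Spec (CommRingCat.of k))) : Prop :=
  ∀ (M : Type u) [Field M] [Algebra k M] [FiniteDimensional k M] [IsGalois k M]
    (c : (extObj k M ≅ extObj k M) → EtCoh.sect B (extObj k M)),
    (∀ σ τ, c (σ ≪≫ τ) = B.obj.map σ.hom.op (c τ) + c σ) →
    ∃ b : EtCoh.sect B (extObj k M), ∀ σ, c σ = B.obj.map σ.hom.op b - b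

set_option maxHeartbeats 1000000 in
/-- `H^1(k, B) = 0` if all Galois cocycles are coboundaries -/
theorem H_one_eq_zero (B : EtCoh.Ab (Spec (CommRingCat.of k))) (hB : GalH1Trivial k B)
    (α : EtCoh.H (Spec (CommRingCat.of k)) B 1) : α = 0 := by
  obtain ⟨β, rfl⟩ := EtMVLib.exists_eq_comp_extClass α
  obtain ⟨y, rfl⟩ := (Ext.mk₀_bijective _ _).2 β
  let E := EtMVLib.injSES B
  have hE : E.ShortExact := EtMVLib.injSES_shortExact B
  let X := Spec (CommRingCat.of k)
  let adj := EtCore.constAdj X
  let s : E.X₃.obj.obj (op (EtCoh.top X)) := (adj.homEquiv _ _ y).hom (ULift.up 1)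
  haveI := hE.epi_g
  haveI hls := (Sheaf.isLocallySurjective_iff_epi' _ E.g).2 inferInstance
  obtain ⟨V, g, v, ⟨t₀, ht₀⟩, -⟩ := (EtFound.mem_topology_iff _).1
    (Presheaf.imageSieve_mem X.smallEtaleTopology E.g.hom (U := op (EtCoh.top X)) s)
    (default : Spec (CommRingCat.of k))
  obtain ⟨L, _, _, _, _, c₀, -, -⟩ := exists_extObj_through k v
  let M := galClosure k L
  let d : extObj k M ⟶ V := extMap (toGalClosure k L) ≫ c₀
  let T := extObj k M
  let t : E.X₂.obj.obj (op T) := E.X₂.obj.map d.op t₀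
  have ht : E.g.hom.app (op T) t = E.X₃.obj.map (toTop T).op s := by
    refine (NatTrans.naturality_apply E.g.hom d.op t₀).trans ?_
    rw [ht₀, hom_comp_map E.X₃]
    congr 4
    exact (EtCore.topIsTerminal X).hom_ext _ _
  -- left exactness of sections
  have := EtMVLib.injSES_shortExact B
  let secF := (sheafSections X.smallEtaleTopology AddCommGrpCat.{u + 1}).obj (op T)
  haveI : PreservesFiniteLimits secF :=
    haveI : PreservesFiniteLimits (sheafToPresheaf X.smallEtaleTopology AddCommGrpCat.{u + 1}) := inferInstance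
    comp_preservesFiniteLimits (sheafToPresheaf X.smallEtaleTopology AddCommGrpCat.{u + 1})
      ((evaluation _ _).obj (op T))
  haveI : secF.Additive := ⟨fun {F G f g} => rfl⟩
  have hex : (E.map secF).Exact ∧ Mono (E.map secF).f :=
    ((Functor.preservesFiniteLimits_tfae secF).out 3 0 rfl rfl).1 inferInstance E hE
  haveI := hex.2
  have hinj : Function.Injective (E.f.hom.app (op T)).hom := (AddCommGrpCat.mono_iff_injective _).1 hex.2
  have hker : ∀ σ : T ≅ T, ∃ b : EtCoh.sect B T,
      E.f.hom.app (op T) b = E.X₂.obj.map σ.hom.op t - t := fun σ => by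
    refine (ShortComplex.ab_exact_iff _).1 hex.1 _ ?_
    show E.g.hom.app (op T) (E.X₂.obj.map σ.hom.op t - t) = 0
    rw [map_sub, ht]
    refine sub_eq_zero.2 ((NatTrans.naturality_apply E.g.hom σ.hom.op t).trans ?_)
    rw [ht, hom_comp_map E.X₃]
    congr 4
    exact (EtCore.topIsTerminal X).hom_ext _ _
  choose c hc using hker
  obtain ⟨b, hb⟩ := hB M c fun σ τ => hinj (by
    show E.f.hom.app (op T) _ = E.f.hom.app (op T) (B.obj.map σ.hom.op (c τ) + c σ)
    have e : E.f.hom.app (op T) (B.obj.map σ.hom.op (c τ)) = E.X₂.obj.map σ.hom.op (E.f.hom.app (op T) (c τ)) :=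
      NatTrans.naturality_apply E.f.hom σ.hom.op (c τ)
    rw [map_add, e, hc, hc, hc, map_sub, Iso.trans_hom]
    simp only [t, hom_comp_map E.X₂, Category.assoc]
    abel)
  obtain ⟨w, hw⟩ := (isGaloisObj_extObj (k := k) M).exists_descent_top E.X₂
    (t - E.f.hom.app (op T) b) fun σ => by
      have e : E.f.hom.app (op T) (B.obj.map σ.hom.op b) = E.X₂.obj.map σ.hom.op (E.f.hom.app (op T) b) :=
        NatTrans.naturality_apply E.f.hom σ.hom.op b
      have h1 := hc σ
      rw [hb, map_sub, e] at h1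
      rw [map_sub]
      exact sub_eq_sub_iff_sub_eq_sub.2 h1.symm
  have hgw : E.g.hom.app (op (EtCoh.top X)) w = s := by
    apply (isGaloisObj_extObj (k := k) M).sect_ext E.X₃
    have e₁ : pr T (EtCoh.top X) = pr₂ T (EtCoh.top X) ≫ toTop T :=
      (EtCore.topIsTerminal X).hom_ext _ _
    rw [e₁, ← hom_comp_map E.X₃, ← hom_comp_map E.X₃]
    congr 1
    refine (NatTrans.naturality_apply E.g.hom (toTop T).op w).symm.trans ?_
    rw [hw, map_sub, ht]
    have z : E.g.hom.app (op T) (E.f.hom.app (op T) b) = 0 :=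
      congrArg (fun m : B ⟶ E.X₃ => m.hom.app (op T) b) E.zero
    rw [z, sub_zero]
  -- `y` lifts
  let ψ : EtCoh.const X ℤ ⟶ E.X₂ :=
    (adj.homEquiv _ _).symm (AddCommGrpCat.ofHom ((zmultiplesHom _ w).comp AddEquiv.ulift.toAddMonoidHom))
  have hψ : ψ ≫ E.g = y := by
    apply (adj.homEquiv _ _).injective
    rw [Adjunction.homEquiv_naturality_right]
    simp only [ψ, Equiv.apply_symm_apply]
    apply AddCommGrpCat.ext
    intro x
    have hx : x = x.down • (ULift.up 1 : ULift.{u + 1} ℤ) := ULift.ext _ _ (by simp)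
    rw [hx, map_zsmul, map_zsmul]
    congr 1
    show E.g.hom.app (op (EtCoh.top X)) ((1 : ℤ) • w) = s
    rw [one_zsmul, hgw]
  rw [← hψ, ← Ext.mk₀_comp_mk₀, Ext.comp_assoc_of_second_deg_zero, hE.comp_extClass]
  exact Ext.comp_zero _ _ _ _ rfl

/-- sections of `G_m` over `Spec M` are units of global functions -/
noncomputable def gmEquiv (M : Type u) [Field M] [Algebra k M] [FiniteDimensional k M] [Algebra.IsSeparable k M] :
    EtCoh.sect (EtCoh.Gm (Spec (CommRingCat.of k))) (extObj k M) ≃+
      ULift.{u + 1} (Additive (Γ(Spec (CommRingCat.of M), ⊤) : Type u)ˣ) :=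
  AddEquiv.refl _

/-- the unit of `M` given by a section of `G_m` over `Spec M` -/
noncomputable def gmVal (M : Type u) [Field M] [Algebra k M] [FiniteDimensional k M] [Algebra.IsSeparable k M]
    (s : EtCoh.sect (EtCoh.Gm (Spec (CommRingCat.of k))) (extObj k M)) : Mˣ :=
  Units.map ((Scheme.ΓSpecIso (CommRingCat.of M)).hom.hom : _ →* M)
    (Additive.toMul (gmEquiv k M s).down)

theorem gmVal_injective (M : Type u) [Field M] [Algebra k M] [FiniteDimensional k M] [Algebra.IsSeparable k M] :
    Function.Injective (gmVal k M) := fun a b h =>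
  (gmEquiv k M).injective (ULift.ext _ _ (Additive.toMul.injective (Units.ext
    ((Scheme.ΓSpecIso (CommRingCat.of M)).commRingCatIsoToRingEquiv.injective (congrArg Units.val h)))))

theorem gmVal_surjective (M : Type u) [Field M] [Algebra k M] [FiniteDimensional k M] [Algebra.IsSeparable k M] :
    Function.Surjective (gmVal k M) := fun u => by
  refine ⟨(gmEquiv k M).symm (ULift.up (Additive.ofMul
      (Units.map ((Scheme.ΓSpecIso (CommRingCat.of M)).inv.hom : M →* _) u))), Units.ext ?_⟩
  exact (Scheme.ΓSpecIso (CommRingCat.of M)).commRingCatIsoToRingEquiv.apply_symm_apply (u : M)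

theorem gmVal_add (M : Type u) [Field M] [Algebra k M] [FiniteDimensional k M] [Algebra.IsSeparable k M]
    (a b : EtCoh.sect (EtCoh.Gm (Spec (CommRingCat.of k))) (extObj k M)) :
    gmVal k M (a + b) = gmVal k M a * gmVal k M b := by
  show Units.map _ (Additive.toMul (gmEquiv k M (a + b)).down) = _
  rw [map_add]
  exact map_mul (Units.map ((Scheme.ΓSpecIso (CommRingCat.of M)).hom.hom : _ →* M))
    (Additive.toMul (gmEquiv k M a).down) (Additive.toMul (gmEquiv k M b).down)

theorem gmVal_map {L M : Type u} [Field L] [Algebra k L] [FiniteDimensional k L] [Algebra.IsSeparable k L]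
    [Field M] [Algebra k M] [FiniteDimensional k M] [Algebra.IsSeparable k M] (f : L →ₐ[k] M)
    (s : EtCoh.sect (EtCoh.Gm (Spec (CommRingCat.of k))) (extObj k L)) :
    (gmVal k M ((EtCoh.Gm (Spec (CommRingCat.of k))).obj.map (extMap f).op s) : M) = f (gmVal k L s : L) :=
  congrArg (fun m => m.hom ((Additive.toMul (gmEquiv k L s).down :
      (Γ(Spec (CommRingCat.of L), ⊤) : Type u)ˣ) : Γ(Spec (CommRingCat.of L), ⊤)))
    (Scheme.ΓSpecIso_naturality (CommRingCat.ofHom f.toRingHom))

/-- the automorphism of `Spec M` given by an automorphism of `M` -/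
noncomputable def autIso {M : Type u} [Field M] [Algebra k M] [FiniteDimensional k M] [Algebra.IsSeparable k M]
    (σ : M ≃ₐ[k] M) : extObj k M ≅ extObj k M where
  hom := extMap σ.toAlgHom
  inv := extMap σ.symm.toAlgHom
  hom_inv_id := by
    rw [extMap_comp]
    exact MorphismProperty.Over.Hom.ext ((congrArg (fun t => Spec.map (CommRingCat.ofHom t))
      (show (σ.toAlgHom.comp σ.symm.toAlgHom).toRingHom = RingHom.id M by ext x; simp)).trans (Spec.map_id _))
  inv_hom_id := by
    rw [extMap_comp]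
    exact MorphismProperty.Over.Hom.ext ((congrArg (fun t => Spec.map (CommRingCat.ofHom t))
      (show (σ.symm.toAlgHom.comp σ.toAlgHom).toRingHom = RingHom.id M by ext x; simp)).trans (Spec.map_id _))

/-- Hilbert 90 -/
theorem galH1Trivial_Gm : GalH1Trivial k (EtCoh.Gm (Spec (CommRingCat.of k))) := by
  intro M _ _ _ _ c hc
  let f : Gal(M/k) → Mˣ := fun σ => gmVal k M (c (autIso k σ))
  have hf : groupCohomology.IsMulCocycle₁ f := fun g h => by
    have e : autIso k (g * h) = autIso k g ≪≫ autIso k h := by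
      refine Iso.ext ?_
      show extMap _ = extMap g.toAlgHom ≫ extMap h.toAlgHom
      rw [extMap_comp]
      rfl
    show gmVal k M (c (autIso k (g * h))) = _
    rw [e, hc, gmVal_add]
    congr 1
    exact Units.ext (gmVal_map k g.toAlgHom _)
  obtain ⟨x, hx⟩ := groupCohomology.isMulCoboundary₁_of_isMulCocycle₁_of_aut_to_units f hf
  obtain ⟨b, hb⟩ := gmVal_surjective k M x
  refine ⟨b, fun σ => ?_⟩
  let τ : M ≃ₐ[k] M := AlgEquiv.ofBijective (extHomEquiv.symm σ.hom) (AlgHom.bijective _)
  have hστ : autIso k τ = σ := Iso.ext (extHomEquiv.apply_symm_apply σ.hom)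
  rw [← hστ, eq_sub_iff_add_eq]
  apply gmVal_injective
  rw [gmVal_add]
  have h1 : gmVal k M ((EtCoh.Gm (Spec (CommRingCat.of k))).obj.map (autIso k τ).hom.op b) = τ • x := by
    rw [← hb]
    exact Units.ext (gmVal_map k τ.toAlgHom b)
  rw [h1, hb]
  exact ((div_eq_iff_eq_mul).1 (hx τ)).symm

end Groth.Agent.GalEt
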