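import Groth.Agent.EtFound.JContGen
import Groth.Agent.EtFound.Basic
import Groth.Agent.EtFound.PropPush

/-!
# Galois covers in a small étale site: descent of invariant sections, trace maps

For `T : X.Etale`, `P T` is the endofunctor `U ↦ U ×_X T` of `X.Etale`.
-/

universe u

open CategoryTheory CategoryTheory.Limits AlgebraicGeometry Opposite

namespace Groth.Agent.GalEt

set_option backward.isDefEq.respectTransparency.types false

variable {X : Scheme.{u}}

instance etale_hom (T : X.Etale) : AlgebraicGeometry.Etale T.hom := T.prop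

/-- `U ↦ U ×_X T` as an endofunctor of the small étale site of `X`. -/
noncomputable def P (T : X.Etale) : X.Etale ⥤ X.Etale :=
  EtCoh.bc T.hom ⋙ EtShriek.compEtale T.hom

/-- first projection -/
noncomputable def pr (T U : X.Etale) : (P T).obj U ⟶ U :=
  MorphismProperty.Over.homMk (pullback.fst U.hom T.hom) pullback.condition

/-- second projection -/
noncomputable def pr₂ (T U : X.Etale) : (P T).obj U ⟶ T :=
  MorphismProperty.Over.homMk (pullback.snd U.hom T.hom) rfl

theorem P_hom_ext {T U Z : X.Etale} {a b : Z ⟶ (P T).obj U} (h₁ : a ≫ pr T U = b ≫ pr T U)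
    (h₂ : a ≫ pr₂ T U = b ≫ pr₂ T U) : a = b := by
  apply MorphismProperty.Over.Hom.ext
  exact pullback.hom_ext (congrArg (fun k => k.left) h₁) (congrArg (fun k => k.left) h₂)

@[reassoc]
theorem map_pr (T : X.Etale) {U V : X.Etale} (g : V ⟶ U) : (P T).map g ≫ pr T U = pr T V ≫ g := by
  apply MorphismProperty.Over.Hom.ext
  exact pullback.lift_fst _ _ _

@[reassoc]
theorem map_pr₂ (T : X.Etale) {U V : X.Etale} (g : V ⟶ U) : (P T).map g ≫ pr₂ T U = pr₂ T V := by
  apply MorphismProperty.Over.Hom.ext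
  exact pullback.lift_snd _ _ _

/-- `U ×_X M → U ×_X T` -/
noncomputable def mapT {M T : X.Etale} (i : M ⟶ T) (U : X.Etale) : (P M).obj U ⟶ (P T).obj U :=
  MorphismProperty.Over.homMk
    (pullback.lift (pullback.fst U.hom M.hom) (pullback.snd U.hom M.hom ≫ i.left)
      (pullback.condition.trans ((congrArg (pullback.snd U.hom M.hom ≫ ·)
        (MorphismProperty.Over.w i).symm).trans (Category.assoc _ _ _).symm)))
    ((congrArg (· ≫ T.hom) (pullback.lift_snd _ _ _)).trans ((Category.assoc _ _ _).trans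
      (congrArg (pullback.snd U.hom M.hom ≫ ·) (MorphismProperty.Over.w i))) |> fun h =>
        ((Category.assoc _ _ _).symm.trans h))

@[reassoc]
theorem mapT_pr {M T : X.Etale} (i : M ⟶ T) (U : X.Etale) : mapT i U ≫ pr T U = pr M U := by
  apply MorphismProperty.Over.Hom.ext
  exact pullback.lift_fst _ _ _

@[reassoc]
theorem mapT_pr₂ {M T : X.Etale} (i : M ⟶ T) (U : X.Etale) :
    mapT i U ≫ pr₂ T U = pr₂ M U ≫ i := by
  apply MorphismProperty.Over.Hom.ext
  exact pullback.lift_snd _ _ _

theorem mapT_comp {N M T : X.Etale} (j : N ⟶ M) (i : M ⟶ T) (U : X.Etale) :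
    mapT (j ≫ i) U = mapT j U ≫ mapT i U :=
  P_hom_ext (by rw [mapT_pr, Category.assoc, mapT_pr, mapT_pr])
    (by rw [mapT_pr₂, Category.assoc, mapT_pr₂, mapT_pr₂_assoc])

theorem mapT_naturality {M T : X.Etale} (i : M ⟶ T) {U V : X.Etale} (g : V ⟶ U) :
    (P M).map g ≫ mapT i U = mapT i V ≫ (P T).map g :=
  P_hom_ext (by rw [Category.assoc, mapT_pr, map_pr, Category.assoc, map_pr, mapT_pr_assoc])
    (by rw [Category.assoc, mapT_pr₂, map_pr₂_assoc, Category.assoc, map_pr₂, mapT_pr₂])

theorem hom_comp_map {A B C : X.Etale} (F : EtCoh.Ab X) (a : A ⟶ B) (b : B ⟶ C)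
    (s : EtCoh.sect F C) : F.obj.map a.op (F.obj.map b.op s) = F.obj.map (a ≫ b).op s := by
  rw [op_comp, F.obj.map_comp]
  rfl

theorem id_map {A : X.Etale} (F : EtCoh.Ab X) (s : EtCoh.sect F A) : F.obj.map (𝟙 A).op s = s := by
  rw [op_id, F.obj.map_id]
  rfl

/-- `M` is a Galois object of the small étale site: it covers `X`, and two maps into it differ
locally by an automorphism. -/
structure IsGaloisObj (M : X.Etale) : Prop where
  surj : Function.Surjective M.hom.base
  locally : ∀ ⦃Z : X.Etale⦄ (a b : Z ⟶ M) (z : Z.left), ∃ (W : X.Etale) (g : W ⟶ Z) (w : W.left)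
    (σ : M ≅ M), g.left.base w = z ∧ (g ≫ a) ≫ σ.hom = g ≫ b

namespace IsGaloisObj

variable {M : X.Etale} (hM : IsGaloisObj M)

include hM in
theorem cover (U : X.Etale) :
    Sieve.generate (Presieve.singleton (pr M U)) ∈ X.smallEtaleTopology U := by
  refine (EtFound.mem_topology_iff _).2 fun x => ?_
  obtain ⟨m, hm⟩ := hM.surj (U.hom.base x)
  obtain ⟨z, hz, -⟩ := Scheme.Pullback.exists_preimage_pullback (f := U.hom) (g := M.hom) x m hm.symm
  exact ⟨_, pr M U, z, Sieve.le_generate _ _ _ Presieve.singleton.mk, hz⟩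

include hM in
theorem sect_ext (F : EtCoh.Ab X) (U : X.Etale) {s t : EtCoh.sect F U}
    (h : F.obj.map (pr M U).op s = F.obj.map (pr M U).op t) : s = t := by
  refine EtFound.eq_of_cover F _ _ (X.smallEtaleTopology.superset_covering ?_ (hM.cover U))
  rintro Y f ⟨Z, a, b, ⟨⟩, rfl⟩
  show F.obj.map _ s = F.obj.map _ t
  rw [← hom_comp_map F, ← hom_comp_map F, h]

include hM in
theorem exists_descent (F : EtCoh.Ab X) (U : X.Etale) (s : EtCoh.sect F ((P M).obj U))
    (hs : ∀ σ : M ≅ M, F.obj.map (mapT σ.hom U).op s = s) :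
    ∃ t : EtCoh.sect F U, F.obj.map (pr M U).op t = s := by
  have h := ((isSheaf_iff_isSheaf_of_type _ _).1
    ((sheafCompose X.smallEtaleTopology (forget AddCommGrpCat.{u + 1})).obj F).property)
    (Sieve.generate (Presieve.singleton (pr M U))) (hM.cover U)
  rw [← Presieve.isSheafFor_iff_generate, Presieve.isSheafFor_singleton] at h
  refine (h s fun {Z} a b hab => ?_).exists
  show F.obj.map a.op s = F.obj.map b.op s
  refine EtFound.eq_of_cover F _ _ ((EtFound.mem_topology_iff _).2 fun z => ?_)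
  obtain ⟨W, g, w, σ, hw, hσ⟩ := hM.locally (a ≫ pr₂ M U) (b ≫ pr₂ M U) z
  refine ⟨W, g, w, ?_, hw⟩
  show F.obj.map g.op (F.obj.map a.op s) = F.obj.map g.op (F.obj.map b.op s)
  have : g ≫ b = (g ≫ a) ≫ mapT σ.hom U :=
    P_hom_ext (by simp only [Category.assoc, mapT_pr, hab])
      (by simp only [Category.assoc, mapT_pr₂] at hσ ⊢; exact hσ.symm)
  rw [hom_comp_map F, hom_comp_map F, this, ← hom_comp_map F (g ≫ a), hs]

variable {T : X.Etale} [Fintype (M ⟶ T)] (F : EtCoh.Ab X)

omit hM in
/-- the sum of all restrictions along maps `M → T` -/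
noncomputable def traceSum (U : X.Etale) (s : EtCoh.sect F ((P T).obj U)) :
    EtCoh.sect F ((P M).obj U) :=
  ∑ i : M ⟶ T, F.obj.map (mapT i U).op s

include hM in
theorem exists_trace (U : X.Etale) (s : EtCoh.sect F ((P T).obj U)) :
    ∃ t : EtCoh.sect F U, F.obj.map (pr M U).op t = traceSum F U s := by
  refine hM.exists_descent F U _ fun σ => ?_
  rw [traceSum, map_sum]
  let e : (M ⟶ T) ≃ (M ⟶ T) := σ.homCongr (Iso.refl T) |>.symm
  refine Fintype.sum_equiv e _ _ fun i => ?_
  rw [hom_comp_map F, ← mapT_comp]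
  congr 4

/-- the trace `F(U ×_X T) → F(U)` -/
noncomputable def trace (U : X.Etale) : EtCoh.sect F ((P T).obj U) →+ EtCoh.sect F U :=
  AddMonoidHom.mk' (fun s => (hM.exists_trace F U s).choose) fun a b => by
    apply hM.sect_ext F U
    rw [map_add, (hM.exists_trace F U _).choose_spec, (hM.exists_trace F U _).choose_spec,
      (hM.exists_trace F U _).choose_spec]
    simp [traceSum, map_add, Finset.sum_add_distrib]

theorem trace_spec (U : X.Etale) (s : EtCoh.sect F ((P T).obj U)) :
    F.obj.map (pr M U).op (hM.trace F U s) = traceSum F U s :=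
  (hM.exists_trace F U s).choose_spec

theorem trace_res (U : X.Etale) (t : EtCoh.sect F U) :
    hM.trace F U (F.obj.map (pr T U).op t) = Fintype.card (M ⟶ T) • t := by
  apply hM.sect_ext F U
  rw [trace_spec, map_nsmul, traceSum]
  simp only [hom_comp_map F, mapT_pr, Finset.sum_const, Finset.card_univ]

theorem trace_naturality {U V : X.Etale} (g : V ⟶ U) (s : EtCoh.sect F ((P T).obj U)) :
    hM.trace F V (F.obj.map ((P T).map g).op s) = F.obj.map g.op (hM.trace F U s) := by
  apply hM.sect_ext F V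
  rw [trace_spec, hom_comp_map F, ← map_pr, ← hom_comp_map F, trace_spec, traceSum, traceSum, map_sum]
  exact Finset.sum_congr rfl fun i _ => by rw [hom_comp_map F, hom_comp_map F, mapT_naturality]

theorem trace_natTrans {F G : EtCoh.Ab X} (φ : F ⟶ G) (U : X.Etale) (s : EtCoh.sect F ((P T).obj U)) :
    hM.trace G U (φ.hom.app _ s) = φ.hom.app _ (hM.trace F U s) := by
  apply hM.sect_ext G U
  rw [trace_spec, ← NatTrans.naturality_apply φ.hom (pr M U).op, trace_spec, traceSum, traceSum, map_sum]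
  exact Finset.sum_congr rfl fun i _ => (NatTrans.naturality_apply φ.hom (mapT i U).op s).symm

end IsGaloisObj

end Groth.Agent.GalEt
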