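import Groth.Agent.GalEt.Trace
import Groth.Agent.S9714
import Mathlib.RingTheory.Etale.Field
import Mathlib.FieldTheory.PrimitiveElement
import Mathlib.FieldTheory.Galois.Basic
import Mathlib.FieldTheory.Normal.Closure

/-!
# Finite separable extensions as objects of the small étale site of a field
-/

universe u

open CategoryTheory CategoryTheory.Limits AlgebraicGeometry Opposite CategoryTheory.Abelian

namespace Groth.Agent.GalEt

set_option backward.isDefEq.respectTransparency.types false

variable (k : Type u) [Field k]

theorem etale_Spec_map (L : Type u) [Field L] [Algebra k L] [FiniteDimensional k L]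
    [Algebra.IsSeparable k L] :
    AlgebraicGeometry.Etale (Spec.map (CommRingCat.ofHom (algebraMap k L))) := by
  rw [HasRingHomProperty.Spec_iff (P := @AlgebraicGeometry.Etale), CommRingCat.hom_ofHom,
    RingHom.etale_algebraMap]
  haveI : Algebra.FiniteType k L := inferInstance
  haveI : Algebra.FinitePresentation k L := Algebra.FinitePresentation.of_finiteType.mp inferInstance
  exact ⟨Algebra.FormallyEtale.of_isSeparable k L, inferInstance⟩

/-- `Spec L` over `Spec k` -/
noncomputable def extObj (L : Type u) [Field L] [Algebra k L] [FiniteDimensional k L]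
    [Algebra.IsSeparable k L] : (Spec (CommRingCat.of k)).Etale :=
  haveI := etale_Spec_map k L
  Scheme.Etale.mk (Spec.map (CommRingCat.ofHom (algebraMap k L)))

section Hom

variable {k} {L M : Type u} [Field L] [Algebra k L] [FiniteDimensional k L] [Algebra.IsSeparable k L]
  [Field M] [Algebra k M] [FiniteDimensional k M] [Algebra.IsSeparable k M]

/-- the map of spectra of an embedding -/
noncomputable def extMap (f : L →ₐ[k] M) : extObj k M ⟶ extObj k L :=
  MorphismProperty.Over.homMk (Spec.map (CommRingCat.ofHom f.toRingHom)) (by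
    show Spec.map (CommRingCat.ofHom f.toRingHom) ≫ Spec.map (CommRingCat.ofHom (algebraMap k L)) =
      Spec.map (CommRingCat.ofHom (algebraMap k M))
    rw [← Spec.map_comp, ← CommRingCat.ofHom_comp]
    exact congrArg (fun t => Spec.map (CommRingCat.ofHom t)) (RingHom.ext fun r => f.commutes r))

/-- morphisms of spectra over `k` are embeddings -/
noncomputable def extHomEquiv : (L →ₐ[k] M) ≃ (extObj k M ⟶ extObj k L) where
  toFun := extMap
  invFun a :=
    { (Spec.preimage (a.left : Spec (CommRingCat.of M) ⟶ Spec (CommRingCat.of L))).hom with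
      commutes' := fun r => by
        have w : (a.left : Spec (CommRingCat.of M) ⟶ Spec (CommRingCat.of L)) ≫
            Spec.map (CommRingCat.ofHom (algebraMap k L)) = Spec.map (CommRingCat.ofHom (algebraMap k M)) :=
          MorphismProperty.Over.w a
        obtain ⟨φ, hφ⟩ : ∃ φ, Spec.map φ = (a.left : Spec (CommRingCat.of M) ⟶ Spec (CommRingCat.of L)) :=
          ⟨_, Spec.map_preimage _⟩
        rw [← hφ] at w ⊢
        rw [Spec.preimage_map]
        exact congrArg (fun t : CommRingCat.of k ⟶ CommRingCat.of M => t.hom r)
          (Spec.map_injective ((Spec.map_comp _ _).trans w)) }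
  left_inv f := by
    apply AlgHom.ext
    intro x
    show (Spec.preimage (Spec.map (CommRingCat.ofHom f.toRingHom))).hom x = f x
    rw [Spec.preimage_map]
    rfl
  right_inv a := by
    apply MorphismProperty.Over.Hom.ext
    exact Spec.map_preimage _

theorem extMap_comp {N : Type u} [Field N] [Algebra k N] [FiniteDimensional k N] [Algebra.IsSeparable k N]
    (f : L →ₐ[k] M) (g : M →ₐ[k] N) : extMap g ≫ extMap f = extMap (g.comp f) := by
  apply MorphismProperty.Over.Hom.ext
  exact (Spec.map_comp _ _).symm

noncomputable instance fintype_extHom : Fintype (extObj k M ⟶ extObj k L) :=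
  Fintype.ofEquiv _ extHomEquiv

theorem isIntegralHom_extObj : IsIntegralHom (π (extObj k L)) :=
  IsIntegralHom.SpecMap_iff.2 (algebraMap_isIntegral_iff.2 (Algebra.IsIntegral.of_finite k L))

end Hom

/-- every point of an étale `k`-scheme is the spectrum of a finite separable extension -/
theorem exists_extObj_through {Z : (Spec (CommRingCat.of k)).Etale} (z : Z.left) :
    ∃ (K : Type u) (_ : Field K) (_ : Algebra k K) (_ : FiniteDimensional k K)
      (_ : Algebra.IsSeparable k K) (g : extObj k K ⟶ Z) (w : (extObj k K).left), g.left.base w = z := by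
  haveI : AlgebraicGeometry.Etale Z.hom := Z.prop
  obtain ⟨ι, K, hF, hA, hK, e, he⟩ := S9714.forward (k := k) (Z.hom : Z.left ⟶ Spec (CommRingCat.of k))
  obtain ⟨i, w, hw⟩ := (sigmaOpenCover fun i => Spec (CommRingCat.of (K i))).exists_eq (e.hom.base z)
  haveI := (hK i).1
  haveI := (hK i).2
  refine ⟨K i, hF i, hA i, (hK i).1, (hK i).2,
    MorphismProperty.Over.homMk ((Sigma.ι (fun i => Spec (CommRingCat.of (K i))) i) ≫ e.inv) ?_, w, ?_⟩
  · show (Sigma.ι (fun i => Spec (CommRingCat.of (K i))) i ≫ e.inv) ≫ Z.hom = _
    rw [← he, Category.assoc, e.inv_hom_id_assoc]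
    exact Sigma.ι_desc _ _
  · show (Sigma.ι (fun i => Spec (CommRingCat.of (K i))) i ≫ e.inv).base w = z
    refine (Scheme.Hom.comp_apply _ _ _).trans ((congrArg e.inv.base hw).trans ?_)
    rw [← Scheme.Hom.comp_apply, e.hom_inv_id]
    rfl

variable {k}

/-- Galois extensions give Galois objects -/
theorem isGaloisObj_extObj (M : Type u) [Field M] [Algebra k M] [FiniteDimensional k M] [IsGalois k M] :
    IsGaloisObj (extObj k M) where
  surj x := ⟨(default : Spec (CommRingCat.of M)), Subsingleton.elim (α := Spec (CommRingCat.of k)) _ _⟩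
  locally Z a b z := by
    obtain ⟨K, _, _, _, _, g, w, hw⟩ := exists_extObj_through k z
    let f₁ := extHomEquiv.symm (g ≫ a)
    let f₂ := extHomEquiv.symm (g ≫ b)
    letI : Algebra M K := f₁.toRingHom.toAlgebra
    haveI : IsScalarTower k M K := IsScalarTower.of_algebraMap_eq fun r => (f₁.commutes r).symm
    let σ : M →ₐ[k] M := f₂.restrictNormal M
    have hc : ∀ x, f₁ (σ x) = f₂ x := fun x => f₂.restrictNormal_commutes M x
    let σe : M ≃ₐ[k] M := AlgEquiv.ofBijective σ σ.bijective
    let s : extObj k M ≅ extObj k M :=
      { hom := extMap σe.toAlgHom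
        inv := extMap σe.symm.toAlgHom
        hom_inv_id := by
          rw [extMap_comp]
          apply MorphismProperty.Over.Hom.ext
          refine (congrArg (fun t => Spec.map (CommRingCat.ofHom t))
            (show (σe.toAlgHom.comp σe.symm.toAlgHom).toRingHom = RingHom.id M by ext x; simp)).trans ?_
          exact Spec.map_id _
        inv_hom_id := by
          rw [extMap_comp]
          apply MorphismProperty.Over.Hom.ext
          refine (congrArg (fun t => Spec.map (CommRingCat.ofHom t))
            (show (σe.symm.toAlgHom.comp σe.toAlgHom).toRingHom = RingHom.id M by ext x; simp)).trans ?_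
          exact Spec.map_id _ }
    refine ⟨_, g, w, s, hw, ?_⟩
    have h1 : g ≫ a = extMap f₁ := (extHomEquiv.apply_symm_apply _).symm
    have h2 : g ≫ b = extMap f₂ := (extHomEquiv.apply_symm_apply _).symm
    rw [h1, h2]
    show extMap f₁ ≫ extMap σe.toAlgHom = _
    rw [extMap_comp]
    exact congrArg extMap (AlgHom.ext hc)

theorem card_extHom (L M : Type u) [Field L] [Algebra k L] [FiniteDimensional k L] [Algebra.IsSeparable k L]
    [Field M] [Algebra k M] [FiniteDimensional k M] [Algebra.IsSeparable k M]
    (hsplit : ∀ x : L, ((minpoly k x).map (algebraMap k M)).Splits) :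
    Fintype.card (extObj k M ⟶ extObj k L) = Module.finrank k L := by
  rw [← AlgHom.card_of_splits k L M hsplit, Fintype.card_congr extHomEquiv.symm]

end Groth.Agent.GalEt
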