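import Groth.Agent.GalEt.Devissage
import Groth.Agent.EtPBC63.Torsion

/-!
# Vanishing of `p`-primary cohomology from vanishing with `ℤ/p` coefficients
-/

universe u

open CategoryTheory CategoryTheory.Limits AlgebraicGeometry Opposite CategoryTheory.Abelian

namespace Groth.Agent.GalEt

set_option backward.isDefEq.respectTransparency.types false

variable (k : Type u) [Field k]

theorem H_eq_zero_of_constructible (p m : ℕ) [Fact p.Prime] (hk : ZpVanish k p m)
    (F : EtCoh.Ab (Spec (CommRingCat.of k))) (hF : IsKilled p F) (hc : EtPBC.IsConstructible F)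
    (x : EtCoh.H (Spec (CommRingCat.of k)) F m) : x = 0 := by
  let ξ₀ := specOver k (SeparableClosure k)
  refine H_eq_zero_of_finite p m (Nat.card ((EtCoh.stalk ξ₀).obj F)) k hk F hF (fun Ω _ _ ξ => ?_) x
  obtain ⟨e⟩ := EtFound.nonempty_stalk_equiv F ξ ξ₀
    (Subsingleton.elim (α := Spec (CommRingCat.of k)) _ _)
  exact ⟨EtFound.finite_stalk_of_isConstructible hc ξ, (Nat.card_congr e).le⟩

set_option maxHeartbeats 1000000 in
/-- all sheaves killed by `p` -/
theorem H_eq_zero_of_killed (p m : ℕ) [Fact p.Prime] (hk : ZpVanish k p m)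
    (F : EtCoh.Ab (Spec (CommRingCat.of k))) (hF : IsKilled p F)
    (x : EtCoh.H (Spec (CommRingCat.of k)) F m) : x = 0 := by
  let X := Spec (CommRingCat.of k)
  obtain ⟨J, _, _, D, c, hc, ⟨e⟩, hD⟩ := EtPBC63.exists_colimit_constructible F
    (EtPBC63.isTorsion_of_nsmul (Fact.out : p.Prime).pos hF)
  haveI := EtLC12.QcqsAcyclic.preservesColimitsOfShape_HF X m J
  obtain ⟨j, y, hy⟩ := Concrete.isColimit_exists_rep _ (isColimitOfPreserves (EtCoh.HF X m) hc)
    ((EtCoh.HF X m).map e.inv x)
  let a : D.obj j ⟶ F := c.ι.app j ≫ e.hom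
  let G := cokernel (p • 𝟙 (D.obj j))
  let b : G ⟶ F := cokernel.desc _ a (by
    rw [Preadditive.nsmul_comp, Category.id_comp, ← Category.comp_id a, ← Preadditive.comp_nsmul,
      show p • 𝟙 F = 0 from hF, comp_zero])
  have hx : x = (EtCoh.HF X m).map a y := by
    rw [Functor.map_comp, ConcreteCategory.comp_apply]
    refine Eq.trans ?_ (congrArg ((EtCoh.HF X m).map e.hom) hy).symm
    exact ((EtCoh.HF X m).mapIso e).addCommGroupIsoToAddEquiv.apply_symm_apply x |>.symm
  have hG : (EtCoh.HF X m).map (cokernel.π (p • 𝟙 (D.obj j))) y = 0 :=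
    H_eq_zero_of_constructible k p m hk G (isKilled_cokernel p (D.obj j))
      (EtFound.isConstructible_cokernel _ (hD j) (hD j)) _
  rw [hx, show a = cokernel.π (p • 𝟙 (D.obj j)) ≫ b from (cokernel.π_desc _ _ _).symm, Functor.map_comp,
    ConcreteCategory.comp_apply]
  exact (congrArg _ hG).trans (map_zero _)

theorem mono_unit (L : Type u) [Field L] [Algebra k L] [FiniteDimensional k L] [Algebra.IsSeparable k L]
    (F : EtCoh.Ab (Spec (CommRingCat.of k))) :
    Mono ((EtCoh.pullPushAdj (π (extObj k L))).unit.app F) := by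
  let T := extObj k L
  have : Mono ((EtCoh.pullPushAdj (π T)).unit.app F ≫ (EtCoh.push (π T)).map ((restrIso T).inv.app F)) := by
    rw [unit_eq]
    let η := ((compAdj T).sheafPushforwardContinuous (E := AddCommGrpCat.{u + 1})
      T.left.smallEtaleTopology (Spec (CommRingCat.of k)).smallEtaleTopology).unit.app F
    have : ∀ U, Mono (η.hom.app U) := fun U => by
      refine (AddCommGrpCat.mono_iff_injective _).2 fun s t h => ?_
      refine EtFound.eq_of_cover F _ _ ((EtFound.mem_topology_iff _).2 fun x => ?_)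
      obtain ⟨z, hz, -⟩ := Scheme.Pullback.exists_preimage_pullback (f := U.unop.hom) (g := T.hom) x
        (default : Spec (CommRingCat.of L)) (Subsingleton.elim (α := Spec (CommRingCat.of k)) _ _)
      refine ⟨_, pr T U.unop, z, ?_, hz⟩
      exact (unit_restr_app T F U.unop s).symm.trans (h.trans (unit_restr_app T F U.unop t))
    haveI := NatTrans.mono_of_mono_app η.hom
    exact (sheafToPresheaf _ _).mono_of_mono_map (inferInstanceAs (Mono η.hom))
  exact mono_of_mono _ ((EtCoh.push (π T)).map ((restrIso T).inv.app F))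

set_option maxHeartbeats 1000000 in
/-- vanishing for all sheaves killed by `p` propagates to higher degrees -/
theorem killed_vanish_mono {p m : ℕ} (hm : ∀ F : EtCoh.Ab (Spec (CommRingCat.of k)), IsKilled p F →
      ∀ x : EtCoh.H (Spec (CommRingCat.of k)) F m, x = 0)
    (q : ℕ) (hq : m ≤ q) (F : EtCoh.Ab (Spec (CommRingCat.of k))) (hF : IsKilled p F)
    (x : EtCoh.H (Spec (CommRingCat.of k)) F q) : x = 0 := by
  induction q, hq using Nat.le_induction generalizing F with
  | base => exact hm F hF x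
  | succ q _ ih =>
    obtain ⟨L, _, _, _, _, h⟩ := exists_killed k F q x
    let f := π (extObj k L)
    haveI := isIntegralHom_extObj (k := k) (L := L)
    haveI := EtFound.push_preservesFiniteLimits f
    haveI := EtFound.push_preservesFiniteColimits f
    haveI := EtFound.pull_preservesFiniteLimits f
    let η := (EtCoh.pullPushAdj f).unit.app F
    haveI : Mono η := mono_unit k L F
    let S := ShortComplex.mk η (cokernel.π η) (cokernel.condition _)
    have hS : S.ShortExact := { exact := ShortComplex.exact_of_g_is_cokernel _ (cokernelIsCokernel η) }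
    have h0 := comp_unit_eq_zero (EtCoh.pullPushAdj f) x h
    obtain ⟨β, hβ⟩ := Ext.covariant_sequence_exact₁ _ hS x h0 (n₀ := q) rfl
    rw [← hβ, ih _ (((hF.map (EtCoh.pull f)).map (EtCoh.push f)).of_epi (cokernel.π η)) β, Ext.zero_comp]

/-- sheaves killed by a power of `p` -/
theorem killed_pow_vanish {p q : ℕ} (hq : ∀ F : EtCoh.Ab (Spec (CommRingCat.of k)), IsKilled p F →
      ∀ x : EtCoh.H (Spec (CommRingCat.of k)) F q, x = 0) (a : ℕ) :
    ∀ (F : EtCoh.Ab (Spec (CommRingCat.of k))), IsKilled (p ^ a) F →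
      ∀ x : EtCoh.H (Spec (CommRingCat.of k)) F q, x = 0 := by
  induction a with
  | zero =>
    intro F hF x
    have : 𝟙 F = 0 := by simpa [IsKilled] using hF
    rw [← Ext.comp_mk₀_id x, this, Ext.mk₀_zero, Ext.comp_zero]
  | succ a ih =>
    intro F hF x
    let f := p • 𝟙 F
    let S : ShortComplex (EtCoh.Ab (Spec (CommRingCat.of k))) :=
      ShortComplex.mk (kernel.ι f) (Abelian.factorThruImage f) (by
        rw [← cancel_mono (Abelian.image.ι f), Category.assoc, Abelian.image.fac, zero_comp, kernel.condition])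
    have hS : S.ShortExact :=
      { exact := ShortComplex.exact_of_f_is_kernel _ (by
          refine KernelFork.IsLimit.ofι _ _ (fun g hg => kernel.lift f g (by
            rw [← Abelian.image.fac f, reassoc_of% hg, zero_comp])) (fun g hg => kernel.lift_ι _ _ _)
            (fun g hg b hb => by
              rw [← cancel_mono (kernel.ι f)]
              exact hb.trans (kernel.lift_ι _ _ _).symm)) }
    have hI : IsKilled (p ^ a) S.X₃ := by
      show p ^ a • 𝟙 (Abelian.image f) = 0
      rw [← cancel_epi (Abelian.factorThruImage f), ← cancel_mono (Abelian.image.ι f), comp_zero, zero_comp,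
        Preadditive.comp_nsmul, Category.comp_id, Preadditive.nsmul_comp, Abelian.image.fac]
      show p ^ a • (p • 𝟙 F) = 0
      rw [← mul_nsmul', ← pow_succ]
      exact hF
    obtain ⟨y, rfl⟩ := Ext.covariant_sequence_exact₂ _ hS x (ih S.X₃ hI _)
    rw [hq _ (isKilled_kernel p F) y, Ext.zero_comp]

/-- sheaves killed by an integer -/
theorem killed_nat_vanish {p q : ℕ} [Fact p.Prime] (hq : ∀ F : EtCoh.Ab (Spec (CommRingCat.of k)), IsKilled p F →
      ∀ x : EtCoh.H (Spec (CommRingCat.of k)) F q, x = 0) (n : ℕ) (hn : n ≠ 0)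
    (F : EtCoh.Ab (Spec (CommRingCat.of k))) (hF : IsKilled n F) (b : ℕ)
    (x : EtCoh.H (Spec (CommRingCat.of k)) F q) (hx : p ^ b • x = 0) : x = 0 := by
  obtain ⟨a, r, hr, rfl⟩ := Nat.exists_eq_pow_mul_and_not_dvd hn p (Fact.out : p.Prime).ne_one
  let f := p ^ a • 𝟙 F
  let l : F ⟶ kernel f := kernel.lift f (r • 𝟙 F) (by
    rw [Preadditive.comp_nsmul, Category.comp_id, ← mul_nsmul']
    exact hF)
  have h0 : r • x = 0 := by
    rw [← comp_nsmul_id, ← kernel.lift_ι f (r • 𝟙 F) (by
        rw [Preadditive.comp_nsmul, Category.comp_id, ← mul_nsmul']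
        exact hF), ← Ext.mk₀_comp_mk₀]
    refine (Ext.comp_assoc_of_third_deg_zero x (Ext.mk₀ l) (Ext.mk₀ (kernel.ι f)) (add_zero q)).symm.trans ?_
    rw [killed_pow_vanish k hq a _ (isKilled_kernel (p ^ a) F) (x.comp (Ext.mk₀ l) (add_zero q)), Ext.zero_comp]
  exact eq_zero_of_coprime_smul (Nat.Coprime.pow_left b ((Fact.out : p.Prime).coprime_iff_not_dvd.2 hr)) hx h0

set_option maxHeartbeats 1000000 in
/-- `p`-primary classes of torsion sheaves -/
theorem torsion_vanish {p q : ℕ} [Fact p.Prime] (hq : ∀ F : EtCoh.Ab (Spec (CommRingCat.of k)), IsKilled p F →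
      ∀ x : EtCoh.H (Spec (CommRingCat.of k)) F q, x = 0)
    (F : EtCoh.Ab (Spec (CommRingCat.of k))) (hF : EtCoh.IsTorsion F) (b : ℕ)
    (x : EtCoh.H (Spec (CommRingCat.of k)) F q) (hx : p ^ b • x = 0) : x = 0 := by
  let X := Spec (CommRingCat.of k)
  obtain ⟨J, _, _, D, c, hc, ⟨e⟩, hD⟩ := EtPBC63.exists_colimit_constructible F hF
  haveI := EtLC12.QcqsAcyclic.preservesColimitsOfShape_HF X q J
  have hl := isColimitOfPreserves (EtCoh.HF X q) hc
  obtain ⟨j, y, hy⟩ := Concrete.isColimit_exists_rep _ hl ((EtCoh.HF X q).map e.inv x)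
  have hy0 : (EtCoh.HF X q).map (c.ι.app j) (p ^ b • y) = (EtCoh.HF X q).map (c.ι.app j) 0 := by
    refine (map_nsmul ((EtCoh.HF X q).map (c.ι.app j)).hom (p ^ b) y).trans ?_
    refine ((congrArg (fun z => p ^ b • z) hy).trans ?_).trans (map_zero ((EtCoh.HF X q).map (c.ι.app j)).hom).symm
    exact (map_nsmul ((EtCoh.HF X q).map e.inv).hom (p ^ b) x).symm.trans ((congrArg _ hx).trans (map_zero _))
  obtain ⟨l, f, g, hfg⟩ := Concrete.isColimit_exists_of_rep_eq _ hl (p ^ b • y) 0 hy0
  let y' : EtCoh.H X (D.obj l) q := (EtCoh.HF X q).map (D.map f) y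
  have h1 : p ^ b • y' = 0 :=
    (map_nsmul ((EtCoh.HF X q).map (D.map f)).hom (p ^ b) y).symm.trans (hfg.trans (map_zero _))
  obtain ⟨n, hn, hkn⟩ := EtFound.exists_killedBy X (hD l)
  have h2 : y' = 0 := killed_nat_vanish k hq n hn.ne' (D.obj l) hkn b y' h1
  have h3 : (EtCoh.HF X q).map (c.ι.app j) y = 0 := by
    rw [← c.w f, Functor.map_comp, ConcreteCategory.comp_apply]
    exact (congrArg _ h2).trans (map_zero _)
  refine ((EtCoh.HF X q).mapIso e.symm).addCommGroupIsoToAddEquiv.injective ?_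
  exact (hy.symm.trans h3).trans (map_zero _).symm

/-- `cd_p(k) ≤ n` from vanishing of `H^{n+1}(L, ℤ/p)` -/
theorem cd_le_of_zpVanish (p n : ℕ) [Fact p.Prime] (hk : ZpVanish k p (n + 1))
    (F : EtCoh.Ab (Spec (CommRingCat.of k))) (hF : EtCoh.IsTorsion F) (q : ℕ) (hq : n < q)
    (x : EtCoh.H (Spec (CommRingCat.of k)) F q) (hx : ∃ m : ℕ, p ^ m • x = 0) : x = 0 := by
  obtain ⟨b, hb⟩ := hx
  exact torsion_vanish k (killed_vanish_mono k (H_eq_zero_of_killed k p (n + 1) hk) q hq) F hF b x hb

/-- transport to a trivial extension -/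
theorem H_eq_zero_of_bijective {p m : ℕ} (L : Type u) [Field L] [Algebra k L]
    (hb : Function.Bijective (algebraMap k L))
    (h : ∀ x : EtCoh.H (Spec (CommRingCat.of k)) (EtCoh.const (Spec (CommRingCat.of k)) (ZMod p)) m, x = 0)
    (x : EtCoh.H (Spec (CommRingCat.of L)) (EtCoh.const (Spec (CommRingCat.of L)) (ZMod p)) m) : x = 0 := by
  let e := RingEquiv.ofBijective (algebraMap k L) hb
  let g : Spec (CommRingCat.of k) ⟶ Spec (CommRingCat.of L) := Spec.map (CommRingCat.ofHom e.symm.toRingHom)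
  haveI := EtFound.pull_preservesFiniteLimits g
  have h1 : pullExt g x = 0 := by
    refine (Hpull_eq_zero_iff g _ m x).1 ?_
    have h2 := h ((EtCore.Hpull g _ m x).comp (Ext.mk₀ (EtCore.pullConst g (ZMod p)).hom) (add_zero m))
    have h3 := congrArg (fun z : EtCoh.H (Spec (CommRingCat.of k)) (EtCoh.const (Spec (CommRingCat.of k)) (ZMod p)) m =>
      z.comp (Ext.mk₀ (EtCore.pullConst g (ZMod p)).inv) (add_zero m)) h2
    simpa using h3
  have hcomp : specOver k L ≫ g = specOver L L := by
    rw [← Spec.map_comp, ← CommRingCat.ofHom_comp]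
    exact congrArg (fun t => Spec.map (CommRingCat.ofHom t)) (RingHom.ext fun r => e.apply_symm_apply r)
  have h4 : pullExt (specOver L L) x = 0 :=
    (pullExt_eq_zero_of_comp hcomp x).1 (by rw [h1, pullExt_zero])
  have h5 := finrank_nsmul_eq_zero (L := L) x h4
  rwa [Module.finrank_self, one_nsmul] at h5

end Groth.Agent.GalEt
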