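import Groth.Agent.GalEt.Cover
import Groth.Agent.GalEt.ConstSeq
import Groth.Agent.EtFound.ConstStalk
import Groth.Agent.EtMVLib.PullSec
import Groth.Agent.EtStalk.Normal
import Mathlib.AlgebraicGeometry.Morphisms.QuasiFinite
import Mathlib.AlgebraicGeometry.FunctionField
import Mathlib.AlgebraicGeometry.ZariskisMainTheorem

/-!
# Constant sheaves on normal schemes are direct images from the generic point
-/

universe u

open CategoryTheory CategoryTheory.Limits AlgebraicGeometry Opposite

namespace Groth.Agent.GalEt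

set_option backward.isDefEq.respectTransparency.types false
set_option synthInstance.maxHeartbeats 400000
set_option maxHeartbeats 1000000

variable {X : Scheme.{u}}

theorem lqf_of_etale {P Q : Scheme.{u}} (g : P ⟶ Q) [AlgebraicGeometry.Etale g] : LocallyQuasiFinite g := by
  rw [HasRingHomProperty.iff_appLE (P := @LocallyQuasiFinite)]
  intro U₀ W₀ e'
  have := HasRingHomProperty.appLE @AlgebraicGeometry.Etale g inferInstance U₀ W₀ e'
  algebraize [(g.appLE U₀.1 W₀.1 e').hom]
  exact (inferInstance : Algebra.QuasiFinite Γ(Q, U₀.1) Γ(P, W₀.1))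

/-- constant sections -/
noncomputable def cst (M : AddCommGrpCat.{u + 1}) (Z : X.Etale) : M ⟶ ((constF X).obj M).obj.obj (op Z) :=
  (toSheafify X.smallEtaleTopology ((Functor.const X.Etaleᵒᵖ).obj M)).app (op Z)

theorem cst_res (M : AddCommGrpCat.{u + 1}) {Z Z' : X.Etale} (g : Z' ⟶ Z) (m : M) :
    ((constF X).obj M).obj.map g.op (cst M Z m) = cst M Z' m :=
  (NatTrans.naturality_apply (toSheafify X.smallEtaleTopology ((Functor.const X.Etaleᵒᵖ).obj M)) g.op m).symm

theorem unit_constAdj (M : AddCommGrpCat.{u + 1}) :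
    (EtCore.constAdj X).unit.app M = cst M (EtCoh.top X) := by
  ext m
  rfl

/-- over a one-point object constant sections are all sections -/
theorem cst_bijective (M : AddCommGrpCat.{u + 1}) (Z : X.Etale) [Subsingleton Z.left] [Nonempty Z.left] :
    Function.Bijective (cst M Z) := by
  obtain ⟨z⟩ := (inferInstance : Nonempty Z.left)
  obtain ⟨Ω, _, _, ξ, u, -⟩ := EtFound.exists_point_through Z z
  have hb := EtFound.toSheafify_const_germ_bijective ξ AddCommGrpCat.{u + 1} M Z u
  refine ⟨fun a b h => hb.1 (congrArg (fun q => (Scheme.pointSmallEtale ξ).toPresheafFiber Z u ((constF X).obj M).obj q) h), fun s => ?_⟩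
  obtain ⟨m, hm⟩ := hb.2 ((Scheme.pointSmallEtale ξ).toPresheafFiber Z u ((constF X).obj M).obj s)
  refine ⟨m, ?_⟩
  obtain ⟨V, f, v, -, hf⟩ := ((Scheme.pointSmallEtale ξ).toPresheafFiber_eq_iff' _ _ _ _).1 hm
  refine EtFound.eq_of_cover ((constF X).obj M) _ _ ((EtFound.mem_topology_iff _).2 fun x => ?_)
  exact ⟨V, f, (v.left : Spec (CommRingCat.of Ω) ⟶ V.left).base (default : Spec (CommRingCat.of Ω)), hf, Subsingleton.elim _ _⟩

/-- the unit sends constant sections to constant sections -/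
theorem unit_cst {Y : Scheme.{u}} (f : Y ⟶ X) (M : Type) [AddCommGroup M] (W : X.Etale) (m : ULift.{u + 1} M) :
    (EtCore.pullConst f M).hom.hom.app (op ((EtCoh.bc f).obj W))
        (((EtCoh.pullPushAdj f).unit.app (EtCoh.const X M)).hom.app (op W)
          (cst (AddCommGrpCat.of (ULift.{u + 1} M)) W m)) =
      cst (AddCommGrpCat.of (ULift.{u + 1} M)) ((EtCoh.bc f).obj W) m := by
  let M' := AddCommGrpCat.of (ULift.{u + 1} M)
  let t := EtCoh.top X
  let u0 : ((EtCoh.pull f).obj (EtCoh.const X M)).obj.obj (op ((EtCoh.bc f).obj t)) :=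
    ((EtCoh.pullPushAdj f).unit.app (EtCoh.const X M)).hom.app (op t) (cst M' t m)
  have h := EtMVLib.homEquiv_pullConst_inv f M
  rw [Adjunction.homEquiv_unit, unit_constAdj, unit_constAdj, EtMVLib.pullSec_app] at h
  have h1 : (EtCore.pullConst f M).inv.hom.app (op (EtCoh.top Y)) (cst M' (EtCoh.top Y) m) =
      ((EtCoh.pull f).obj (EtCoh.const X M)).obj.map (EtCore.bcTopIso f).inv.op u0 :=
    congrArg (fun a : M' ⟶ ((EtCoh.pull f).obj (EtCoh.const X M)).obj.obj (op (EtCoh.top Y)) => a m) h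
  have h2 : (EtCore.pullConst f M).inv.hom.app (op ((EtCoh.bc f).obj t)) (cst M' ((EtCoh.bc f).obj t) m) = u0 := by
    have h' := congrArg (((EtCoh.pull f).obj (EtCoh.const X M)).obj.map (EtCore.bcTopIso f).hom.op) h1
    rw [hom_comp_map, Iso.hom_inv_id, id_map] at h'
    refine Eq.trans ?_ h'
    rw [← cst_res M' (EtCore.bcTopIso f).hom m]
    exact NatTrans.naturality_apply (EtCore.pullConst f M).inv.hom _ _
  have h3 : (EtCore.pullConst f M).hom.hom.app (op ((EtCoh.bc f).obj t)) u0 = cst M' ((EtCoh.bc f).obj t) m := by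
    rw [← h2]
    exact congrArg (fun a : EtCoh.const Y M ⟶ EtCoh.const Y M => a.hom.app (op ((EtCoh.bc f).obj t))
      (cst M' ((EtCoh.bc f).obj t) m)) (EtCore.pullConst f M).inv_hom_id
  let g : W ⟶ t := (EtCore.topIsTerminal X).from W
  rw [← cst_res M' g m, ← cst_res M' ((EtCoh.bc f).map g) m, ← h3]
  refine (congrArg ((EtCore.pullConst f M).hom.hom.app (op ((EtCoh.bc f).obj W)))
    (NatTrans.naturality_apply ((EtCoh.pullPushAdj f).unit.app (EtCoh.const X M)).hom g.op (cst M' t m))).trans ?_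
  exact NatTrans.naturality_apply (EtCore.pullConst f M).hom.hom ((EtCoh.bc f).map g).op u0

section Normal

variable [IsIntegral X] (hN : ∀ x : X, IsIntegrallyClosed (X.presheaf.stalk x))

include hN in
/-- generalizations over the generic point are unique -/
theorem eq_of_generic {W : Scheme.{u}} (h : W ⟶ X) [Etale h] {a b w : W} (ha : h a = genericPoint X)
    (hb : h b = genericPoint X) (haw : a ⤳ w) (hbw : b ⤳ w) : a = b := by
  haveI : IsDomain (W.presheaf.stalk w) :=
    ((EtStalk.normal_stalk_iff h w).2 ⟨inferInstance, hN _⟩).1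
  let g₀ : W := (W.fromSpecStalk w) (⟨⊥, Ideal.isPrime_bot⟩ : PrimeSpectrum (W.presheaf.stalk w))
  suffices key : ∀ c, h c = genericPoint X → c ⤳ w → c = g₀ from (key a ha haw).trans (key b hb hbw).symm
  intro c hc hcw
  obtain ⟨p, rfl⟩ : c ∈ Set.range (W.fromSpecStalk w).base := by
    rw [Scheme.range_fromSpecStalk]; exact hcw
  have hs : g₀ ⤳ (W.fromSpecStalk w).base p :=
    ((PrimeSpectrum.le_iff_specializes (⟨⊥, Ideal.isPrime_bot⟩ : PrimeSpectrum _) p).1
      (bot_le (a := p.asIdeal))).map (W.fromSpecStalk w).continuous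
  have hs' : h g₀ = genericPoint X := by
    refine (((genericPoint_specializes (h g₀))).antisymm ?_).eq.symm
    exact hc ▸ hs.map h.continuous
  haveI := lqf_of_etale h
  haveI : DiscreteTopology ↥(h ⁻¹' {genericPoint X}) :=
    (h.isDiscrete_preimage_singleton (genericPoint X)).to_subtype
  exact (congrArg Subtype.val
    ((subtype_specializes_iff (⟨g₀, hs'⟩ : ↥(h ⁻¹' {genericPoint X})) ⟨_, hc⟩).2 hs).eq).symm

include hN in
/-- every point has a neighbourhood with a unique point over the generic point -/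
theorem exists_nbhd_unique {W : Scheme.{u}} (h : W ⟶ X) [Etale h] (w : W) :
    ∃ O : W.Opens, w ∈ O ∧ ∃! a : W, a ∈ O ∧ h a = genericPoint X := by
  obtain ⟨V, hV, hwV, -⟩ := exists_isAffineOpen_mem_and_subset (U := (⊤ : X.Opens)) (x := h w) trivial
  obtain ⟨A, hA, hwA, hAV⟩ := exists_isAffineOpen_mem_and_subset (U := h ⁻¹ᵁ V) (x := w) hwV
  have hη : genericPoint X ∈ V := (genericPoint_specializes (h w)).mem_open V.2 hwV
  haveI : IsAffine A.toScheme := hA
  haveI : IsAffine V.toScheme := hV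
  let r : A.toScheme ⟶ V.toScheme := h.resLE V A hAV
  haveI : Etale r := by
    have h4 : Etale (r ≫ V.ι) := by rw [Scheme.Hom.resLE_comp_ι]; infer_instance
    exact MorphismProperty.of_postcomp (W := @Etale) (W' := @Etale) r V.ι inferInstance h4
  have hr : ∀ a : A.toScheme, (r a).1 = h a.1 := fun a =>
    congrArg (fun q : A.toScheme ⟶ X => q a) (Scheme.Hom.resLE_comp_ι h hAV)
  haveI := lqf_of_etale r
  let G : Set W := (A : Set W) ∩ h ⁻¹' {genericPoint X}
  have hG : G.Finite := by
    refine ((r.finite_preimage_singleton (⟨genericPoint X, hη⟩ : V.toScheme)).image Subtype.val).subset ?_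
    rintro a ⟨haA, ha⟩
    exact ⟨⟨a, haA⟩, Subtype.ext ((hr ⟨a, haA⟩).trans ha), rfl⟩
  let Bad : Set W := ⋃ z ∈ {z ∈ G | ¬ z ⤳ w}, closure {z}
  have hBad : IsClosed Bad := (hG.subset fun z hz => hz.1).isClosed_biUnion fun _ _ => isClosed_closure
  let O : W.Opens := ⟨(A : Set W) ∩ Badᶜ, A.2.inter hBad.isOpen_compl⟩
  have hwO : w ∈ O := ⟨hwA, fun hb => by
    obtain ⟨z, ⟨-, hz⟩, hzw⟩ := Set.mem_iUnion₂.1 hb
    exact hz (specializes_iff_mem_closure.2 hzw)⟩
  obtain ⟨a, haw, ha⟩ := Flat.generalizingMap h (genericPoint_specializes (h w))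
  refine ⟨O, hwO, a, ⟨haw.mem_open O.2 hwO, ha⟩, ?_⟩
  rintro b ⟨⟨hbA, hbB⟩, hb⟩
  refine eq_of_generic hN h hb ha ?_ haw
  by_contra hne
  exact hbB (Set.mem_iUnion₂.2 ⟨b, ⟨⟨hbA, hb⟩, hne⟩, subset_closure rfl⟩)

include hN in
/-- neighbourhoods with a one-point generic fibre -/
theorem exists_point_fibre (W : X.Etale) (w : W.left) :
    ∃ (V : X.Etale) (g : V ⟶ W) (v : V.left), g.left v = w ∧
      Subsingleton ((EtCoh.bc (X.fromSpecStalk (genericPoint X))).obj V).left ∧
      Nonempty ((EtCoh.bc (X.fromSpecStalk (genericPoint X))).obj V).left := by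
  haveI : Etale (W.hom : W.left ⟶ X) := W.prop
  obtain ⟨O, hwO, a, ⟨haO, ha⟩, huniq⟩ := exists_nbhd_unique hN (W.hom : W.left ⟶ X) w
  let f := X.fromSpecStalk (genericPoint X)
  let V := EtFound.restrictEtale W O
  refine ⟨V, EtFound.restrictEtaleHom W O, ⟨w, hwO⟩, rfl, ?_, ?_⟩
  · refine ⟨fun p q => ?_⟩
    let j : ((EtCoh.bc f).obj V).left ⟶ V.left := pullback.fst V.hom f
    haveI : IsPreimmersion j := MorphismProperty.pullback_fst (P := @IsPreimmersion) V.hom f (inferInstanceAs (IsPreimmersion (X.fromSpecStalk _)))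
    refine j.isEmbedding.injective ?_
    have key : ∀ p : ((EtCoh.bc f).obj V).left, (j p).1 = a := fun p => by
      refine huniq _ ⟨(j p).2, ?_⟩
      have hp : (V.hom : V.left ⟶ X) (j p) ∈ Set.range f := ⟨(pullback.snd V.hom f) p,
        (congrArg (fun q : pullback V.hom f ⟶ X => q p) pullback.condition).symm⟩
      rw [Scheme.range_fromSpecStalk] at hp
      exact (hp.antisymm (genericPoint_specializes _)).eq
    exact Subtype.ext ((key p).trans (key q).symm)
  · obtain ⟨p, -⟩ := Scheme.Pullback.exists_preimage_pullback (f := V.hom) (g := f) (⟨a, haO⟩ : V.left)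
      (IsLocalRing.closedPoint (X.presheaf.stalk (genericPoint X)))
      (ha.trans (Scheme.fromSpecStalk_closedPoint).symm)
    exact ⟨p⟩

include hN in
/-- a constant sheaf on a normal integral scheme is the direct image of its generic restriction -/
theorem isIso_unit_const_genericPoint (M : Type) [AddCommGroup M] :
    IsIso ((EtCoh.pullPushAdj (X.fromSpecStalk (genericPoint X))).unit.app (EtCoh.const X M)) := by
  let f := X.fromSpecStalk (genericPoint X)
  let M' := AddCommGrpCat.of (ULift.{u + 1} M)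
  let C := EtCoh.const X M
  let η := (EtCoh.pullPushAdj f).unit.app C
  have hinjpc : ∀ Z, Function.Injective ((EtCore.pullConst f M).hom.hom.app (op Z)) := fun Z x y e => by
    have h := congrArg ((EtCore.pullConst f M).inv.hom.app (op Z)) e
    have e' : ∀ x, (EtCore.pullConst f M).inv.hom.app (op Z) ((EtCore.pullConst f M).hom.hom.app (op Z) x) = x :=
      fun x => congrArg (fun a : (EtCoh.pull f).obj C ⟶ (EtCoh.pull f).obj C => a.hom.app (op Z) x)
        (EtCore.pullConst f M).hom_inv_id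
    rwa [e', e'] at h
  have hsurj : ∀ (V : X.Etale), Subsingleton ((EtCoh.bc f).obj V).left → Nonempty ((EtCoh.bc f).obj V).left →
      ∀ s, ∃ m, η.hom.app (op V) (cst M' V m) = s := fun V _ _ s => by
    obtain ⟨m, hm⟩ := (cst_bijective M' ((EtCoh.bc f).obj V)).2
      ((EtCore.pullConst f M).hom.hom.app (op ((EtCoh.bc f).obj V)) s)
    exact ⟨m, hinjpc _ ((unit_cst f M V m).trans hm)⟩
  haveI : ∀ U, Mono (η.hom.app U) := fun U => by
    refine (AddCommGrpCat.mono_iff_injective _).2 ?_
    refine (injective_iff_map_eq_zero (η.hom.app U).hom).2 fun s hs => ?_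
    refine EtFound.eq_of_cover C s 0 ((EtFound.mem_topology_iff _).2 fun x => ?_)
    obtain ⟨V₁, g₁, v₁, ⟨m, hm⟩, hv₁⟩ := (EtFound.mem_topology_iff _).1
      (Presheaf.imageSieve_mem X.smallEtaleTopology
        (toSheafify X.smallEtaleTopology ((Functor.const X.Etaleᵒᵖ).obj M')) (U := U) s) x
    obtain ⟨V, g, v, hv, hsub, hne⟩ := exists_point_fibre hN V₁ v₁
    refine ⟨V, g ≫ g₁, v, ?_, (Scheme.Hom.comp_apply _ _ _).trans ((congrArg g₁.left hv).trans hv₁)⟩
    show C.obj.map (g ≫ g₁).op s = C.obj.map (g ≫ g₁).op 0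
    have e : C.obj.map (g ≫ g₁).op s = cst M' V m := by
      rw [← hom_comp_map C, ← cst_res M' g m]
      exact congrArg (C.obj.map g.op) hm.symm
    have h0 : η.hom.app (op V) (cst M' V m) = 0 := by
      rw [← e]
      refine (NatTrans.naturality_apply η.hom (g ≫ g₁).op s).trans ?_
      exact (congrArg (((EtCoh.push f).obj ((EtCoh.pull f).obj C)).obj.map (g ≫ g₁).op) hs).trans (map_zero _)
    have hm0 : m = 0 := (cst_bijective M' ((EtCoh.bc f).obj V)).1
      ((unit_cst f M V m).symm.trans ((congrArg _ h0).trans ((map_zero _).trans (map_zero _).symm)))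
    rw [e, hm0, map_zero, map_zero]
  haveI := NatTrans.mono_of_mono_app η.hom
  haveI : Mono η := (sheafToPresheaf _ _).mono_of_mono_map (inferInstanceAs (Mono η.hom))
  haveI : Epi η := by
    refine (Sheaf.isLocallySurjective_iff_epi' _ η).1 ⟨fun {U} s => (EtFound.mem_topology_iff _).2 fun x => ?_⟩
    obtain ⟨V, g, v, hv, hsub, hne⟩ := exists_point_fibre hN U x
    obtain ⟨m, hm⟩ := hsurj V hsub hne (((EtCoh.push f).obj ((EtCoh.pull f).obj C)).obj.map g.op s)
    exact ⟨V, g, v, ⟨cst M' V m, hm⟩, hv⟩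
  exact isIso_of_mono_of_epi η

end Normal

end Groth.Agent.GalEt
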