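import Groth.Agent.GalEt.BigH0
import Groth.Prelude.Def_CGrpSh

/-!
# Degree zero cohomology of the sheaf of points
-/

set_option autoImplicit false
set_option maxHeartbeats 1000000
set_option backward.isDefEq.respectTransparency.types false

universe u

open CategoryTheory CategoryTheory.Limits AlgebraicGeometry Opposite
open scoped MonObj

namespace Groth.Agent.GalEt.PtsH0

variable (P : Precoverage Scheme.{u}) {X : Scheme.{u}} [(QuotSh.J P X).Subcanonical] (G : Over X) [GrpObj G] [IsCommMonObj G]

/-- the point of a class of degree zero -/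
noncomputable def pt (U : Over X) (x : BigSite.HU P (CGrpSh.pts P G) 0 U) : U ⟶ G :=
  ((CGrpSh.sectEquiv P G U) (BigH0.sec P (CGrpSh.pts P G) U x)).toMul

theorem pt_bijective (U : Over X) : Function.Bijective (pt P G U) :=
  (Additive.toMul.bijective.comp (CGrpSh.sectEquiv P G U).bijective).comp (BigH0.sec_bijective P (CGrpSh.pts P G) U)

theorem sect_map {U U' : Over X} (g : U' ⟶ U) (s : (CGrpSh.pts P G).obj.obj (op U)) :
    ((CGrpSh.sectEquiv P G U') (((CGrpSh.pts P G).obj.map g.op).hom s)).toMul = g ≫ ((CGrpSh.sectEquiv P G U) s).toMul := rfl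

theorem pt_res {U U' : Over X} (g : U' ⟶ U) (x : BigSite.HU P (CGrpSh.pts P G) 0 U) :
    pt P G U' (HRes.resHU P (CGrpSh.pts P G) 0 g x) = g ≫ pt P G U x :=
  (congrArg (fun s => ((CGrpSh.sectEquiv P G U') s).toMul) (BigH0.sec_res P (CGrpSh.pts P G) g x)).trans
    (sect_map P G g _)

/-- the point determines the class -/
theorem ext {U : Over X} {a b : BigSite.HU P (CGrpSh.pts P G) 0 U} (h : (pt P G U a).left = (pt P G U b).left) : a = b :=
  (pt_bijective P G U).1 (Over.OverMorphism.ext h)

theorem res_left {U U' : Over X} (g : U' ⟶ U) (x : BigSite.HU P (CGrpSh.pts P G) 0 U) :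
    (pt P G U' (HRes.resHU P (CGrpSh.pts P G) 0 g x)).left = g.left ≫ (pt P G U x).left :=
  congrArg CommaMorphism.left (pt_res P G g x)

theorem exists_of_left {U : Over X} (y : U.left ⟶ G.left) (h : y ≫ G.hom = U.hom) :
    ∃ x, (pt P G U x).left = y :=
  let ⟨x, hx⟩ := (pt_bijective P G U).2 (Over.homMk y h)
  ⟨x, congrArg CommaMorphism.left hx⟩

end Groth.Agent.GalEt.PtsH0
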