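import Groth.Agent.GalEt.ProdPts
import Groth.Agent.GalEt.PtsH0
import Groth.Prelude.Def_AdFn

/-!
# Adelic points of a separated scheme of finite type
-/

set_option autoImplicit false
set_option maxHeartbeats 1000000
set_option linter.style.haveILetI false
set_option backward.isDefEq.respectTransparency.types false

universe u

open CategoryTheory CategoryTheory.Limits AlgebraicGeometry Opposite

namespace Groth.Agent.GalEt.AdelePts

variable {Fq K : Type u} [Field Fq] [Field K] [Algebra Fq K] (S : Set (FunFld.Place Fq K))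


variable (X : Over (Spec (CommRingCat.of (AdFn.SInt S)))) [LocallyOfFiniteType X.hom] [QuasiCompact X.hom]

theorem isLocalRing_Ov (v : FunFld.Place Fq K) : IsLocalRing ((AdFn.Ov v).toSubring) :=
  (inferInstance : IsLocalRing (AdFn.Ov v))

theorem eventually_exists_integral [AdFn.HasFinitePoles Fq K] (hS : S.Finite)
    (x : Spec (CommRingCat.of (AdFn.AdeleRing Fq K)) ⟶ X.left)
    (hx : x ≫ X.hom = Spec.map (CommRingCat.ofHom (AdFn.SInt.toAd S))) :
    ∀ᶠ v in Filter.cofinite, ∃ (hv : v ∉ S) (y : Spec (CommRingCat.of (AdFn.Ov v)) ⟶ X.left),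
      y ≫ X.hom = Spec.map (CommRingCat.ofHom (AdFn.SInt.toOv S hv)) ∧
      Spec.map (CommRingCat.ofHom (AdFn.Ov v).subtype) ≫ y =
        Spec.map (CommRingCat.ofHom (AdFn.AdeleRing.proj v)) ≫ x := by
  haveI := fun v => isLocalRing_Ov (Fq := Fq) (K := K) v
  have hev := ProdPts.eventually_integral (R₀ := (CommRingCat.of (AdFn.SInt S))) X.hom (CommRingCat.ofHom (AdFn.SInt.toAd S)) x hx
    (fun v => CommRingCat.of (AdFn.Kv v)) (fun v => (AdFn.Ov v).toSubring)
    (fun v => CommRingCat.ofHom (AdFn.AdeleRing.proj v)) (fun r => r.2)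
  filter_upwards [hev, hS.eventually_cofinite_notMem] with v hv hvS
  obtain ⟨y, hy, hy'⟩ := hv fun r => (AdFn.SInt.toOv S hvS r).2
  exact ⟨hvS, y, hy, hy'⟩

theorem exists_adelic_point [AdFn.HasFinitePoles Fq K]
    (x : ∀ v : FunFld.Place Fq K, Spec (CommRingCat.of (AdFn.Kv v)) ⟶ X.left)
    (hx : ∀ v, x v ≫ X.hom = Spec.map (CommRingCat.ofHom (AdFn.SInt.toKv S v)))
    (hint : ∀ᶠ v in Filter.cofinite, ∃ (hv : v ∉ S) (y : Spec (CommRingCat.of (AdFn.Ov v)) ⟶ X.left),
      y ≫ X.hom = Spec.map (CommRingCat.ofHom (AdFn.SInt.toOv S hv)) ∧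
      Spec.map (CommRingCat.ofHom (AdFn.Ov v).subtype) ≫ y = x v) :
    ∃ z : Spec (CommRingCat.of (AdFn.AdeleRing Fq K)) ⟶ X.left,
      z ≫ X.hom = Spec.map (CommRingCat.ofHom (AdFn.SInt.toAd S)) ∧
      ∀ v, Spec.map (CommRingCat.ofHom (AdFn.AdeleRing.proj v)) ≫ z = x v := by
  classical
  let bad : Set (FunFld.Place Fq K) := {v | ¬ ∃ (hv : v ∉ S) (y : Spec (CommRingCat.of (AdFn.Ov v)) ⟶ X.left),
      y ≫ X.hom = Spec.map (CommRingCat.ofHom (AdFn.SInt.toOv S hv)) ∧
      Spec.map (CommRingCat.ofHom (AdFn.Ov v).subtype) ≫ y = x v}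
  have hbad : bad.Finite := Filter.eventually_cofinite.1 hint
  let T : ∀ v, Subring (AdFn.Kv v) := fun v => if v ∈ bad then ⊤ else (AdFn.Ov v).toSubring
  haveI : ∀ v, IsLocalRing (T v) := fun v => by
    by_cases h : v ∈ bad
    · have e : T v = ⊤ := if_pos h
      rw [e]
      exact RingEquiv.isLocalRing (Subring.topEquiv (R := AdFn.Kv v)).symm
    · have e : T v = (AdFn.Ov v).toSubring := if_neg h
      rw [e]
      exact isLocalRing_Ov v
  have hR : ∀ v (r : AdFn.SInt S), AdFn.SInt.toKv S v r ∈ T v := fun v r => by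
    by_cases h : v ∈ bad
    · simp only [T, if_pos h]; exact Subring.mem_top _
    · simp only [T, if_neg h]
      obtain ⟨hvS, -⟩ := not_not.1 h
      exact (AdFn.SInt.toOv S hvS r).2
  haveI : CompactSpace X.left := QuasiCompact.compactSpace_of_compactSpace X.hom
  have hy : ∀ v, ∃ y : Spec (CommRingCat.of (T v)) ⟶ X.left,
      y ≫ X.hom = Spec.map (CommRingCat.ofHom ((AdFn.SInt.toKv S v).codRestrict (T v) (hR v))) ∧
        Spec.map (CommRingCat.ofHom (T v).subtype) ≫ y = x v := by
    intro v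
    by_cases h : v ∈ bad
    · have ht : ∀ a : AdFn.Kv v, a ∈ T v := fun a => by simp only [T, if_pos h]; exact Subring.mem_top _
      refine ⟨Spec.map (CommRingCat.ofHom ((RingHom.id _).codRestrict (T v) ht)) ≫ x v, ?_, ?_⟩
      · rw [Category.assoc, hx]
        exact (Spec.map_comp _ _).symm
      · rw [← Category.assoc, ← Spec.map_comp,
          show CommRingCat.ofHom ((RingHom.id _).codRestrict (T v) ht) ≫ CommRingCat.ofHom (T v).subtype = 𝟙 _ from rfl,
          Spec.map_id, Category.id_comp]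
    · obtain ⟨hvS, y₀, hy₀, hy₀'⟩ := not_not.1 h
      have e : T v = (AdFn.Ov v).toSubring := if_neg h
      let ι : AdFn.Ov v →+* T v := (AdFn.Ov v).subtype.codRestrict (T v) fun a => by rw [e]; exact a.2
      refine ⟨Spec.map (CommRingCat.ofHom ι) ≫ y₀,
        ?_, ?_⟩
      · refine (Category.assoc _ _ _).trans ((congrArg (_ ≫ ·) hy₀).trans ?_)
        refine (Spec.map_comp _ _).symm.trans (congrArg Spec.map ?_)
        exact CommRingCat.hom_ext (RingHom.ext fun r => rfl)
      · refine Eq.trans ?_ hy₀'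
        rw [← Category.assoc, ← Spec.map_comp]
        rfl
  choose y hy hy' using hy
  obtain ⟨z, hz⟩ := ProdPts.exists_point_pi (fun v => CommRingCat.of (T v)) y
  have hval : ∀ c : ∀ v, T v, ∀ᶠ v in Filter.cofinite, ((c v : T v) : AdFn.Kv v) ∈ (AdFn.Ov v : Set (AdFn.Kv v)) :=
    fun c => by
      filter_upwards [hbad.eventually_cofinite_notMem] with v hv
      have h := (c v).2
      simp only [T, if_neg hv] at h
      exact h
  let j : (∀ v, T v) →+* AdFn.AdeleRing Fq K :=
    { toFun := fun c => ⟨fun v => (c v).1, hval c⟩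
      map_one' := rfl
      map_mul' := fun _ _ => rfl
      map_zero' := rfl
      map_add' := fun _ _ => rfl }
  let ρT : AdFn.SInt S →+* (∀ v, T v) := RingHom.pi fun v => (AdFn.SInt.toKv S v).codRestrict (T v) (hR v)
  have hρ : z ≫ X.hom = Spec.map (CommRingCat.ofHom ρT) := by
    rw [← Spec.map_preimage (z ≫ X.hom)]
    refine congrArg Spec.map (CommRingCat.hom_ext (RingHom.ext fun r => funext fun v => ?_))
    have h : Spec.map (Spec.preimage (z ≫ X.hom) ≫ CommRingCat.ofHom (Pi.evalRingHom (fun v => T v) v)) =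
        Spec.map (CommRingCat.ofHom ((AdFn.SInt.toKv S v).codRestrict (T v) (hR v))) := by
      rw [Spec.map_comp, Spec.map_preimage, ← hy v, ← hz v, Category.assoc]
    exact ConcreteCategory.congr_hom (Spec.map_injective h) r
  refine ⟨Spec.map (CommRingCat.ofHom j) ≫ z, ?_, fun v => ?_⟩
  · rw [Category.assoc, hρ, ← Spec.map_comp]
    rfl
  · refine Eq.trans ?_ (hy' v)
    rw [← hz v, ← Category.assoc, ← Category.assoc, ← Spec.map_comp, ← Spec.map_comp]
    rfl

end Groth.Agent.GalEt.AdelePts
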