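import Mathlib.RingTheory.TensorProduct.Basic
import Mathlib.RingTheory.TensorProduct.Maps
import Mathlib.RingTheory.TensorProduct.Free
import Mathlib.LinearAlgebra.Basis.VectorSpace
import Mathlib.RingTheory.Flat.Basic

/-!
# The first Amitsur cohomology of the multiplicative group of a field extension
-/

set_option autoImplicit false
set_option linter.style.haveILetI false

universe u

open TensorProduct

namespace Groth.Agent.GalEt.Amitsur

variable (k L : Type u) [Field k] [Field L] [Algebra k L]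

/-- `x ⊗ y ↦ x ⊗ y ⊗ 1` -/
noncomputable def p12 : L ⊗[k] L →ₐ[k] L ⊗[k] (L ⊗[k] L) :=
  Algebra.TensorProduct.map (AlgHom.id k L) Algebra.TensorProduct.includeLeft

/-- `x ⊗ y ↦ x ⊗ 1 ⊗ y` -/
noncomputable def p13 : L ⊗[k] L →ₐ[k] L ⊗[k] (L ⊗[k] L) :=
  Algebra.TensorProduct.map (AlgHom.id k L) Algebra.TensorProduct.includeRight

/-- `x ⊗ y ↦ 1 ⊗ x ⊗ y` -/
noncomputable def p23 : L ⊗[k] L →ₐ[k] L ⊗[k] (L ⊗[k] L) :=
  Algebra.TensorProduct.includeRight

theorem p12_tmul (x y : L) : p12 k L (x ⊗ₜ y) = x ⊗ₜ (y ⊗ₜ 1) := rfl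

theorem p13_tmul (x y : L) : p13 k L (x ⊗ₜ y) = x ⊗ₜ (1 ⊗ₜ y) := rfl

theorem p23_tmul (x y : L) : p23 k L (x ⊗ₜ y) = 1 ⊗ₜ (x ⊗ₜ y) := rfl

variable {k L}

/-- contraction of the last factor -/
noncomputable def con (φ : L →ₗ[k] k) : L ⊗[k] L →ₗ[k] L :=
  (TensorProduct.rid k L).toLinearMap.comp (φ.lTensor L)

theorem con_tmul (φ : L →ₗ[k] k) (x y : L) : con φ (x ⊗ₜ y) = φ y • x := by simp [con]

theorem key12 (φ : L →ₗ[k] k) (a : L ⊗[k] L) (w : L ⊗[k] (L ⊗[k] L)) :
    (con φ).lTensor L (p12 k L a * w) = a * (con φ).lTensor L w := by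
  induction a with
  | zero => simp
  | add a b ha hb => simp [add_mul, ha, hb]
  | tmul x y =>
    induction w with
    | zero => simp
    | add w w' hw hw' => rw [mul_add, map_add, map_add, hw, hw', mul_add]
    | tmul p q =>
      induction q with
      | zero => simp
      | add q q' hq hq' => rw [tmul_add, mul_add, map_add, map_add, hq, hq', mul_add]
      | tmul r s =>
        rw [p12_tmul, Algebra.TensorProduct.tmul_mul_tmul, Algebra.TensorProduct.tmul_mul_tmul,
          LinearMap.lTensor_tmul, LinearMap.lTensor_tmul, con_tmul, con_tmul, one_mul,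
          Algebra.TensorProduct.tmul_mul_tmul, mul_smul_comm]

theorem key13 (φ : L →ₗ[k] k) (a : L ⊗[k] L) :
    (con φ).lTensor L (p13 k L a) = con φ a ⊗ₜ 1 := by
  induction a with
  | zero => simp
  | add a b ha hb => rw [map_add, map_add, map_add, ha, hb, add_tmul]
  | tmul x y =>
    rw [p13_tmul, LinearMap.lTensor_tmul, con_tmul, con_tmul, TensorProduct.smul_tmul]

theorem key23 (φ : L →ₗ[k] k) (a : L ⊗[k] L) :
    (con φ).lTensor L (p23 k L a) = 1 ⊗ₜ con φ a := rfl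

theorem exists_con_ne_zero {a : L ⊗[k] L} (ha : a ≠ 0) : ∃ φ : L →ₗ[k] k, con φ a ≠ 0 := by
  classical
  let b := Module.Free.chooseBasis k L
  obtain ⟨i, hi⟩ : ∃ i, TensorProduct.equivFinsuppOfBasisRight b a i ≠ 0 := by
    by_contra h
    exact ha ((TensorProduct.equivFinsuppOfBasisRight b).map_eq_zero_iff.1
      (Finsupp.ext fun i => not_not.1 fun hi => h ⟨i, hi⟩))
  refine ⟨b.coord i, fun h => hi ?_⟩
  rw [← h]
  refine LinearMap.congr_fun (f := (Finsupp.lapply i).comp (TensorProduct.equivFinsuppOfBasisRight b).toLinearMap)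
    (g := con (b.coord i)) (TensorProduct.ext' fun x y => ?_) a
  simp [con_tmul]

/-- every one-cocycle is a coboundary -/
theorem exists_eq_coboundary (c : (L ⊗[k] L)ˣ)
    (hc : p23 k L c * p12 k L c = p13 k L c) :
    ∃ ψ : L, ψ ≠ 0 ∧ (c : L ⊗[k] L) * ((1 : L) ⊗ₜ[k] ψ) = ψ ⊗ₜ[k] (1 : L) := by
  haveI : Nontrivial (L ⊗[k] L) :=
    Algebra.TensorProduct.nontrivial_of_algebraMap_injective_of_flat_left k L L (algebraMap k L).injective
  obtain ⟨φ, hφ⟩ := exists_con_ne_zero (a := (c : L ⊗[k] L)) c.ne_zero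
  refine ⟨_, hφ, ?_⟩
  rw [← key23, ← key12, mul_comm, hc, key13]

end Groth.Agent.GalEt.Amitsur
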