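import Groth.Agent.EtMVLib.BigPull

/-!
# Degree zero cohomology on big sites is sections, naturally
-/

set_option autoImplicit false
set_option maxHeartbeats 1000000
set_option backward.isDefEq.respectTransparency.types false

universe u

open CategoryTheory CategoryTheory.Limits CategoryTheory.Abelian AlgebraicGeometry Opposite

namespace Groth.Agent.GalEt.BigH0

open EtMVLib

variable (K : Precoverage Scheme.{u}) {S : Scheme.{u}} (F : BigSite.Ab K S)

/-- the object as the image of the terminal object over it -/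
noncomputable abbrev topOver (U : Over S) : Over S := (Over.map U.hom).obj (Over.mk (𝟙 U.left))

/-- an object maps to itself -/
noncomputable def selfTop (U : Over S) : U ⟶ topOver U :=
  Over.homMk (𝟙 U.left) (congrArg (fun w => 𝟙 U.left ≫ w) (Category.id_comp U.hom) |>.trans (Category.id_comp _))

instance isIso_selfTop (U : Over S) : IsIso (selfTop U) := by
  refine ⟨Over.homMk (𝟙 U.left) ((Category.id_comp _).trans (Category.id_comp _).symm), ?_, ?_⟩ <;>
    exact Over.OverMorphism.ext (Category.id_comp _)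

/-- the section attached to a class of degree zero -/
noncomputable def sec (U : Over S) (x : BigSite.HU K F 0 U) : F.obj.obj (op U) :=
  (F.obj.map (selfTop U).op).hom
    (Sheaf.H.equiv₀ ((BigSite.pullBig K U.hom AddCommGrpCat.{u + 1}).obj F) (Over.mkIdTerminal : IsTerminal (Over.mk (𝟙 U.left))) x)

theorem sec_bijective (U : Over S) : Function.Bijective (sec K F U) :=
  (ConcreteCategory.bijective_of_isIso (F.obj.map (selfTop U).op)).comp (AddEquiv.bijective _)

theorem sec_add (U : Over S) (x y : BigSite.HU K F 0 U) : sec K F U (x + y) = sec K F U x + sec K F U y :=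
  (congrArg (F.obj.map (selfTop U).op).hom (map_add (Sheaf.H.equiv₀ _ (Over.mkIdTerminal : IsTerminal (Over.mk (𝟙 U.left)))) x y)).trans
    ((F.obj.map (selfTop U).op).hom.map_add _ _)

theorem equiv₀_eq {T : Scheme.{u}} (G : BigSite.Ab K T) (x : BigSite.H K T G 0) :
    Sheaf.H.equiv₀ G (Over.mkIdTerminal : IsTerminal (Over.mk (𝟙 T))) x =
      ((Ext.addEquiv₀ x).hom.app (op (Over.mk (𝟙 T)))).hom ((bigUnit K T (Over.mk (𝟙 T))).hom ⟨1⟩) := rfl

theorem sec_res {U U' : Over S} (g : U' ⟶ U) (x : BigSite.HU K F 0 U) :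
    sec K F U' (HRes.resHU K F 0 g x) = (F.obj.map g.op).hom (sec K F U x) := by
  let a := Ext.addEquiv₀ x
  have hx : x = Ext.mk₀ a := (Ext.addEquiv₀.symm_apply_apply x).symm
  let P₁ := BigSite.pullBig K g.left AddCommGrpCat.{u + 1}
  let a' : bigZ K U'.left ⟶ (BigSite.pullBig K U'.hom AddCommGrpCat.{u + 1}).obj F :=
    ((HRes.pullConst K g.left (AddCommGrpCat.of (ULift.{u + 1} ℤ))).inv ≫ P₁.map a) ≫ (HRes.pullIso K F g).hom
  have ha : Ext.addEquiv₀ (HRes.resHU K F 0 g x) = a' := by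
    refine Ext.addEquiv₀.apply_eq_iff_symm_apply.2 ?_
    show HRes.resHU K F 0 g x = Ext.mk₀ a'
    rw [hx]
    show Sheaf.H.map _ 0 (HRes.pull K g.left _ 0 _) = _
    rw [Sheaf.H.map_apply, HRes.pull_apply, Ext.mapExactFunctor_mk₀, Ext.mk₀_comp_mk₀, Ext.mk₀_comp_mk₀]
  rw [sec, equiv₀_eq, ha, sec, equiv₀_eq]
  let T := U.left
  let W : Over T := (Over.map g.left).obj (Over.mk (𝟙 U'.left))
  let t : W ⟶ Over.mk (𝟙 T) := Over.homMk W.hom (Category.comp_id _)
  let one : ULift.{u + 1} ℤ := ⟨1⟩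
  have h1 : ((HRes.pullConst K g.left (AddCommGrpCat.of (ULift.{u + 1} ℤ))).inv.hom.app (op (Over.mk (𝟙 U'.left)))).hom
      ((bigUnit K U'.left (Over.mk (𝟙 U'.left))).hom one) = (bigUnit K T W).hom one :=
    ConcreteCategory.congr_hom (bigUnit_pullConst_inv K g.left (Over.mk (𝟙 U'.left))) one
  have h2 : (a.hom.app (op W)).hom ((bigUnit K T W).hom one) =
      (F.obj.map ((Over.map U.hom).map t).op).hom ((a.hom.app (op (Over.mk (𝟙 T)))).hom
        ((bigUnit K T (Over.mk (𝟙 T))).hom one)) := by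
    rw [← bigUnit_map K T t]
    exact ConcreteCategory.congr_hom (a.hom.naturality t.op) _
  show (F.obj.map (selfTop U').op).hom (((HRes.pullIso K F g).hom.hom.app (op (Over.mk (𝟙 U'.left)))).hom
    ((a.hom.app (op W)).hom (((HRes.pullConst K g.left (AddCommGrpCat.of (ULift.{u + 1} ℤ))).inv.hom.app
      (op (Over.mk (𝟙 U'.left)))).hom ((bigUnit K U'.left (Over.mk (𝟙 U'.left))).hom one)))) = _
  rw [h1, h2]
  generalize (a.hom.app (op (Over.mk (𝟙 T)))).hom ((bigUnit K T (Over.mk (𝟙 T))).hom one) = v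
  obtain ⟨e, he, hel⟩ : ∃ e : topOver U' ⟶ (Over.map U.hom).obj W,
      (HRes.pullIso K F g).hom.hom.app (op (Over.mk (𝟙 U'.left))) = F.obj.map e.op ∧ e.left = 𝟙 U'.left := by
    refine ⟨(Over.mapCongr _ _ (Over.w g)).inv.app _ ≫ (Over.mapComp g.left U.hom).hom.app _, ?_, ?_⟩
    · refine Eq.trans ?_ ((F.obj.map_comp _ _).symm)
      rfl
    · simp
  rw [he]
  have key : selfTop U' ≫ e ≫ (Over.map U.hom).map t = g ≫ selfTop U := Over.OverMorphism.ext (by
    simp only [Over.comp_left, hel]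
    show 𝟙 _ ≫ 𝟙 _ ≫ W.hom = g.left ≫ 𝟙 _
    simp [W])
  calc _ = (F.obj.map (selfTop U' ≫ e ≫ (Over.map U.hom).map t).op).hom v := by
        rw [op_comp, op_comp, Functor.map_comp, Functor.map_comp]; rfl
    _ = _ := by rw [key, op_comp, Functor.map_comp]; rfl

end Groth.Agent.GalEt.BigH0
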