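import Groth.Agent.GalEt.Cyclic
import Groth.Agent.GalEt.Multiplication
import Groth.Agent.Adeq2Lib.ZarCompare
import Mathlib.RingTheory.Norm.Basic

/-!
# The Brauer group killed by a cyclic extension and the norm
-/

universe u

open CategoryTheory CategoryTheory.Limits AlgebraicGeometry Opposite CategoryTheory.Abelian

namespace Groth.Agent.GalEt

set_option backward.isDefEq.respectTransparency.types false
set_option synthInstance.maxHeartbeats 400000
set_option maxHeartbeats 1000000

theorem comp_unit_map_eq_zero {X : Scheme.{u}} (T : X.Etale) [IsIntegralHom (π T)] {A B : EtCoh.Ab X} {n : ℕ}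
    (α : Ext A B n) (h : pullExt (π T) α = 0) {C : EtCoh.Ab X}
    (m : (EtCoh.push (π T)).obj ((EtCoh.pull (π T)).obj B) ⟶ C) :
    α.comp (Ext.mk₀ ((EtCoh.pullPushAdj (π T)).unit.app B ≫ m)) (add_zero n) = 0 := by
  haveI := EtFound.push_preservesFiniteLimits (π T)
  haveI := EtFound.push_preservesFiniteColimits (π T)
  haveI := EtFound.pull_preservesFiniteLimits (π T)
  rw [← Ext.mk₀_comp_mk₀]
  refine (Ext.comp_assoc_of_third_deg_zero _ _ _ (add_zero n)).symm.trans ?_
  rw [comp_unit_eq_zero (EtCoh.pullPushAdj (π T)) α h, Ext.zero_comp]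

variable {k : Type u} [Field k] (L : Type u) [Field L] [Algebra k L] [FiniteDimensional k L] [IsGalois k L]

/-- restriction of `G_m` is `G_m` -/
noncomputable def restrGmIso : (EtShriek.restrAlong (π (extObj k L))).obj (EtCoh.Gm (Spec (CommRingCat.of k))) ≅
    EtCoh.Gm (Spec (CommRingCat.of L)) :=
  (fullyFaithfulSheafToPresheaf _ _).preimageIso (NatIso.ofComponents (fun V => Iso.refl _) fun {V W} g => by
    simp only [Iso.refl_hom, Category.comp_id, Category.id_comp]
    rfl)

theorem H_one_RT_eq_zero (x : EtCoh.H (Spec (CommRingCat.of k)) (RT L (EtCoh.Gm (Spec (CommRingCat.of k)))) 1) :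
    x = 0 := by
  let f := π (extObj k L)
  haveI := isIntegralHom_extObj (k := k) (L := L)
  haveI := EtFound.push_preservesFiniteLimits f
  haveI := EtFound.push_preservesFiniteColimits f
  haveI := EtFound.pull_preservesFiniteLimits f
  haveI : (EtCoh.pull f).PreservesMonomorphisms := inferInstance
  let G := (EtShriek.restrAlong f).obj (EtCoh.Gm (Spec (CommRingCat.of k)))
  obtain ⟨z, rfl⟩ := (EtMVLib.adjExtMap_bijective (EtCoh.pullPushAdj f) _ G 1).2 x
  suffices z = 0 by rw [this]; exact map_zero _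
  have h : ((Ext.mk₀ (EtCore.pullConst f ℤ).inv).comp z (zero_add 1)).comp (Ext.mk₀ (restrGmIso (k := k) L).hom) (add_zero 1) = 0 :=
    H_one_eq_zero L _ (galH1Trivial_Gm L) _
  refine eq_zero_of_mk₀_iso_comp (EtCore.pullConst f ℤ).symm z ?_
  have h' := congrArg (fun w : EtCoh.H (Spec (CommRingCat.of L)) (EtCoh.Gm (Spec (CommRingCat.of L))) 1 =>
    w.comp (Ext.mk₀ (restrGmIso (k := k) L).inv) (add_zero 1)) h
  refine Eq.trans ?_ (h'.trans (Ext.zero_comp _ _ _ _ _))
  refine Eq.trans ?_ (Ext.comp_assoc_of_third_deg_zero _ _ _ (add_zero 1)).symm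
  refine Eq.trans ?_ (congrArg (fun e => Ext.comp ((Ext.mk₀ (EtCore.pullConst f ℤ).inv).comp z (zero_add 1)) e (add_zero 1))
    ((Ext.mk₀_comp_mk₀ _ _).trans (congrArg Ext.mk₀ (restrGmIso (k := k) L).hom_inv_id))).symm
  exact (Ext.comp_mk₀_id _).symm

variable (F : EtCoh.Ab (Spec (CommRingCat.of k)))

theorem resR_eq : resR L F = (EtCoh.pullPushAdj (π (extObj k L))).unit.app F ≫
    (EtCoh.push (π (extObj k L))).map ((restrIso (extObj k L)).inv.app F) := by
  rw [unit_eq]
  ext U s
  exact (unit_restr_app (extObj k L) F U.unop s).symm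

theorem comp_resR_eq_zero {A : EtCoh.Ab (Spec (CommRingCat.of k))} {n : ℕ} (y : Ext A F n)
    (hy : pullExt (specOver k L) y = 0) : y.comp (Ext.mk₀ (resR L F)) (add_zero n) = 0 := by
  haveI := isIntegralHom_extObj (k := k) (L := L)
  rw [resR_eq]
  exact comp_unit_map_eq_zero (extObj k L) y hy _

theorem resR_comp_trR : resR L F ≫ trR L F = Module.finrank k L • 𝟙 F := by
  ext U s
  exact (resR_trR L F U.unop s).trans (hom_app_nsmul (𝟙 F) _ U.unop s).symm

theorem finrank_nsmul_of_comp_resR {A : EtCoh.Ab (Spec (CommRingCat.of k))} {n : ℕ} (y : Ext A F n)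
    (hy : y.comp (Ext.mk₀ (resR L F)) (add_zero n) = 0) : Module.finrank k L • y = 0 := by
  rw [← comp_nsmul_id, ← resR_comp_trR L F, ← Ext.mk₀_comp_mk₀]
  refine (Ext.comp_assoc_of_third_deg_zero _ _ _ (add_zero n)).symm.trans ?_
  rw [hy, Ext.zero_comp]

/-- the map `Spec L → Spec L ⊗ L` -/
noncomputable def q0 : extObj k L ⟶ (P (extObj k L)).obj (EtCoh.top (Spec (CommRingCat.of k))) :=
  graph (𝟙 (extObj k L)) ≫ (P (extObj k L)).map (toTop (extObj k L))

theorem q0_pr₂ : q0 L ≫ pr₂ (extObj k L) (EtCoh.top (Spec (CommRingCat.of k))) = 𝟙 _ := by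
  rw [q0, Category.assoc, map_pr₂, graph_pr₂]

theorem graph_toTop (i : extObj k L ⟶ extObj k L) :
    graph i ≫ (P (extObj k L)).map (toTop (extObj k L)) = i ≫ q0 L :=
  P_hom_ext ((EtCore.topIsTerminal _).hom_ext _ _)
    (by rw [Category.assoc, map_pr₂, graph_pr₂, Category.assoc, q0_pr₂, Category.comp_id])

/-- the unit of `k` given by a global section of `G_m` -/
noncomputable def topVal (t : EtCoh.sect (EtCoh.Gm (Spec (CommRingCat.of k))) (EtCoh.top (Spec (CommRingCat.of k)))) :
    kˣ :=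
  gmVal k k ((EtCoh.Gm (Spec (CommRingCat.of k))).obj.map (toTop (extObj k k)).op t)

theorem subsingleton_top : Subsingleton (EtCoh.top (Spec (CommRingCat.of k))).left :=
  inferInstanceAs (Subsingleton (Spec (CommRingCat.of k)))

theorem specMap_algebraMap_self (k : Type u) [Field k] :
    Spec.map (CommRingCat.ofHom (algebraMap k k)) = 𝟙 _ := by
  rw [show algebraMap k k = RingHom.id k from rfl, CommRingCat.ofHom_id, Spec.map_id]

/-- `Spec k` as the trivial extension -/
noncomputable def topToSelf : EtCoh.top (Spec (CommRingCat.of k)) ⟶ extObj k k :=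
  MorphismProperty.Over.homMk (𝟙 (Spec (CommRingCat.of k))) (by
    show 𝟙 (Spec (CommRingCat.of k)) ≫ Spec.map (CommRingCat.ofHom (algebraMap k k)) = 𝟙 (Spec (CommRingCat.of k))
    rw [Category.id_comp, specMap_algebraMap_self])

theorem toTop_topToSelf : toTop (extObj k k) ≫ topToSelf (k := k) = 𝟙 _ :=
  haveI : Subsingleton (extObj k k ⟶ extObj k k) := (extHomEquiv (k := k) (L := k) (M := k)).symm.subsingleton
  Subsingleton.elim _ _

theorem topVal_surjective : Function.Surjective (topVal (k := k)) := fun u => by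
  obtain ⟨s, hs⟩ := gmVal_surjective k k u
  refine ⟨(EtCoh.Gm (Spec (CommRingCat.of k))).obj.map (topToSelf (k := k)).op s, ?_⟩
  refine (congrArg (gmVal k k) ?_).trans hs
  rw [hom_comp_map, toTop_topToSelf, id_map]

theorem gmVal_toTop (t : EtCoh.sect (EtCoh.Gm (Spec (CommRingCat.of k))) (EtCoh.top (Spec (CommRingCat.of k)))) :
    (gmVal k L ((EtCoh.Gm (Spec (CommRingCat.of k))).obj.map (toTop (extObj k L)).op t) : L) =
      algebraMap k L (topVal t : k) := by
  rw [show toTop (extObj k L) = extMap (Algebra.ofId k L) ≫ toTop (extObj k k) from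
    (EtCore.topIsTerminal _).hom_ext _ _, ← hom_comp_map, gmVal_map]
  rfl

theorem topVal_trR (s : EtCoh.sect (EtCoh.Gm (Spec (CommRingCat.of k)))
    ((P (extObj k L)).obj (EtCoh.top (Spec (CommRingCat.of k))))) :
    (topVal ((trR L (EtCoh.Gm (Spec (CommRingCat.of k)))).hom.app (op (EtCoh.top _)) s) : k) =
      Algebra.norm k (gmVal k L ((EtCoh.Gm (Spec (CommRingCat.of k))).obj.map (q0 L).op s) : L) := by
  classical
  let G := EtCoh.Gm (Spec (CommRingCat.of k))
  apply (algebraMap k L).injective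
  rw [← gmVal_toTop, Algebra.norm_eq_prod_automorphisms]
  have h : G.obj.map (toTop (extObj k L)).op ((trR L G).hom.app (op (EtCoh.top _)) s) =
      ∑ g : Gal(L/k), G.obj.map (autIso k g).hom.op (G.obj.map (q0 L).op s) := by
    refine ((isGaloisObj_extObj (k := k) L).trace_naturality G (toTop (extObj k L)) s).symm.trans ?_
    refine (trR_graph L G (𝟙 _) _).trans (Finset.sum_congr rfl fun g _ => ?_)
    rw [hom_comp_map G, hom_comp_map G, graph_toTop, Category.id_comp]
  rw [h]
  let A : EtCoh.sect G (extObj k L) →+ Additive Lˣ :=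
    AddMonoidHom.mk' (fun a => Additive.ofMul (gmVal k L a)) fun a b => by
      rw [gmVal_add, ofMul_mul]
  have h' := congrArg (fun z => ((Additive.toMul z : Lˣ) : L))
    (map_sum A (fun g => G.obj.map (autIso k g).hom.op (G.obj.map (q0 L).op s)) Finset.univ)
  simp only [toMul_sum, Units.coe_prod] at h'
  refine h'.trans ?_
  refine Finset.prod_bij (fun g _ => g) (fun g _ => Finset.mem_univ _) (fun _ _ _ _ h => h)
    (fun g _ => ⟨g, Finset.mem_univ _, rfl⟩) fun g _ => ?_
  exact gmVal_map k g.toAlgHom _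

/-- norms are exactly the traces of sections -/
theorem mem_range_trR_iff (t : EtCoh.sect (EtCoh.Gm (Spec (CommRingCat.of k))) (EtCoh.top (Spec (CommRingCat.of k)))) :
    (∃ s, (trR L (EtCoh.Gm (Spec (CommRingCat.of k)))).hom.app (op (EtCoh.top _)) s = t) ↔
      ∃ y : L, Algebra.norm k y = (topVal t : k) := by
  refine ⟨fun ⟨s, hs⟩ => ⟨_, by rw [← hs]; exact (topVal_trR L s).symm⟩, fun ⟨y, hy⟩ => ?_⟩
  have hy0 : y ≠ 0 := fun h => (topVal t).ne_zero (by rw [← hy, h, Algebra.norm_zero])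
  obtain ⟨a, ha⟩ := gmVal_surjective k L (Units.mk0 y hy0)
  refine ⟨(EtCoh.Gm (Spec (CommRingCat.of k))).obj.map (pr₂ (extObj k L) (EtCoh.top _)).op a, ?_⟩
  haveI := subsingleton_top (k := k)
  refine injective_res _ (toTop (extObj k L)) (default : Spec (CommRingCat.of L)) (gmVal_injective k L (Units.ext ?_))
  rw [gmVal_toTop, gmVal_toTop, topVal_trR, hom_comp_map, q0_pr₂, id_map, ha]
  exact congrArg (algebraMap k L) hy

variable (σ : Gal(L/k)) (hσ : ∀ g : Gal(L/k), g ∈ Subgroup.zpowers σ)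

include σ hσ in
set_option maxHeartbeats 1000000 in
/-- if the norm is surjective, no nonzero Brauer class dies in the cyclic extension -/
theorem brauer_eq_zero_of_norm (hN : ∀ x : k, x ≠ 0 → ∃ y : L, Algebra.norm k y = x)
    (y : EtCoh.H (Spec (CommRingCat.of k)) (EtCoh.Gm (Spec (CommRingCat.of k))) 2)
    (hy : pullExt (specOver k L) y = 0) : y = 0 := by
  let G := EtCoh.Gm (Spec (CommRingCat.of k))
  have hA := shortExact_seqA L G
  have hB := shortExact_seqB L G σ hσ
  obtain ⟨β, hβ⟩ := Ext.covariant_sequence_exact₁ _ hB y (comp_resR_eq_zero L G y hy) (n₀ := 1) rfl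
  haveI : Subsingleton (Sheaf.H (seqA L G).X₂ 1) := subsingleton_of_forall_eq 0 (H_one_RT_eq_zero L)
  obtain ⟨φ, hφ, hker⟩ := Adeq2Lib.ZarCmp.h1_pres (EtCore.topIsTerminal _) (seqA L G) hA
  obtain ⟨t, rfl⟩ := hφ β
  have h0 : φ t = 0 := (hker t).2 ((mem_range_trR_iff L t).2 (hN _ (topVal t).ne_zero))
  rw [← hβ, h0, Ext.zero_comp]

include σ hσ in
set_option maxHeartbeats 1000000 in
/-- if no nonzero Brauer class is killed by the degree, the norm is surjective -/
theorem norm_surjective_of_brauer (hBr : ∀ y : EtCoh.H (Spec (CommRingCat.of k))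
      (EtCoh.Gm (Spec (CommRingCat.of k))) 2, Module.finrank k L • y = 0 → y = 0)
    (x : k) (hx : x ≠ 0) : ∃ y : L, Algebra.norm k y = x := by
  let G := EtCoh.Gm (Spec (CommRingCat.of k))
  have hA := shortExact_seqA L G
  have hB := shortExact_seqB L G σ hσ
  haveI : Subsingleton (Sheaf.H (seqA L G).X₂ 1) := subsingleton_of_forall_eq 0 (H_one_RT_eq_zero L)
  obtain ⟨φ, -, hker⟩ := Adeq2Lib.ZarCmp.h1_pres (EtCore.topIsTerminal _) (seqA L G) hA
  obtain ⟨t, ht⟩ := topVal_surjective (Units.mk0 x hx)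
  let y : EtCoh.H (Spec (CommRingCat.of k)) G 2 :=
    Ext.comp (φ t : EtCoh.H (Spec (CommRingCat.of k)) (seqB L G σ).X₃ 1) hB.extClass rfl
  have h1 : y.comp (Ext.mk₀ (resR L G)) (add_zero 2) = 0 := by
    refine (Ext.comp_assoc_of_third_deg_zero _ _ _ rfl).trans ?_
    exact (congrArg (fun e => Ext.comp (φ t : EtCoh.H (Spec (CommRingCat.of k)) (seqB L G σ).X₃ 1) e rfl)
      hB.extClass_comp).trans (Ext.comp_zero _ _ _ _ rfl)
  have h2 : y = 0 := hBr y (finrank_nsmul_of_comp_resR L G y h1)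
  obtain ⟨z, hz⟩ := Ext.covariant_sequence_exact₃ _ hB (φ t) rfl h2
  have h3 : φ t = 0 := by rw [← hz, H_one_RT_eq_zero L z, Ext.zero_comp]
  obtain ⟨y', hy'⟩ := (mem_range_trR_iff L t).1 ((hker t).1 h3)
  exact ⟨y', hy'.trans (congrArg Units.val ht)⟩

end Groth.Agent.GalEt
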