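import Groth.Agent.GalEt.BrauerVanish
import Groth.Agent.GalEt.CharP
import Groth.Agent.CSALib.CyclicNorm
import Groth.Agent.CSALib.BaseChange
import Groth.Agent.BrauerXDescent.Basic

/-!
# Fields over which all finite extensions have trivial Brauer group
-/

set_option autoImplicit false
set_option maxHeartbeats 1000000
set_option linter.style.haveILetI false
set_option backward.isDefEq.respectTransparency.types false

universe u

open TensorProduct

namespace Groth.Agent.GalEt.BrauerTrivial

/-- every finite extension has trivial Brauer group -/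
def BrTrivial (k : Type u) [Field k] : Prop :=
  ∀ (K' : Type u) [Field K'] [Algebra k K'] [FiniteDimensional k K']
    (D : Type u) [DivisionRing D] [Algebra K' D] [Algebra.IsCentral K' D] [FiniteDimensional K' D],
    Module.finrank K' D = 1

variable {k : Type u} [Field k]

/-- the triviality passes to algebraic extensions -/
theorem finrank_eq_one (h : BrTrivial k) (K : Type u) [Field K] [Algebra k K] [Algebra.IsAlgebraic k K]
    (D : Type u) [DivisionRing D] [Algebra K D] [Algebra.IsCentral K D] [FiniteDimensional K D] :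
    Module.finrank K D = 1 := by
  obtain ⟨E, _, D₀, _, _, _, _, ⟨e⟩⟩ := BrauerXDescent.exists_descent (K := k) (L := K) D
  rw [← e.toLinearEquiv.finrank_eq, Module.finrank_baseChange]
  exact h E D₀

/-- norms from cyclic extensions are surjective -/
theorem normSurj (h : BrTrivial k) (p : ℕ) [Fact p.Prime] : GalEt.NormSurj k p := by
  intro K _ _ _ L _ _ _ _ hL x hx
  haveI : Fact (Nat.card Gal(L/K)).Prime := ⟨by rw [IsGalois.card_aut_eq_finrank, hL]; exact Fact.out⟩
  haveI : Nontrivial Gal(L/K) :=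
    Finite.one_lt_card_iff_nontrivial.1 (Fact.out : (Nat.card Gal(L/K)).Prime).one_lt
  obtain ⟨σ, hσne⟩ := exists_ne (1 : Gal(L/K))
  have hσ : ∀ τ : L ≃ₐ[K] L, τ ∈ Subgroup.zpowers σ := fun τ => mem_zpowers_of_prime_card rfl hσne
  obtain ⟨B, hB⟩ := CSALib.exists_isCyclicAlg hσ (Units.mk0 x hx)
  obtain ⟨_, _, ι, y, hu, hy, hcomm, hd⟩ := CSALib.isCyclicAlg_data hB
  obtain ⟨_, _, -⟩ := CSALib.central_simple hσ hcomm hu hd
  obtain ⟨n, hn, D, _, _, _, _, ⟨e⟩⟩ := CSALib.exists_division K B
  have h1 : Module.finrank K D = 1 := finrank_eq_one h K D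
  have hbot := Subalgebra.bot_eq_top_of_finrank_eq_one h1
  let g : D ≃ₐ[K] K := (AlgEquiv.ofBijective (Algebra.ofId K D)
    ⟨(algebraMap K D).injective, fun d => Algebra.mem_bot.1
      (hbot.symm ▸ (Algebra.mem_top : d ∈ (⊤ : Subalgebra K D)))⟩).symm
  exact (CSALib.similar_field_iff_norm hσ hB).1 (CSALib.similar_field_iff.2 ⟨n, hn.out, ⟨e.trans g.mapMatrix⟩⟩)

/-- cohomological dimension at most one -/
theorem cd_le_one (h : BrTrivial k) (p : ℕ) [Fact p.Prime] (F : EtCoh.Ab (AlgebraicGeometry.Spec (CommRingCat.of k)))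
    (hF : EtCoh.IsTorsion F) (q : ℕ) (hq : 1 < q)
    (x : EtCoh.H (AlgebraicGeometry.Spec (CommRingCat.of k)) F q) (hx : ∃ m : ℕ, p ^ m • x = 0) : x = 0 := by
  by_cases hp : (p : k) = 0
  · haveI : CharP k p := (CharP.charP_iff_prime_eq_zero Fact.out).2 hp
    exact GalEt.cd_le_of_zpVanish k p 1 (GalEt.zpVanish_charP k p 2 le_rfl) F hF q hq x hx
  · exact GalEt.cd_le_of_zpVanish k p 1 (GalEt.zpVanish_of_normSurj hp (normSurj h p)) F hF q hq x hx

/-- an element of finite order vanishes when all `p`-torsion vanishes -/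
theorem eq_zero_of_torsion {A : Type*} [AddCommGroup A] (h : ∀ p : ℕ, p.Prime → ∀ x : A, p • x = 0 → x = 0)
    {x : A} (hx : IsOfFinAddOrder x) : x = 0 := by
  obtain ⟨n, hn, hnx⟩ := isOfFinAddOrder_iff_nsmul_eq_zero.1 hx
  clear hx
  induction n using Nat.strong_induction_on generalizing x with
  | _ n ih =>
    by_cases h1 : n = 1
    · simpa [h1] using hnx
    obtain ⟨p, hp, m, rfl⟩ := Nat.exists_prime_and_dvd h1
    have hm : 0 < m := Nat.pos_of_mul_pos_left hn
    refine ih m (lt_mul_left hm hp.one_lt) hm (h p hp _ ?_)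
    rw [← mul_nsmul', hnx]

end Groth.Agent.GalEt.BrauerTrivial
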