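import Mathlib.RingTheory.Valuation.ValuationRing
import Groth.Agent.Hensel.IntegralStrict
import Mathlib.RingTheory.Jacobson.Ideal
import Mathlib.Algebra.Polynomial.Lifts

/-!
# Bases for which integer cocycles are coboundaries

Fields, henselian valuation rings and products of henselian valuation rings.
-/

set_option autoImplicit false
set_option linter.style.haveILetI false
set_option backward.isDefEq.respectTransparency.types false

universe u

open Polynomial

namespace Groth.Agent.GalEt.CocycleHyp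


/-- the conditions on the base -/
def Good (A : Type u) [CommRing A] : Prop :=
  (∀ (q : Ideal A) [q.IsPrime], ValuationRing (A ⧸ q) ∧ HenselianLocalRing (A ⧸ q)) ∧
    ∀ (q : Ideal A) [q.IsPrime], (⊥ : Ideal A).jacobson ≤ q → q.IsMaximal

theorem henselian_quotient (A : Type u) [CommRing A] [HenselianLocalRing A] (q : Ideal A) [q.IsPrime] :
    HenselianLocalRing (A ⧸ q) := by
  haveI := IsLocalRing.of_surjective' (Ideal.Quotient.mk q) Ideal.Quotient.mk_surjective
  haveI : IsLocalHom (Ideal.Quotient.mk q) := IsLocalHom.of_surjective (Ideal.Quotient.mk q) Ideal.Quotient.mk_surjective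
  refine { is_henselian := fun f hf a₀ h0 h1 => ?_ }
  obtain ⟨F, hF, -, hFm⟩ := lifts_and_natDegree_eq_and_monic ((lifts_iff_coeff_lifts (f := Ideal.Quotient.mk q) f).2
    fun n => Ideal.Quotient.mk_surjective _) hf
  obtain ⟨x₀, rfl⟩ := Ideal.Quotient.mk_surjective a₀
  rw [← hF, eval_map_apply, IsLocalRing.mem_maximalIdeal, mem_nonunits_iff, isUnit_map_iff] at h0
  rw [← hF, derivative_map, eval_map_apply, isUnit_map_iff] at h1
  obtain ⟨r, hr, hr'⟩ := HenselianLocalRing.is_henselian F hFm x₀ h0 h1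
  refine ⟨Ideal.Quotient.mk q r, ?_, ?_⟩
  · rw [IsRoot.def, ← hF, eval_map_apply, hr.eq_zero, map_zero]
  · rw [← map_sub, IsLocalRing.mem_maximalIdeal, mem_nonunits_iff, isUnit_map_iff]
    exact hr'

theorem good_of_henselian_valuationRing (A : Type u) [CommRing A] [IsDomain A] [ValuationRing A] [HenselianLocalRing A] :
    Good A := by
  refine ⟨fun q _ => ⟨?_, henselian_quotient A q⟩, fun q _ hq => ?_⟩
  · exact (Ideal.Quotient.mk_surjective (I := q)).valuationRing
  · rw [IsLocalRing.jacobson_eq_maximalIdeal _ bot_ne_top] at hq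
    exact (le_antisymm hq (IsLocalRing.le_maximalIdeal ‹q.IsPrime›.ne_top)) ▸ IsLocalRing.maximalIdeal.isMaximal A

theorem good_of_field (k : Type u) [Field k] : Good k := good_of_henselian_valuationRing k

section Pi

variable {α : Type u} (O : α → Type u) [∀ i, CommRing (O i)] [∀ i, IsDomain (O i)] [∀ i, ValuationRing (O i)]

/-- the indicator of a set of indices -/
noncomputable def chi (s : Set α) : ∀ i, O i := by classical exact fun i => if i ∈ s then 1 else 0

theorem chi_mem_or (P : Ideal (∀ i, O i)) [P.IsPrime] (s : Set α) : chi O s ∈ P ∨ chi O sᶜ ∈ P := by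
  classical
  refine ‹P.IsPrime›.mem_or_mem ?_
  have e : chi O s * chi O sᶜ = 0 := by
    funext i
    by_cases h : i ∈ s <;> simp [chi, h]
  rw [e]
  exact P.zero_mem

theorem valuationRing_quotient_pi (q : Ideal (∀ i, O i)) [q.IsPrime] : ValuationRing ((∀ i, O i) ⧸ q) := by
  classical
  haveI : IsDomain ((∀ i, O i) ⧸ q) := Ideal.Quotient.isDomain q
  haveI : PreValuationRing ((∀ i, O i) ⧸ q) := by
    refine ⟨fun a b => ?_⟩
    obtain ⟨f, rfl⟩ := Ideal.Quotient.mk_surjective a
    obtain ⟨g, rfl⟩ := Ideal.Quotient.mk_surjective b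
    have h1 : ∀ i, ∃ c : O i, (f i ∣ g i → f i * c = g i) ∧ (¬ f i ∣ g i → g i * c = f i) := fun i => by
      by_cases h : f i ∣ g i
      · obtain ⟨c, hc⟩ := h
        exact ⟨c, fun _ => hc.symm, fun h' => absurd ⟨c, hc⟩ h'⟩
      · obtain ⟨c, hc | hc⟩ := ValuationRing.cond (f i) (g i)
        · exact absurd ⟨c, hc.symm⟩ h
        · exact ⟨c, fun h' => absurd h' h, fun _ => hc⟩
    choose c hc hc' using h1
    have mem : ∀ (x : ∀ i, O i) (s : Set α), (∀ i ∉ s, x i = 0) → chi O s ∈ q → x ∈ q := fun x s hs hq => by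
      have e : x = x * chi O s := funext fun i => by by_cases h : i ∈ s <;> simp [chi, h, hs i]
      rw [e]
      exact q.mul_mem_left _ hq
    refine ⟨Ideal.Quotient.mk _ c, ?_⟩
    rcases chi_mem_or O q {i | ¬ f i ∣ g i} with h | h
    · left
      rw [← map_mul, Ideal.Quotient.eq]
      refine mem _ _ (fun i hi => ?_) h
      simp [hc i (not_not.1 hi)]
    · right
      rw [← map_mul, Ideal.Quotient.eq]
      refine mem _ _ (fun i hi => ?_) h
      simp [hc' i (not_not.1 hi)]
  exact {}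

theorem mem_jacobson_of_nonunit (x : ∀ i, O i) (hx : ∀ i, ¬IsUnit (x i)) : x ∈ (⊥ : Ideal (∀ i, O i)).jacobson := by
  refine Ideal.mem_jacobson_bot.2 fun y => Pi.isUnit_iff.2 fun i => ?_
  refine (IsLocalRing.isUnit_or_isUnit_of_isUnit_add (a := x i * y i + 1) (b := -(x i * y i)) (by simp)).resolve_right ?_
  rw [IsUnit.neg_iff]
  exact fun h => hx i (isUnit_of_mul_isUnit_left h)

theorem isMaximal_of_jacobson_le (q : Ideal (∀ i, O i)) [q.IsPrime] (hq : (⊥ : Ideal (∀ i, O i)).jacobson ≤ q) :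
    q.IsMaximal := by
  classical
  refine Ideal.isMaximal_iff.2 ⟨fun h => ‹q.IsPrime›.ne_top ((Ideal.eq_top_iff_one _).2 h), fun J x hle hx hxJ => ?_⟩
  let z : ∀ i, O i := fun i => if h : IsUnit (x i) then ↑(h.unit⁻¹) else 0
  have h1 : x * (1 - z * x) ∈ q := by
    refine hq (mem_jacobson_of_nonunit O _ fun i => ?_)
    by_cases h : IsUnit (x i)
    · simp [z, h]
    · simp [z, h]
  have h2 := (‹q.IsPrime›.mem_or_mem h1).resolve_left hx
  have h3 := J.add_mem (hle h2) (J.mul_mem_left z hxJ)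
  rwa [sub_add_cancel] at h3

theorem henselian_quotient_pi [∀ i, HenselianLocalRing (O i)] (q : Ideal (∀ i, O i)) [q.IsPrime]
    [IsLocalRing ((∀ i, O i) ⧸ q)] : HenselianLocalRing ((∀ i, O i) ⧸ q) := by
  classical
  let π := Ideal.Quotient.mk q
  let M : Ideal (∀ i, O i) := (IsLocalRing.maximalIdeal ((∀ i, O i) ⧸ q)).comap π
  haveI hM : M.IsMaximal := Ideal.comap_isMaximal_of_surjective _ Ideal.Quotient.mk_surjective
  have hqM : q ≤ M := fun x hx => by
    show π x ∈ IsLocalRing.maximalIdeal ((∀ i, O i) ⧸ q)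
    rw [Ideal.Quotient.eq_zero_iff_mem.2 hx]
    exact zero_mem _
  have hJM : (⊥ : Ideal (∀ i, O i)).jacobson ≤ M := sInf_le (show M ∈ {J | ⊥ ≤ J ∧ J.IsMaximal} from ⟨bot_le, hM⟩)
  refine { is_henselian := fun f hf a₀ h0 h1 => ?_ }
  obtain ⟨F, hF, -, hFm⟩ := lifts_and_natDegree_eq_and_monic ((lifts_iff_coeff_lifts (f := π) f).2
    fun n => Ideal.Quotient.mk_surjective _) hf
  obtain ⟨x₀, rfl⟩ := Ideal.Quotient.mk_surjective a₀
  rw [← hF, eval_map_apply] at h0
  rw [← hF, derivative_map, eval_map_apply] at h1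
  have h0' : F.eval x₀ ∈ M := h0
  have h1' : F.derivative.eval x₀ ∉ M := fun h => (IsLocalRing.mem_maximalIdeal _).1 h h1
  let s : Set α := {i | ¬IsUnit (F.eval x₀ i) ∧ IsUnit (F.derivative.eval x₀ i)}
  have ha : chi O {i | IsUnit (F.eval x₀ i)} ∈ M := by
    have e : chi O {i | IsUnit (F.eval x₀ i)} = F.eval x₀ * (fun i => if h : IsUnit (F.eval x₀ i) then ↑(h.unit⁻¹) else 0 : ∀ i, O i) := by
      funext i
      by_cases h : IsUnit (F.eval x₀ i) <;> simp [chi, h]
    rw [e]
    exact M.mul_mem_right _ h0'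
  have hb : chi O {i | ¬IsUnit (F.derivative.eval x₀ i)} ∈ M := by
    refine (hM.isPrime.mem_or_mem (hJM (mem_jacobson_of_nonunit O (F.derivative.eval x₀ *
      chi O {i | ¬IsUnit (F.derivative.eval x₀ i)}) fun i => ?_))).resolve_left h1'
    by_cases h : IsUnit (F.derivative.eval x₀ i) <;> simp [chi, h]
  have hs : chi O sᶜ ∈ M := by
    have e : chi O sᶜ = chi O sᶜ * chi O {i | IsUnit (F.eval x₀ i)} +
        chi O sᶜ * (chi O {i | ¬IsUnit (F.derivative.eval x₀ i)} * (1 - chi O {i | IsUnit (F.eval x₀ i)})) := by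
      funext i
      by_cases h : IsUnit (F.eval x₀ i) <;> by_cases h' : IsUnit (F.derivative.eval x₀ i) <;> simp [chi, s, h, h']
    rw [e]
    exact M.add_mem (M.mul_mem_left _ ha) (M.mul_mem_left _ (M.mul_mem_right _ hb))
  have hsq : chi O sᶜ ∈ q := by
    refine (chi_mem_or O q s).resolve_left fun h => hM.ne_top ((Ideal.eq_top_iff_one _).2 ?_)
    have e : (1 : ∀ i, O i) = chi O s + chi O sᶜ := by
      funext i
      by_cases h : i ∈ s <;> simp [chi, h]
    rw [e]
    exact M.add_mem (hqM h) hs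
  have hev : ∀ (G : (∀ i, O i)[X]) (y : ∀ i, O i) (i : α),
      G.eval y i = (G.map (Pi.evalRingHom O i)).eval (y i) := fun G y i => (eval_map_apply (Pi.evalRingHom O i) y).symm
  have hloc : ∀ i, i ∈ s → ∃ a : O i, (F.map (Pi.evalRingHom O i)).IsRoot a ∧ a - x₀ i ∈ IsLocalRing.maximalIdeal (O i) :=
    fun i hi => HenselianLocalRing.is_henselian _ (hFm.map _) (x₀ i) (by rw [← hev]; exact hi.1)
      (by rw [derivative_map, ← hev]; exact hi.2)
  let r : ∀ i, O i := fun i => if h : i ∈ s then (hloc i h).choose else x₀ i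
  refine ⟨π r, ?_, ?_⟩
  · rw [IsRoot.def, ← hF, eval_map_apply, Ideal.Quotient.eq_zero_iff_mem]
    have e : F.eval r = F.eval r * chi O sᶜ := by
      funext i
      by_cases h : i ∈ s
      · have := (hloc i h).choose_spec.1.eq_zero
        simp only [Pi.mul_apply, hev F r i, r, dif_pos h]
        rw [this, zero_mul]
      · simp [chi, h]
    rw [e]
    exact q.mul_mem_left _ hsq
  · rw [← map_sub]
    refine hJM (mem_jacobson_of_nonunit O _ fun i => ?_)
    by_cases h : i ∈ s
    · simp only [Pi.sub_apply, r, dif_pos h]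
      exact (hloc i h).choose_spec.2
    · simp [r, h]

theorem good_pi [∀ i, HenselianLocalRing (O i)] : Good (∀ i, O i) := by
  refine ⟨fun q _ => ?_, fun q _ hq => isMaximal_of_jacobson_le O q hq⟩
  have hvr := valuationRing_quotient_pi O q
  haveI : IsDomain ((∀ i, O i) ⧸ q) := Ideal.Quotient.isDomain q
  haveI : IsLocalRing ((∀ i, O i) ⧸ q) := @ValuationRing.isLocalRing _ _ _ hvr.toPreValuationRing
  exact ⟨hvr, henselian_quotient_pi O q⟩

end Pi

section Integral

variable (A A' : Type u) [CommRing A] [CommRing A'] [Algebra A A'] [Algebra.IsIntegral A A']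

theorem le_unique (hA : Good A) (q m m' : Ideal A') [q.IsPrime] [m.IsMaximal] [m'.IsMaximal] (h : q ≤ m) (h' : q ≤ m') :
    m = m' := by
  let p := q.comap (algebraMap A A')
  haveI : p.IsPrime := Ideal.comap_isPrime _ q
  haveI := (hA.1 p).2
  letI : Algebra (A ⧸ p) (A' ⧸ q) := (Ideal.quotientMap q (algebraMap A A') le_rfl).toAlgebra
  haveI : IsScalarTower A (A ⧸ p) (A' ⧸ q) := IsScalarTower.of_algebraMap_eq fun _ => rfl
  haveI : Algebra.IsIntegral A (A' ⧸ q) := inferInstance
  haveI : Algebra.IsIntegral (A ⧸ p) (A' ⧸ q) := Algebra.IsIntegral.tower_top A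
  haveI := Hensel.isLocalRing_of_isIntegral_domain (A ⧸ p) (A' ⧸ q)
  haveI := Ideal.IsMaximal.map_of_surjective_of_ker_le (f := Ideal.Quotient.mk q) Ideal.Quotient.mk_surjective
    (m := m) (by rwa [Ideal.mk_ker])
  haveI := Ideal.IsMaximal.map_of_surjective_of_ker_le (f := Ideal.Quotient.mk q) Ideal.Quotient.mk_surjective
    (m := m') (by rwa [Ideal.mk_ker])
  have e : m.map (Ideal.Quotient.mk q) = m'.map (Ideal.Quotient.mk q) :=
    (IsLocalRing.eq_maximalIdeal ‹_›).trans (IsLocalRing.eq_maximalIdeal ‹_›).symm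
  have := congrArg (Ideal.comap (Ideal.Quotient.mk q)) e
  rwa [Ideal.comap_map_of_surjective' _ Ideal.Quotient.mk_surjective, Ideal.comap_map_of_surjective' _ Ideal.Quotient.mk_surjective,
    Ideal.mk_ker, sup_eq_left.2 h, sup_eq_left.2 h'] at this

theorem isMaximal_of_jacobson (hA : Good A) (q : Ideal A') [q.IsPrime] (hq : (⊥ : Ideal A').jacobson ≤ q) :
    q.IsMaximal := by
  have h : (q.comap (algebraMap A A')).IsMaximal := hA.2 _ fun x hx => hq (Ideal.mem_jacobson_bot.2 fun y => by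
    by_contra hu
    obtain ⟨M, hM, hmem⟩ := exists_max_ideal_of_mem_nonunits hu
    have hxM : algebraMap A A' x ∈ M :=
      (sInf_le (show M.comap (algebraMap A A') ∈ {J : Ideal A | ⊥ ≤ J ∧ J.IsMaximal} from
        ⟨bot_le, Ideal.isMaximal_comap_of_isIntegral_of_isMaximal M⟩) :
        (⊥ : Ideal A).jacobson ≤ M.comap (algebraMap A A')) hx
    refine hM.ne_top ((Ideal.eq_top_iff_one _).2 ?_)
    have := M.sub_mem hmem (M.mul_mem_right y hxM)
    rwa [add_sub_cancel_left] at this)
  exact Ideal.isMaximal_of_isIntegral_of_isMaximal_comap q h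

end Integral

end Groth.Agent.GalEt.CocycleHyp
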