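import Mathlib.RingTheory.Spectrum.Prime.Chevalley
import Mathlib.RingTheory.Unramified.Finite
import Mathlib.RingTheory.Flat.TorsionFree
import Mathlib.RingTheory.Flat.FaithfullyFlat.Algebra
import Mathlib.RingTheory.Ideal.GoingDown
import Mathlib.RingTheory.Valuation.ValuationRing
import Mathlib.RingTheory.LocalRing.ResidueField.Ideal
import Mathlib.RingTheory.TensorProduct.Nontrivial
import Mathlib.Topology.LocallyConstant.Basic

/-!
# Integer valued cocycles on spectra are coboundaries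

For a faithfully flat finitely presented `A'`-algebra `B`, a locally constant function `c` on `Spec (B ⊗ B)`
satisfying the cocycle identity on field valued points is a coboundary, provided `A'` is unramified over a ring
all of whose quotient domains are valuation rings, and has well-behaved closed points.
-/

set_option autoImplicit false
set_option maxHeartbeats 1000000
set_option linter.style.haveILetI false
set_option backward.isDefEq.respectTransparency.types false

universe u

open TensorProduct PrimeSpectrum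

namespace Groth.Agent.GalEt.CocycleInt

theorem exists_common {R L₁ L₂ : Type u} [CommRing R] [Field L₁] [Field L₂] (φ₁ : R →+* L₁) (φ₂ : R →+* L₂)
    (h : RingHom.ker φ₁ = RingHom.ker φ₂) :
    ∃ (L : Type u) (_ : Field L) (i : L₁ →+* L) (j : L₂ →+* L), i.comp φ₁ = j.comp φ₂ := by
  haveI := RingHom.ker_isPrime φ₁
  let P := RingHom.ker φ₁
  let Q := R ⧸ P
  let ψ₁ : Q →+* L₁ := Ideal.Quotient.lift P φ₁ fun a ha => ha
  let ψ₂ : Q →+* L₂ := Ideal.Quotient.lift P φ₂ fun a ha => by
    rw [show P = _ from h] at ha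
    exact ha
  let K := FractionRing Q
  have hi₁ : Function.Injective ψ₁ := RingHom.lift_injective_of_ker_le_ideal _ _ le_rfl
  have hi₂ : Function.Injective ψ₂ := RingHom.lift_injective_of_ker_le_ideal _ _ h.ge
  letI : Algebra K L₁ := (IsFractionRing.lift hi₁).toAlgebra
  letI : Algebra K L₂ := (IsFractionRing.lift hi₂).toAlgebra
  haveI : Nontrivial (L₁ ⊗[K] L₂) :=
    Algebra.TensorProduct.nontrivial_of_algebraMap_injective_of_isDomain K L₁ L₂ (algebraMap K L₁).injective (algebraMap K L₂).injective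
  obtain ⟨M, hM⟩ := Ideal.exists_maximal (L₁ ⊗[K] L₂)
  letI := Ideal.Quotient.field M
  refine ⟨_ ⧸ M, inferInstance, (Ideal.Quotient.mk M).comp Algebra.TensorProduct.includeLeftRingHom,
    (Ideal.Quotient.mk M).comp (Algebra.TensorProduct.includeRight : L₂ →ₐ[K] L₁ ⊗[K] L₂).toRingHom, RingHom.ext fun r => ?_⟩
  have e₁ : φ₁ r = algebraMap K L₁ (algebraMap Q K (Ideal.Quotient.mk P r)) :=
    (IsFractionRing.lift_algebraMap (K := K) hi₁ (Ideal.Quotient.mk P r)).symm
  have e₂ : φ₂ r = algebraMap K L₂ (algebraMap Q K (Ideal.Quotient.mk P r)) :=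
    (IsFractionRing.lift_algebraMap (K := K) hi₂ (Ideal.Quotient.mk P r)).symm
  show Ideal.Quotient.mk M (φ₁ r ⊗ₜ 1) = Ideal.Quotient.mk M (1 ⊗ₜ φ₂ r)
  rw [e₁, e₂, Algebra.algebraMap_eq_smul_one, smul_tmul, ← Algebra.algebraMap_eq_smul_one]

variable {A' B : Type u} [CommRing A'] [CommRing B] [Algebra A' B]

/-- the point of a field valued point -/
def pk {L : Type u} [Field L] [Algebra A' L] (f : B →ₐ[A'] L) : PrimeSpectrum B := ⟨RingHom.ker f.toRingHom, RingHom.ker_isPrime _⟩

/-- the point of a pair of field valued points -/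
def pt {L : Type u} [Field L] [Algebra A' L] (f g : B →ₐ[A'] L) : PrimeSpectrum (B ⊗[A'] B) :=
  ⟨RingHom.ker (Algebra.TensorProduct.productMap f g).toRingHom, RingHom.ker_isPrime _⟩

/-- first projection -/
def p1 (z : PrimeSpectrum (B ⊗[A'] B)) : PrimeSpectrum B := comap Algebra.TensorProduct.includeLeftRingHom z

/-- second projection -/
def p2 (z : PrimeSpectrum (B ⊗[A'] B)) : PrimeSpectrum B :=
  comap (Algebra.TensorProduct.includeRight : B →ₐ[A'] B ⊗[A'] B).toRingHom z

/-- the point of the base -/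
def base (b : PrimeSpectrum B) : PrimeSpectrum A' := comap (algebraMap A' B) b

theorem p1_pt {L : Type u} [Field L] [Algebra A' L] (f g : B →ₐ[A'] L) : p1 (pt f g) = pk f := by
  refine PrimeSpectrum.ext (Ideal.ext fun x => ?_)
  show Algebra.TensorProduct.productMap f g (x ⊗ₜ 1) = 0 ↔ f x = 0
  simp

theorem p2_pt {L : Type u} [Field L] [Algebra A' L] (f g : B →ₐ[A'] L) : p2 (pt f g) = pk g := by
  refine PrimeSpectrum.ext (Ideal.ext fun x => ?_)
  show Algebra.TensorProduct.productMap f g (1 ⊗ₜ x) = 0 ↔ g x = 0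
  simp

theorem exists_pt (z : PrimeSpectrum (B ⊗[A'] B)) :
    ∃ (L : Type u) (_ : Field L) (_ : Algebra A' L) (f g : B →ₐ[A'] L), pt f g = z := by
  let L := z.asIdeal.ResidueField
  let π : B ⊗[A'] B →ₐ[A'] L := IsScalarTower.toAlgHom A' (B ⊗[A'] B) L
  refine ⟨L, inferInstance, inferInstance, π.comp Algebra.TensorProduct.includeLeft,
    π.comp Algebra.TensorProduct.includeRight, PrimeSpectrum.ext (Ideal.ext fun x => ?_)⟩
  have e : Algebra.TensorProduct.productMap (π.comp Algebra.TensorProduct.includeLeft)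
      (π.comp Algebra.TensorProduct.includeRight) = π := by
    refine Algebra.TensorProduct.ext' fun a b => ?_
    simp [← map_mul]
  show Algebra.TensorProduct.productMap _ _ x = 0 ↔ _
  rw [e]
  exact (Ideal.algebraMap_residueField_eq_zero (I := z.asIdeal))

theorem pt_comp {L L' : Type u} [Field L] [Field L'] [Algebra A' L'] [Algebra A' L] (i : L →ₐ[A'] L') (f g : B →ₐ[A'] L) :
    pt (i.comp f) (i.comp g) = pt f g := by
  refine PrimeSpectrum.ext (Ideal.ext fun x => ?_)
  have e : Algebra.TensorProduct.productMap (i.comp f) (i.comp g) = i.comp (Algebra.TensorProduct.productMap f g) := by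
    refine Algebra.TensorProduct.ext' fun a b => ?_
    simp
  show Algebra.TensorProduct.productMap (i.comp f) (i.comp g) x = 0 ↔ Algebra.TensorProduct.productMap f g x = 0
  rw [e]
  exact map_eq_zero_iff i i.injective

theorem base_p1_eq (z : PrimeSpectrum (B ⊗[A'] B)) : base (A' := A') (p1 z) = base (p2 z) := by
  refine PrimeSpectrum.ext (Ideal.ext fun a => ?_)
  show algebraMap A' B a ⊗ₜ 1 ∈ z.asIdeal ↔ 1 ⊗ₜ algebraMap A' B a ∈ z.asIdeal
  rw [Algebra.algebraMap_eq_smul_one, smul_tmul]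

/-- two field valued points with the same image can be joined -/
theorem exists_join {L₁ L₂ : Type u} [Field L₁] [Field L₂] [Algebra A' L₁] [Algebra A' L₂]
    (f : B →ₐ[A'] L₁) (g : B →ₐ[A'] L₂) (h : pk f = pk g) :
    ∃ (L : Type u) (_ : Field L) (_ : Algebra A' L) (i : L₁ →ₐ[A'] L) (j : L₂ →ₐ[A'] L), i.comp f = j.comp g := by
  obtain ⟨L, _, i, j, hij⟩ := exists_common f.toRingHom g.toRingHom (congrArg PrimeSpectrum.asIdeal h)
  letI : Algebra A' L := (i.comp (algebraMap A' L₁)).toAlgebra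
  refine ⟨L, inferInstance, inferInstance, { i with commutes' := fun _ => rfl },
    { j with commutes' := fun a => ?_ }, AlgHom.ext fun b => RingHom.congr_fun hij b⟩
  show j (algebraMap A' L₂ a) = i (algebraMap A' L₁ a)
  rw [← f.commutes, ← g.commutes]
  exact (RingHom.congr_fun hij _).symm

/-- there is a point over every pair of points with the same image -/
theorem exists_pair {b b' : PrimeSpectrum B} (h : base (A' := A') b = base b') :
    ∃ z, p1 (A' := A') z = b ∧ p2 z = b' := by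
  obtain ⟨L, _, i, j, hij⟩ := exists_common ((algebraMap B b.asIdeal.ResidueField).comp (algebraMap A' B))
    ((algebraMap B b'.asIdeal.ResidueField).comp (algebraMap A' B)) (by
      refine Ideal.ext fun a => ?_
      simp only [RingHom.mem_ker, RingHom.comp_apply, Ideal.algebraMap_residueField_eq_zero]
      exact SetLike.ext_iff.1 (congrArg PrimeSpectrum.asIdeal h) a)
  letI : Algebra A' L := (i.comp ((algebraMap B b.asIdeal.ResidueField).comp (algebraMap A' B))).toAlgebra
  let f : B →ₐ[A'] L := { i.comp (algebraMap B b.asIdeal.ResidueField) with commutes' := fun _ => rfl }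
  let g : B →ₐ[A'] L := { j.comp (algebraMap B b'.asIdeal.ResidueField) with
    commutes' := fun a => (RingHom.congr_fun hij a).symm }
  refine ⟨pt f g, (p1_pt f g).trans ?_, (p2_pt f g).trans ?_⟩ <;> refine PrimeSpectrum.ext (Ideal.ext fun x => ?_)
  · show i (algebraMap B b.asIdeal.ResidueField x) = 0 ↔ _
    rw [map_eq_zero_iff i i.injective, Ideal.algebraMap_residueField_eq_zero]
  · show j (algebraMap B b'.asIdeal.ResidueField x) = 0 ↔ _
    rw [map_eq_zero_iff j j.injective, Ideal.algebraMap_residueField_eq_zero]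

section Max

variable (c : LocallyConstant (PrimeSpectrum (B ⊗[A'] B)) ℤ)

theorem exists_max (b : PrimeSpectrum B) :
    ∃ n, (∃ z, p1 z = b ∧ c z = n) ∧ ∀ z, p1 (A' := A') z = b → c z ≤ n := by
  obtain ⟨n, ⟨z, hz, rfl⟩, hn⟩ := Set.exists_max_image (c '' (p1 ⁻¹' {b})) id
    (c.range_finite.subset (Set.image_subset_range _ _))
    (by obtain ⟨z, hz, -⟩ := exists_pair (A' := A') (rfl : base b = base b); exact ⟨c z, z, hz, rfl⟩)
  exact ⟨_, ⟨z, hz, rfl⟩, fun w hw => hn _ ⟨w, hw, rfl⟩⟩

/-- the maximum of `c` over the first projection -/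
noncomputable def h (b : PrimeSpectrum B) : ℤ := (exists_max c b).choose

theorem h_attained (b : PrimeSpectrum B) : ∃ z, p1 z = b ∧ c z = h c b := (exists_max c b).choose_spec.1

theorem le_h (z : PrimeSpectrum (B ⊗[A'] B)) : c z ≤ h c (p1 z) := (exists_max c _).choose_spec.2 z rfl

variable (hc : ∀ (L : Type u) [Field L] [Algebra A' L] (f g k : B →ₐ[A'] L), c (pt f k) = c (pt f g) + c (pt g k))

include hc

theorem diff (z : PrimeSpectrum (B ⊗[A'] B)) : c z = h c (p1 z) - h c (p2 z) := by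
  obtain ⟨L, _, _, f, g, rfl⟩ := exists_pt z
  rw [p1_pt, p2_pt]
  have h1 : c (pt f g) + h c (pk g) ≤ h c (pk f) := by
    obtain ⟨w, hw, hcw⟩ := h_attained c (pk g)
    obtain ⟨L', _, _, f', g', rfl⟩ := exists_pt w
    rw [p1_pt] at hw
    obtain ⟨M, _, _, i, j, hij⟩ := exists_join g f' hw.symm
    rw [← hcw, ← pt_comp i f g, ← pt_comp j f' g', ← hij, ← hc M]
    refine (le_h c _).trans (le_of_eq ?_)
    rw [p1_pt]
    exact congrArg (h c) (PrimeSpectrum.ext (Ideal.ext fun x => map_eq_zero_iff i i.injective))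
  have h2 : h c (pk f) ≤ c (pt f g) + h c (pk g) := by
    obtain ⟨w, hw, hcw⟩ := h_attained c (pk f)
    obtain ⟨L', _, _, f', g', rfl⟩ := exists_pt w
    rw [p1_pt] at hw
    obtain ⟨M, _, _, i, j, hij⟩ := exists_join f f' hw.symm
    rw [← hcw, ← pt_comp j f' g', ← hij, hc M (i.comp f) (i.comp g) (j.comp g'), pt_comp i f g]
    gcongr
    refine (le_h c _).trans (le_of_eq ?_)
    rw [p1_pt]
    exact congrArg (h c) (PrimeSpectrum.ext (Ideal.ext fun x => map_eq_zero_iff i i.injective))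
  linarith

variable (A : Type u) [CommRing A] [Algebra A A'] [Algebra A B] [IsScalarTower A A' B]
  [Algebra.FormallyUnramified A A'] [Algebra.EssFiniteType A A']
  (hA : ∀ (q : Ideal A) [q.IsPrime], ValuationRing (A ⧸ q))

omit hc in
include hA in
theorem exists_generization {b b' b₀ b₀' : PrimeSpectrum B} (hb : base (A' := A') b = base b')
    (hbb : b ≤ b₀) (hbb' : b' ≤ b₀') (z₀ : PrimeSpectrum (B ⊗[A'] B)) (h₁ : p1 z₀ = b₀) (h₂ : p2 z₀ = b₀') :
    ∃ z ≤ z₀, p1 z = b ∧ p2 z = b' := by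
  obtain ⟨L₀, _, _, f₀, g₀, rfl⟩ := exists_pt z₀
  rw [p1_pt] at h₁
  rw [p2_pt] at h₂
  letI : Algebra A L₀ := ((algebraMap A' L₀).comp (algebraMap A A')).toAlgebra
  haveI : IsScalarTower A A' L₀ := IsScalarTower.of_algebraMap_eq fun _ => rfl
  let q : Ideal A := b.asIdeal.comap (algebraMap A B)
  have hq' : b'.asIdeal.comap (algebraMap A B) = q := by
    simp only [q, IsScalarTower.algebraMap_eq A A' B, ← Ideal.comap_comap]
    rw [show b.asIdeal.comap (algebraMap A' B) = _ from congrArg PrimeSpectrum.asIdeal hb]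
    rfl
  haveI : q.IsPrime := inferInstanceAs (Ideal.comap _ _).IsPrime
  haveI := hA q
  let Ā := A ⧸ q
  let D := B ⧸ b.asIdeal
  let E := B ⧸ b'.asIdeal
  let ιD : Ā →+* D := Ideal.quotientMap b.asIdeal (algebraMap A B) le_rfl
  let ιE : Ā →+* E := Ideal.quotientMap b'.asIdeal (algebraMap A B) hq'.ge
  letI : Algebra Ā D := ιD.toAlgebra
  letI : Algebra Ā E := ιE.toAlgebra
  haveI : IsScalarTower A Ā D := IsScalarTower.of_algebraMap_eq fun _ => rfl
  haveI : IsScalarTower A Ā E := IsScalarTower.of_algebraMap_eq fun _ => rfl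
  have hflat : ∀ (M : Type u) [CommRing M] [IsDomain M] [Algebra Ā M],
      Function.Injective (algebraMap Ā M) → Module.Flat Ā M := fun M _ _ _ hinj => by
    rw [Module.Flat.flat_iff_torsion_eq_bot_of_isBezout, eq_bot_iff]
    intro x hx
    obtain ⟨⟨a, ha⟩, hax⟩ := hx
    have : algebraMap Ā M a * x = 0 := by rw [← Algebra.smul_def]; exact hax
    exact (mul_eq_zero.1 this).resolve_left ((map_ne_zero_iff _ hinj).2 (nonZeroDivisors.ne_zero ha))
  haveI : Module.Flat Ā D := hflat D (Ideal.quotientMap_injective' le_rfl)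
  haveI : Module.Flat Ā E := hflat E (Ideal.quotientMap_injective' hq'.le)
  have hkf : ∀ x ∈ b.asIdeal, f₀ x = 0 := fun x hx => (h₁ ▸ hbb hx : x ∈ (pk f₀).asIdeal)
  have hkg : ∀ x ∈ b'.asIdeal, g₀ x = 0 := fun x hx => (h₂ ▸ hbb' hx : x ∈ (pk g₀).asIdeal)
  letI : Algebra Ā L₀ := (Ideal.Quotient.lift q (algebraMap A L₀) fun a ha => by
    rw [IsScalarTower.algebraMap_apply A A' L₀, ← f₀.commutes, ← IsScalarTower.algebraMap_apply]
    exact hkf _ ha).toAlgebra
  let fD : D →ₐ[Ā] L₀ := { Ideal.Quotient.lift b.asIdeal f₀.toRingHom hkf with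
    commutes' := fun r => by
      obtain ⟨a, rfl⟩ := Ideal.Quotient.mk_surjective r
      show f₀ (algebraMap A B a) = algebraMap A L₀ a
      rw [IsScalarTower.algebraMap_apply A A' B, f₀.commutes, ← IsScalarTower.algebraMap_apply] }
  let gE : E →ₐ[Ā] L₀ := { Ideal.Quotient.lift b'.asIdeal g₀.toRingHom hkg with
    commutes' := fun r => by
      obtain ⟨a, rfl⟩ := Ideal.Quotient.mk_surjective r
      show g₀ (algebraMap A B a) = algebraMap A L₀ a
      rw [IsScalarTower.algebraMap_apply A A' B, g₀.commutes, ← IsScalarTower.algebraMap_apply] }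
  let π₀ : D ⊗[Ā] E →ₐ[Ā] L₀ := Algebra.TensorProduct.productMap fD gE
  haveI : (RingHom.ker π₀.toRingHom).IsPrime := RingHom.ker_isPrime _
  obtain ⟨P, hP, hPle⟩ := Ideal.exists_minimalPrimes_le (I := (⊥ : Ideal (D ⊗[Ā] E))) (bot_le : ⊥ ≤ RingHom.ker π₀.toRingHom)
  haveI : P.IsPrime := hP.1.1
  -- minimal primes contract to zero
  have hcontr : ∀ {T : Type u} [CommRing T] {M : Type u} [CommRing M] [IsDomain M] [Algebra M T] [Module.Flat M T]
      (Q : Ideal T), Q ∈ (⊥ : Ideal T).minimalPrimes → Q.comap (algebraMap M T) = ⊥ := by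
    intro T _ M _ _ _ _ Q hQ
    haveI : Q.IsPrime := hQ.1.1
    obtain ⟨Q', hle, hQ', hover⟩ := Ideal.exists_ideal_le_liesOver_of_le (p := (⊥ : Ideal M)) (q := Q.under M) Q bot_le
    have := hQ.2 ⟨hQ', bot_le⟩ hle
    rw [le_antisymm hle this] at hover
    exact (hover.over).symm
  have hPD : P.comap Algebra.TensorProduct.includeLeftRingHom = (⊥ : Ideal D) := hcontr P hP
  have hPE : P.comap (Algebra.TensorProduct.includeRight : E →ₐ[Ā] D ⊗[Ā] E).toRingHom = ⊥ := by
    letI : Algebra E (D ⊗[Ā] E) := Algebra.TensorProduct.rightAlgebra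
    haveI : Module.Flat E (D ⊗[Ā] E) := by
      haveI := Module.Flat.of_linearEquiv
        ({ (Algebra.TensorProduct.comm Ā E D).toAddEquiv with
            map_smul' := fun e x => by
              show Algebra.TensorProduct.comm Ā E D (e • x) =
                (1 : D) ⊗ₜ[Ā] e * Algebra.TensorProduct.comm Ā E D x
              induction x with
              | zero => simp
              | add x y hx hy => simp only [smul_add, map_add, hx, hy, mul_add]
              | tmul x y => simp [TensorProduct.smul_tmul'] } : (E ⊗[Ā] D) ≃ₗ[E] (D ⊗[Ā] E)).symm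
      exact this
    exact hcontr P hP
  -- the agreement on the intermediate ring
  let Φ : B ⊗[A] B →ₐ[A] D ⊗[Ā] E := Algebra.TensorProduct.productMap
    (((Algebra.TensorProduct.includeLeft : D →ₐ[Ā] D ⊗[Ā] E).restrictScalars A).comp (Ideal.Quotient.mkₐ A b.asIdeal))
    (((Algebra.TensorProduct.includeRight : E →ₐ[Ā] D ⊗[Ā] E).restrictScalars A).comp (Ideal.Quotient.mkₐ A b'.asIdeal))
  have hπΦ : ∀ x y : B, π₀ (Φ (x ⊗ₜ y)) = f₀ x * g₀ y := fun x y => by
    simp [Φ, π₀, fD, gE]
    rfl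
  let ea : D ⊗[Ā] E := Φ (Algebra.TensorProduct.map (IsScalarTower.toAlgHom A A' B) (IsScalarTower.toAlgHom A A' B)
    (Algebra.FormallyUnramified.elem A A'))
  have hea : π₀ ea = 1 := by
    have key : ∀ t : A' ⊗[A] A', π₀ (Φ (Algebra.TensorProduct.map (IsScalarTower.toAlgHom A A' B)
        (IsScalarTower.toAlgHom A A' B) t)) = algebraMap A' L₀ (Algebra.TensorProduct.lmul' A t) := fun t => by
      induction t with
      | zero => simp
      | add x y hx hy => simp [hx, hy]
      | tmul x y => simp [hπΦ, f₀.commutes, g₀.commutes]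
    rw [key, Algebra.FormallyUnramified.lmul_elem, map_one]
  have heaP : ea ∉ P := fun hm => by
    have h0 : π₀ ea = 0 := hPle hm
    rw [hea] at h0
    exact one_ne_zero h0
  have hagree : ∀ a : A', Φ (1 ⊗ₜ algebraMap A' B a) - Φ (algebraMap A' B a ⊗ₜ 1) ∈ P := fun a => by
    refine (hP.1.1.mem_or_mem ?_).resolve_right heaP
    rw [← map_sub, ← map_mul]
    have e := congrArg (fun t => Φ (Algebra.TensorProduct.map (IsScalarTower.toAlgHom A A' B)
      (IsScalarTower.toAlgHom A A' B) t)) (Algebra.FormallyUnramified.one_tmul_sub_tmul_one_mul_elem (R := A) a)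
    simp only [map_mul, map_sub, map_zero, Algebra.TensorProduct.map_tmul, map_one] at e
    rw [map_mul, map_sub]
    exact e ▸ P.zero_mem
  -- the field of the generization
  let L := P.ResidueField
  let ι : D ⊗[Ā] E →+* L := algebraMap _ L
  have hι : ∀ x, ι x = 0 ↔ x ∈ P := fun x => Ideal.algebraMap_residueField_eq_zero
  let f' : B →+* L := ι.comp (Φ.toRingHom.comp Algebra.TensorProduct.includeLeftRingHom)
  let g' : B →+* L := ι.comp (Φ.toRingHom.comp (Algebra.TensorProduct.includeRight : B →ₐ[A] B ⊗[A] B).toRingHom)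
  letI : Algebra A' L := (f'.comp (algebraMap A' B)).toAlgebra
  let f : B →ₐ[A'] L := { f' with commutes' := fun _ => rfl }
  let g : B →ₐ[A'] L := { g' with
    commutes' := fun a => by
      show ι (Φ (1 ⊗ₜ algebraMap A' B a)) = ι (Φ (algebraMap A' B a ⊗ₜ 1))
      rw [← sub_eq_zero, ← map_sub, hι]
      exact hagree a }
  refine ⟨pt f g, fun x hx => ?_, (p1_pt f g).trans ?_, (p2_pt f g).trans ?_⟩
  · obtain ⟨x', rfl⟩ : ∃ x' : B ⊗[A] B, Algebra.TensorProduct.productMap
        ((Algebra.TensorProduct.includeLeft : B →ₐ[A'] B ⊗[A'] B).restrictScalars A)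
        ((Algebra.TensorProduct.includeRight : B →ₐ[A'] B ⊗[A'] B).restrictScalars A) x' = x := by
      clear hx
      induction x with
      | zero => exact ⟨0, map_zero _⟩
      | tmul a b => exact ⟨a ⊗ₜ b, by simp⟩
      | add x y hx hy =>
        obtain ⟨x', rfl⟩ := hx
        obtain ⟨y', rfl⟩ := hy
        exact ⟨x' + y', map_add _ _ _⟩
    have key : ∀ t : B ⊗[A] B, (Algebra.TensorProduct.productMap f g (Algebra.TensorProduct.productMap
        ((Algebra.TensorProduct.includeLeft : B →ₐ[A'] B ⊗[A'] B).restrictScalars A)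
        ((Algebra.TensorProduct.includeRight : B →ₐ[A'] B ⊗[A'] B).restrictScalars A) t) = ι (Φ t)) ∧
      (Algebra.TensorProduct.productMap f₀ g₀ (Algebra.TensorProduct.productMap
        ((Algebra.TensorProduct.includeLeft : B →ₐ[A'] B ⊗[A'] B).restrictScalars A)
        ((Algebra.TensorProduct.includeRight : B →ₐ[A'] B ⊗[A'] B).restrictScalars A) t) = π₀ (Φ t)) := fun t => by
      induction t with
      | zero => simp
      | add x y hx hy => simp only [map_add, hx.1, hy.1, hx.2, hy.2, and_self]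
      | tmul a b =>
        refine ⟨?_, by simp [hπΦ]⟩
        simp [f, g, f', g', ← map_mul]
    show Algebra.TensorProduct.productMap f₀ g₀ _ = 0
    rw [(key x').2]
    have h0 : Algebra.TensorProduct.productMap f g _ = 0 := hx
    rw [(key x').1, hι] at h0
    exact hPle h0
  · refine PrimeSpectrum.ext (Ideal.ext fun x => ?_)
    show ι (Φ (x ⊗ₜ 1)) = 0 ↔ _
    rw [hι, ← Ideal.Quotient.eq_zero_iff_mem (I := b.asIdeal), ← Ideal.mem_bot, ← hPD]
    simp [Φ]
    rfl
  · refine PrimeSpectrum.ext (Ideal.ext fun x => ?_)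
    show ι (Φ (1 ⊗ₜ x)) = 0 ↔ _
    rw [hι, ← Ideal.Quotient.eq_zero_iff_mem (I := b'.asIdeal), ← Ideal.mem_bot, ← hPE]
    simp [Φ]
    rfl

include hA in
/-- differences on a fibre are invariant under specialization -/
theorem diff_eq {b b' b₀ b₀' : PrimeSpectrum B} (hb : base (A' := A') b = base b') (hb₀ : base (A' := A') b₀ = base b₀')
    (hbb : b ≤ b₀) (hbb' : b' ≤ b₀') : h c b - h c b' = h c b₀ - h c b₀' := by
  obtain ⟨z₀, h₁, h₂⟩ := exists_pair hb₀
  obtain ⟨z, hz, e₁, e₂⟩ := exists_generization A hA hb hbb hbb' z₀ h₁ h₂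
  have := ((PrimeSpectrum.le_iff_specializes z z₀).1 hz).mem_open (c.isLocallyConstant.isOpen_fiber (c z₀)) rfl
  rw [← h₁, ← h₂, ← e₁, ← e₂, ← diff c hc z, ← diff c hc z₀]
  exact this

end Max

/-- a point in the closure of an image specializes from the image -/
theorem exists_le_of_mem_closure {R S : Type u} [CommRing R] [CommRing S] (f : R →+* S) {Z : Set (PrimeSpectrum S)}
    (hZ : IsClosed Z) {p : PrimeSpectrum R} (hp : p ∈ closure (comap f '' Z)) : ∃ y ∈ Z, comap f y ≤ p := by
  obtain ⟨I, rfl⟩ := (PrimeSpectrum.isClosed_iff_zeroLocus_ideal Z).mp hZ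
  have h : comap f '' zeroLocus (I : Set S) ⊆ zeroLocus ((I.comap f : Ideal R) : Set R) := by
    rintro _ ⟨q, hq, rfl⟩
    exact Ideal.comap_mono hq
  have hp' := closure_minimal h (isClosed_zeroLocus _) hp
  obtain ⟨q, hqI, hq, hle⟩ := p.asIdeal.exists_ideal_comap_le_prime I hp'
  exact ⟨⟨q, hq⟩, hqI, hle⟩

variable [Module.FaithfullyFlat A' B] [Algebra.FinitePresentation A' B]

/-- integer valued cocycles are coboundaries -/
theorem exists_coboundary (A : Type u) [CommRing A] [Algebra A A'] [Algebra A B] [IsScalarTower A A' B]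
    [Algebra.FormallyUnramified A A'] [Algebra.EssFiniteType A A']
    (hA : ∀ (q : Ideal A) [q.IsPrime], ValuationRing (A ⧸ q))
    (h1 : ∀ (q m m' : Ideal A') [q.IsPrime] [m.IsMaximal] [m'.IsMaximal], q ≤ m → q ≤ m' → m = m')
    (h2 : ∀ (q : Ideal A') [q.IsPrime], (⊥ : Ideal A').jacobson ≤ q → q.IsMaximal)
    (c : LocallyConstant (PrimeSpectrum (B ⊗[A'] B)) ℤ)
    (hc : ∀ (L : Type u) [Field L] [Algebra A' L] (f g k : B →ₐ[A'] L), c (pt f k) = c (pt f g) + c (pt g k)) :
    ∃ t : LocallyConstant (PrimeSpectrum B) ℤ, ∀ z, c z = t (p1 z) - t (p2 z) := by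
  classical
  haveI : Module.Flat A' B := inferInstance
  have KL := @diff_eq A' B _ _ _ c hc A _ _ _ _ _ _ hA
  let Bb : Set (PrimeSpectrum B) := base (A' := A') ⁻¹' zeroLocus ((⊥ : Ideal A').jacobson : Set A')
  have hBbc : IsClosed Bb := (isClosed_zeroLocus _).preimage (continuous_comap _)
  have hmax : ∀ b ∈ Bb, (base (A' := A') b).asIdeal.IsMaximal := fun b hb => h2 _ hb
  -- the levels on the closed fibres
  let C : ℤ → Set (PrimeSpectrum B) := fun n => Bb ∩ h c ⁻¹' {n}
  have hge : ∀ n : ℤ, h c ⁻¹' Set.Ici n = p1 '' (c ⁻¹' Set.Ici n) := fun n => by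
    ext b
    refine ⟨fun hb => ?_, ?_⟩
    · obtain ⟨z, hz, hcz⟩ := h_attained c b
      exact ⟨z, by show n ≤ c z; rw [hcz]; exact hb, hz⟩
    · rintro ⟨z, hz, rfl⟩
      exact le_trans (hz : n ≤ c z) (le_h c z)
  have hconst : ∀ b ∈ Bb, ∀ b₀ ∈ Bb, b ≤ b₀ → h c b = h c b₀ := fun b hb b₀ hb₀ hle => by
    have hbase : base (A' := A') b = base b₀ := PrimeSpectrum.ext
      ((hmax b hb).eq_of_le (base b₀).2.ne_top (Ideal.comap_mono hle))
    have := KL (b := b) (b' := b₀) (b₀ := b₀) (b₀' := b₀) hbase rfl hle le_rfl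
    linarith
  have hgec : ∀ n : ℤ, IsClosed (Bb ∩ h c ⁻¹' Set.Ici n) := fun n => by
    have e : Bb ∩ h c ⁻¹' Set.Ici n = p1 '' (c ⁻¹' Set.Ici n ∩ p1 ⁻¹' Bb) := by
      rw [Set.image_inter_preimage, hge, Set.inter_comm]
    rw [e]
    refine isClosed_image_of_stableUnderSpecialization _ _
      (((isClopen_discrete _).preimage c.continuous).1.inter (hBbc.preimage (continuous_comap _))) ?_
    show StableUnderSpecialization (p1 '' (c ⁻¹' Set.Ici n ∩ p1 ⁻¹' Bb))
    rw [← e]
    intro b b₀ hbb₀ hb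
    have hle := (PrimeSpectrum.le_iff_specializes b b₀).2 hbb₀
    have hb₀ : b₀ ∈ Bb := hbb₀.mem_closed hBbc hb.1
    exact ⟨hb₀, show n ≤ h c b₀ by rw [← hconst b hb.1 b₀ hb₀ hle]; exact hb.2⟩
  have hgeo : ∀ n : ℤ, IsOpen (h c ⁻¹' Set.Ici n) := fun n => by
    rw [hge]
    haveI : Algebra.HasGoingDown B (B ⊗[A'] B) := inferInstance
    exact isOpenMap_comap_of_hasGoingDown_of_finitePresentation (R := B) (S := B ⊗[A'] B) _
      ((isClopen_discrete _).preimage c.continuous).2
  have hC : ∀ n, IsClosed (C n) := fun n => by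
    have e : C n = (Bb ∩ h c ⁻¹' Set.Ici n) ∩ (h c ⁻¹' Set.Ici (n + 1))ᶜ := by
      ext b
      simp only [C, Set.mem_inter_iff, Set.mem_preimage, Set.mem_singleton_iff, Set.mem_Ici, Set.mem_compl_iff]
      constructor
      · rintro ⟨hb, rfl⟩; exact ⟨⟨hb, le_rfl⟩, by omega⟩
      · rintro ⟨⟨hb, h1⟩, h2⟩; exact ⟨hb, by omega⟩
    rw [e]
    exact (hgec n).inter (hgeo (n + 1)).isClosed_compl
  have hsurj := PrimeSpectrum.comap_surjective_of_faithfullyFlat (A := A') (B := B)
  have hdown : ∀ (q : PrimeSpectrum A') (b₁ : PrimeSpectrum B), q ≤ base b₁ →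
      ∃ b' ≤ b₁, base (A' := A') b' = q := fun q b₁ hle => by
    haveI : b₁.asIdeal.LiesOver (base (A' := A') b₁).asIdeal := ⟨rfl⟩
    obtain ⟨P, hP, hPp, hPo⟩ := Ideal.exists_ideal_le_liesOver_of_le b₁.asIdeal hle
    exact ⟨⟨P, hPp⟩, hP, PrimeSpectrum.ext hPo.over.symm⟩
  -- the normalisation
  have hex : ∀ b : PrimeSpectrum B, ∃ b' b₀, base (A' := A') b' = base b ∧ b' ≤ b₀ ∧ b₀ ∈ Bb := fun b => by
    obtain ⟨m, hm, hle⟩ := Ideal.exists_le_maximal (base (A' := A') b).asIdeal (base b).2.ne_top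
    obtain ⟨b₀, hb₀⟩ := hsurj ⟨m, hm.isPrime⟩
    obtain ⟨b', hb', hbase⟩ := hdown (base b) b₀ (by rw [show base b₀ = _ from hb₀]; exact hle)
    refine ⟨b', b₀, hbase, hb', ?_⟩
    show (base b₀ : PrimeSpectrum A') ∈ zeroLocus _
    rw [show base b₀ = _ from hb₀]
    exact (sInf_le (show m ∈ {J : Ideal A' | ⊥ ≤ J ∧ J.IsMaximal} from ⟨bot_le, hm⟩) :
      (⊥ : Ideal A').jacobson ≤ m)
  choose bp b0 hbp hb0 hb0B using hex
  let s : PrimeSpectrum B → ℤ := fun b => h c b - h c (bp b) + h c (b0 b)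
  have hs : ∀ b b' b₀, base (A' := A') b' = base b → b' ≤ b₀ → b₀ ∈ Bb → s b = h c b - h c b' + h c b₀ :=
    fun b b' b₀ hb' hle hB => by
      haveI := hmax _ hB
      haveI := hmax _ (hb0B b)
      have hm : base (A' := A') (b0 b) = base b₀ := PrimeSpectrum.ext (h1 (base b).asIdeal _ _
        ((congrArg PrimeSpectrum.asIdeal (hbp b)).ge.trans (Ideal.comap_mono (hb0 b)))
        ((congrArg PrimeSpectrum.asIdeal hb').ge.trans (Ideal.comap_mono hle)))
      have := KL (b := bp b) (b' := b') (b₀ := b0 b) (b₀' := b₀) ((hbp b).trans hb'.symm) hm (hb0 b) hle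
      simp only [s]
      linarith
  have hspec : ∀ b b₁, b ≤ b₁ → s b = s b₁ := fun b b₁ hle => by
    obtain ⟨b', hb', hbase⟩ := hdown (base b) (bp b₁) (by rw [hbp]; exact Ideal.comap_mono hle)
    rw [hs b b' (b0 b₁) hbase (hb'.trans (hb0 b₁)) (hb0B b₁)]
    have := KL (b := b) (b' := b') (b₀ := b₁) (b₀' := bp b₁) hbase.symm (hbp b₁).symm hle hb'
    simp only [s]
    linarith
  have hrc := c.range_finite
  have hrh : (Set.range (h c)).Finite := hrc.subset (by
    rintro _ ⟨b, rfl⟩
    obtain ⟨z, -, hz⟩ := h_attained c b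
    exact ⟨z, hz⟩)
  have hrs : (Set.range s).Finite := ((hrc.prod hrh).image fun x : ℤ × ℤ => x.1 + x.2).subset (by
    rintro _ ⟨b, rfl⟩
    obtain ⟨z, hz, hz'⟩ := exists_pair (A' := A') (hbp b).symm
    exact ⟨(c z, h c (b0 b)), ⟨⟨z, rfl⟩, ⟨_, rfl⟩⟩, by simp only [s]; rw [diff c hc z, hz, hz']⟩)
  -- level sets are closed
  have hlev : ∀ n, IsClosed (s ⁻¹' {n}) := fun n => by
    let I : ℤ → Ideal B := fun m => vanishingIdeal (C m)
    let S : ℤ → Submonoid B := fun m =>
      { carrier := {x | x - 1 ∈ I m}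
        one_mem' := by simp
        mul_mem' := fun {x y} hx hy => by
          rw [Set.mem_ofPred_eq, show x * y - 1 = x * (y - 1) + (x - 1) by ring]
          exact (I m).add_mem ((I m).mul_mem_left _ hy) hx }
    let φ : ∀ m, B ⊗[A'] B →ₐ[A'] B ⊗[A'] Localization (S m) := fun m =>
      Algebra.TensorProduct.map (AlgHom.id A' B) (IsScalarTower.toAlgHom A' B (Localization (S m)))
    let f : ∀ m, B →+* B ⊗[A'] Localization (S m) := fun m => Algebra.TensorProduct.includeLeftRingHom
    let Z : ∀ m, Set (PrimeSpectrum (B ⊗[A'] Localization (S m))) := fun m => comap (φ m).toRingHom ⁻¹' (c ⁻¹' {n - m})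
    have hCm : ∀ (m : ℤ) (b' : PrimeSpectrum B), Disjoint (S m : Set B) b'.asIdeal ↔ ∃ b₀ ∈ C m, b' ≤ b₀ := by
      intro m b'
      constructor
      · intro hd
        have hne : b'.asIdeal ⊔ I m ≠ ⊤ := fun htop => by
          obtain ⟨x, hx, y, hy, hxy⟩ := Submodule.mem_sup.1 ((Ideal.eq_top_iff_one _).1 htop)
          exact Set.disjoint_left.1 hd (show x - 1 ∈ I m by
            rw [show x - 1 = -y by rw [← hxy]; ring]; exact (I m).neg_mem hy) hx
        obtain ⟨M, hM, hle⟩ := Ideal.exists_le_maximal _ hne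
        refine ⟨⟨M, hM.isPrime⟩, ?_, le_sup_left.trans hle⟩
        rw [← (hC m).closure_eq, ← zeroLocus_vanishingIdeal_eq_closure]
        exact le_sup_right.trans hle
      · rintro ⟨b₀, hb₀, hle⟩
        refine Set.disjoint_left.2 fun x hx hx' => b₀.2.ne_top ((Ideal.eq_top_iff_one _).2 ?_)
        have h0 : x - 1 ∈ b₀.asIdeal := ((mem_vanishingIdeal _ _).1 hx) _ hb₀
        have h2 := b₀.asIdeal.sub_mem (hle hx') h0
        rwa [sub_sub_cancel] at h2
    have heq : s ⁻¹' {n} = ⋃ m ∈ hrh.toFinset, comap (f m) '' Z m := by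
      ext b
      simp only [Set.mem_iUnion, Set.mem_image, Set.mem_preimage, Set.mem_singleton_iff, exists_prop]
      constructor
      · intro hb
        refine ⟨h c (b0 b), hrh.mem_toFinset.2 ⟨_, rfl⟩, ?_⟩
        obtain ⟨z, hz, hz'⟩ := exists_pair (A' := A') (hbp b).symm
        obtain ⟨L, _, _, u, v, rfl⟩ := exists_pt z
        rw [p1_pt] at hz
        rw [p2_pt] at hz'
        have hd := (hCm (h c (b0 b)) (bp b)).2 ⟨b0 b, ⟨hb0B b, rfl⟩, hb0 b⟩
        have hu : ∀ x : S (h c (b0 b)), IsUnit (v x) := fun x => IsUnit.mk0 _ fun h0 =>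
          Set.disjoint_left.1 hd x.2 (hz' ▸ (show x.1 ∈ (pk v).asIdeal from h0))
        let v' : Localization (S (h c (b0 b))) →ₐ[A'] L := IsLocalization.liftAlgHom (M := S (h c (b0 b))) (f := v) hu
        have hv' : ∀ x, v' (algebraMap B _ x) = v x := fun x => IsLocalization.lift_eq _ x
        let y : PrimeSpectrum (B ⊗[A'] Localization (S (h c (b0 b)))) :=
          ⟨RingHom.ker (Algebra.TensorProduct.productMap u v').toRingHom, RingHom.ker_isPrime _⟩
        have hy : comap (φ (h c (b0 b))).toRingHom y = pt u v := by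
          have e : (Algebra.TensorProduct.productMap u v').comp (φ (h c (b0 b))) = Algebra.TensorProduct.productMap u v := by
            refine Algebra.TensorProduct.ext' fun a a' => ?_
            simp [φ, hv']
          refine PrimeSpectrum.ext (Ideal.ext fun x => ?_)
          show ((Algebra.TensorProduct.productMap u v').comp (φ (h c (b0 b)))) x = 0 ↔ _
          rw [e]
          rfl
        refine ⟨y, ?_, ?_⟩
        · show c (comap _ y) = n - h c (b0 b)
          rw [hy, diff c hc, p1_pt, p2_pt, hz, hz', ← hb]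
          simp only [s]
          ring
        · refine Eq.trans ?_ hz
          refine PrimeSpectrum.ext (Ideal.ext fun x => ?_)
          show Algebra.TensorProduct.productMap u v' (x ⊗ₜ 1) = 0 ↔ u x = 0
          simp
      · rintro ⟨m, -, y, hy, rfl⟩
        let z := comap (φ m).toRingHom y
        have hd : Disjoint (S m : Set B) (p2 z).asIdeal := Set.disjoint_left.2 fun x hx hx' => y.2.ne_top
          (Ideal.eq_top_of_isUnit_mem _ hx' (by
            show IsUnit ((φ m) (1 ⊗ₜ x))
            simp only [φ, Algebra.TensorProduct.map_tmul, map_one]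
            exact ((IsLocalization.map_units (Localization (S m)) (⟨x, hx⟩ : S m)).map
              (Algebra.TensorProduct.includeRight : _ →ₐ[A'] B ⊗[A'] Localization (S m)))))
        obtain ⟨b₀, hb₀, hle⟩ := (hCm m _).1 hd
        have hp : comap (f m) y = p1 z := by
          refine PrimeSpectrum.ext (Ideal.ext fun x => ?_)
          show x ⊗ₜ 1 ∈ y.asIdeal ↔ (φ m) (x ⊗ₜ 1) ∈ y.asIdeal
          simp [φ]
        have hcz : c z = n - m := hy
        have hbm : h c b₀ = m := hb₀.2
        rw [hp, hs (p1 z) (p2 z) b₀ (base_p1_eq z).symm hle hb₀.1, ← diff c hc z, hcz, hbm]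
        ring
    refine isClosed_of_closure_subset fun p hp => ?_
    rw [heq, Finset.closure_biUnion] at hp
    obtain ⟨m, hm, hp'⟩ := Set.mem_iUnion₂.1 hp
    obtain ⟨y, hy, hle⟩ := exists_le_of_mem_closure (f m)
      (((isClopen_discrete _).preimage c.continuous).1.preimage (continuous_comap _)) hp'
    have hmem : comap (f m) y ∈ s ⁻¹' {n} := by
      rw [heq]
      exact Set.mem_iUnion₂.2 ⟨m, hm, y, hy, rfl⟩
    show s p = n
    rw [← hspec _ _ hle]
    exact hmem
  have hloc : IsLocallyConstant s := IsLocallyConstant.iff_isOpen_fiber.2 fun n => by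
    have e : s ⁻¹' {n} = (⋃ k ∈ hrs.toFinset.erase n, s ⁻¹' {k})ᶜ := by
      ext b
      simp only [Set.mem_preimage, Set.mem_singleton_iff, Set.mem_compl_iff, Set.mem_iUnion, Finset.mem_erase,
        Set.Finite.mem_toFinset, Set.mem_range, exists_prop, not_exists, not_and]
      refine ⟨fun hb k hk h => hk.1 (h.symm.trans hb), fun h => ?_⟩
      by_contra hne
      exact h (s b) ⟨hne, b, rfl⟩ rfl
    rw [e]
    exact (isClosed_biUnion_finset fun k _ => hlev k).isOpen_compl
  refine ⟨⟨s, hloc⟩, fun z => ?_⟩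
  show c z = s (p1 z) - s (p2 z)
  rw [hs (p1 z) (bp (p1 z)) (b0 (p1 z)) (hbp _) (hb0 _) (hb0B _),
    hs (p2 z) (bp (p1 z)) (b0 (p1 z)) ((hbp _).trans (base_p1_eq z)) (hb0 _) (hb0B _), diff c hc z]
  ring

end Groth.Agent.GalEt.CocycleInt
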