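import Groth.Agent.GalEt.CocycleInt
import Groth.Agent.GalEt.CocycleHyp
import Mathlib.RingTheory.Finiteness.Prod
import Mathlib.RingTheory.RingHom.FinitePresentation

/-!
# Integer cocycles after a finite unramified base change
-/

set_option autoImplicit false
set_option maxHeartbeats 1000000
set_option linter.style.haveILetI false
set_option backward.isDefEq.respectTransparency.types false

universe u

open TensorProduct PrimeSpectrum

namespace Groth.Agent.GalEt.CocycleTensor

variable (R O A B : Type u) [CommRing R] [CommRing O] [Algebra R O] [CommRing A] [Algebra R A] [CommRing B]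
  [Algebra R B] [Algebra A B] [IsScalarTower R A B]

/-- the map of base changes -/
noncomputable abbrev baseMap : A ⊗[R] O →ₐ[R] B ⊗[R] O :=
  Algebra.TensorProduct.map (IsScalarTower.toAlgHom R A B) (AlgHom.id R O)

/-- the base change is the pushout -/
theorem exists_equiv [Algebra (A ⊗[R] O) (B ⊗[R] O)]
    (h : algebraMap (A ⊗[R] O) (B ⊗[R] O) = (baseMap R O A B).toRingHom) :
    Nonempty ((A ⊗[R] O) ⊗[A] B ≃ₐ[A ⊗[R] O] B ⊗[R] O) := by
  haveI : IsScalarTower A (A ⊗[R] O) (B ⊗[R] O) := IsScalarTower.of_algebraMap_eq fun a => by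
    rw [h]
    show algebraMap A B a ⊗ₜ[R] (1 : O) = baseMap R O A B (a ⊗ₜ 1)
    simp
  let Φ : (A ⊗[R] O) ⊗[A] B →ₐ[A ⊗[R] O] B ⊗[R] O := Algebra.TensorProduct.lift (Algebra.ofId _ _)
    (Algebra.TensorProduct.includeLeft : B →ₐ[A] B ⊗[R] O) fun x y => Commute.all _ _
  let Ψ : B ⊗[R] O →ₐ[R] (A ⊗[R] O) ⊗[A] B := Algebra.TensorProduct.productMap
    ((Algebra.TensorProduct.includeRight : B →ₐ[A] (A ⊗[R] O) ⊗[A] B).restrictScalars R)
    (((Algebra.TensorProduct.includeLeft : A ⊗[R] O →ₐ[A] (A ⊗[R] O) ⊗[A] B).restrictScalars R).comp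
      Algebra.TensorProduct.includeRight)
  have hΦ : ∀ a o b, Φ ((a ⊗ₜ[R] o) ⊗ₜ[A] b) = (algebraMap A B a * b) ⊗ₜ[R] o := fun a o b => by
    simp [Φ, Algebra.ofId_apply, h]
  have hΨ : ∀ b o, Ψ (b ⊗ₜ[R] o) = ((1 : A) ⊗ₜ[R] o) ⊗ₜ[A] b := fun b o => by
    simp [Ψ]
  refine ⟨AlgEquiv.ofBijective Φ ⟨Function.LeftInverse.injective (g := Ψ) fun x => ?_,
    Function.RightInverse.surjective (g := Ψ) fun x => ?_⟩⟩
  · induction x with
    | zero => simp
    | add x y hx hy => rw [map_add, map_add, hx, hy]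
    | tmul w b =>
      induction w with
      | zero => simp
      | add x y hx hy => rw [add_tmul, map_add, map_add, hx, hy]
      | tmul a o =>
        rw [hΦ, hΨ, ← Algebra.smul_def, ← smul_tmul, TensorProduct.smul_tmul']
        simp
  · induction x with
    | zero => simp
    | add x y hx hy => rw [map_add, map_add, hx, hy]
    | tmul b o => rw [hΨ, hΦ, map_one, one_mul]

variable {R O A B}

/-- the comparison of doubled base changes -/
noncomputable def psi [Algebra (A ⊗[R] O) (B ⊗[R] O)] [IsScalarTower R (A ⊗[R] O) (B ⊗[R] O)]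
    [IsScalarTower A (A ⊗[R] O) (B ⊗[R] O)] :
    (B ⊗[A] B) ⊗[R] O →ₐ[R] (B ⊗[R] O) ⊗[A ⊗[R] O] (B ⊗[R] O) :=
  Algebra.TensorProduct.productMap
    ((Algebra.TensorProduct.productMap
      (((Algebra.TensorProduct.includeLeft : B ⊗[R] O →ₐ[A ⊗[R] O] _).restrictScalars A).comp
        (Algebra.TensorProduct.includeLeft : B →ₐ[A] B ⊗[R] O))
      (((Algebra.TensorProduct.includeRight : B ⊗[R] O →ₐ[A ⊗[R] O] _).restrictScalars A).comp
        (Algebra.TensorProduct.includeLeft : B →ₐ[A] B ⊗[R] O))).restrictScalars R)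
    (((Algebra.TensorProduct.includeLeft : B ⊗[R] O →ₐ[A ⊗[R] O] _).restrictScalars R).comp
      Algebra.TensorProduct.includeRight)

/-- the point of a pair of maps and a point of the cover -/
noncomputable def kpt {C L : Type u} [CommRing C] [Algebra R C] [Field L] [Algebra R L] (g : C →ₐ[R] L) (q : O →ₐ[R] L) :
    PrimeSpectrum (C ⊗[R] O) :=
  ⟨RingHom.ker (Algebra.TensorProduct.productMap g q).toRingHom, RingHom.ker_isPrime _⟩

variable (R O A B) in
/-- cocycles on the base change are coboundaries -/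
theorem exists_coboundary [Module.FaithfullyFlat A B] [Algebra.FinitePresentation A B] [Module.Finite R O]
    [Algebra.FormallyUnramified R O] (hA : CocycleHyp.Good A)
    (d : LocallyConstant (PrimeSpectrum ((B ⊗[A] B) ⊗[R] O)) ℤ)
    (hd : ∀ (L : Type u) [Field L] [Algebra R L] [Algebra A L] [IsScalarTower R A L] (f g k : B →ₐ[A] L) (q : O →ₐ[R] L),
      d (kpt ((Algebra.TensorProduct.productMap f k).restrictScalars R) q) =
        d (kpt ((Algebra.TensorProduct.productMap f g).restrictScalars R) q) +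
          d (kpt ((Algebra.TensorProduct.productMap g k).restrictScalars R) q)) :
    ∃ t : LocallyConstant (PrimeSpectrum (B ⊗[R] O)) ℤ, ∀ (L : Type u) [Field L] [Algebra R L]
      (h : B ⊗[A] B →ₐ[R] L) (q : O →ₐ[R] L),
      d (kpt h q) = t (kpt (h.comp Algebra.TensorProduct.includeLeft) q) -
        t (kpt (h.comp ((Algebra.TensorProduct.includeRight : B →ₐ[A] B ⊗[A] B).restrictScalars R)) q) := by
  letI iA : Algebra (A ⊗[R] O) (B ⊗[R] O) := (baseMap R O A B).toRingHom.toAlgebra
  haveI : IsScalarTower R (A ⊗[R] O) (B ⊗[R] O) := IsScalarTower.of_algebraMap_eq fun r => ((baseMap R O A B).commutes r).symm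
  haveI : IsScalarTower A (A ⊗[R] O) (B ⊗[R] O) := IsScalarTower.of_algebraMap_eq fun a => by
    show algebraMap A B a ⊗ₜ[R] (1 : O) = baseMap R O A B (a ⊗ₜ 1)
    simp
  obtain ⟨e⟩ := exists_equiv R O A B rfl
  haveI : Module.FaithfullyFlat (A ⊗[R] O) (B ⊗[R] O) :=
    Module.FaithfullyFlat.of_linearEquiv _ ((A ⊗[R] O) ⊗[A] B) e.toLinearEquiv.symm
  haveI : Algebra.FinitePresentation (A ⊗[R] O) (B ⊗[R] O) := Algebra.FinitePresentation.equiv e
  haveI : Module.Finite A (A ⊗[R] O) := inferInstance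
  haveI : Algebra.IsIntegral A (A ⊗[R] O) := Algebra.IsIntegral.of_finite A _
  haveI : Algebra.FiniteType A (A ⊗[R] O) := inferInstance
  haveI : Algebra.EssFiniteType A (A ⊗[R] O) := inferInstance
  haveI : Algebra.FormallyUnramified A (A ⊗[R] O) := inferInstance
  let c : LocallyConstant (PrimeSpectrum ((B ⊗[R] O) ⊗[A ⊗[R] O] (B ⊗[R] O))) ℤ :=
    d.comap ⟨comap (psi (R := R) (O := O) (A := A) (B := B)).toRingHom, continuous_comap _⟩
  have key : ∀ (L : Type u) [Field L] [Algebra (A ⊗[R] O) L] [Algebra R L] [Algebra A L] [IsScalarTower R A L]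
      [IsScalarTower A (A ⊗[R] O) L] [IsScalarTower R (A ⊗[R] O) L]
      (f g : B ⊗[R] O →ₐ[A ⊗[R] O] L) (fB gB : B →ₐ[A] L) (q : O →ₐ[R] L),
      (∀ b, f (b ⊗ₜ 1) = fB b) → (∀ b, g (b ⊗ₜ 1) = gB b) → (∀ o, f (1 ⊗ₜ o) = q o) →
      c (CocycleInt.pt f g) = d (kpt ((Algebra.TensorProduct.productMap fB gB).restrictScalars R) q) := by
    intro L _ _ _ _ _ _ _ f g fB gB q hf hg hq
    refine congrArg d (PrimeSpectrum.ext (Ideal.ext fun x => ?_))
    show Algebra.TensorProduct.productMap f g (psi x) = 0 ↔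
      Algebra.TensorProduct.productMap ((Algebra.TensorProduct.productMap fB gB).restrictScalars R) q x = 0
    have e : ((Algebra.TensorProduct.productMap f g).restrictScalars R).comp (psi (R := R) (O := O) (A := A) (B := B)) =
        Algebra.TensorProduct.productMap ((Algebra.TensorProduct.productMap fB gB).restrictScalars R) q := by
      refine Algebra.TensorProduct.ext' fun y o => ?_
      induction y with
      | zero => simp
      | add y z hy hz => simp only [add_tmul, map_add, hy, hz]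
      | tmul b b' =>
        simp [psi, ← hf, ← hg, ← hq]
        rw [show b ⊗ₜ[R] o = b ⊗ₜ 1 * 1 ⊗ₜ o by simp, map_mul]
        ring
    rw [← e]
    rfl
  have hc : ∀ (L : Type u) [Field L] [Algebra (A ⊗[R] O) L] (f g k : B ⊗[R] O →ₐ[A ⊗[R] O] L),
      c (CocycleInt.pt f k) = c (CocycleInt.pt f g) + c (CocycleInt.pt g k) := by
    intro L _ _ f g k
    letI : Algebra A L := ((algebraMap (A ⊗[R] O) L).comp (algebraMap A (A ⊗[R] O))).toAlgebra
    letI : Algebra R L := ((algebraMap (A ⊗[R] O) L).comp (algebraMap R (A ⊗[R] O))).toAlgebra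
    haveI : IsScalarTower A (A ⊗[R] O) L := IsScalarTower.of_algebraMap_eq fun _ => rfl
    haveI : IsScalarTower R (A ⊗[R] O) L := IsScalarTower.of_algebraMap_eq fun _ => rfl
    haveI : IsScalarTower R A L := IsScalarTower.of_algebraMap_eq fun r => by
      show algebraMap (A ⊗[R] O) L (algebraMap R (A ⊗[R] O) r) = algebraMap (A ⊗[R] O) L (algebraMap A (A ⊗[R] O) (algebraMap R A r))
      rw [← IsScalarTower.algebraMap_apply R A (A ⊗[R] O)]
    let pB : (B ⊗[R] O →ₐ[A ⊗[R] O] L) → (B →ₐ[A] L) := fun f =>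
      (f.restrictScalars A).comp Algebra.TensorProduct.includeLeft
    let q : O →ₐ[R] L := (IsScalarTower.toAlgHom R (A ⊗[R] O) L).comp Algebra.TensorProduct.includeRight
    have hq : ∀ (f : B ⊗[R] O →ₐ[A ⊗[R] O] L) o, f (1 ⊗ₜ o) = q o := fun f o => by
      have := f.commutes ((1 : A) ⊗ₜ[R] o)
      rw [show algebraMap (A ⊗[R] O) (B ⊗[R] O) ((1 : A) ⊗ₜ[R] o) = baseMap R O A B (1 ⊗ₜ o) from rfl] at this
      simpa [q] using this
    rw [key L f k (pB f) (pB k) q (fun _ => rfl) (fun _ => rfl) (hq f),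
      key L f g (pB f) (pB g) q (fun _ => rfl) (fun _ => rfl) (hq f),
      key L g k (pB g) (pB k) q (fun _ => rfl) (fun _ => rfl) (hq g)]
    exact hd L _ _ _ q
  obtain ⟨t, ht⟩ := CocycleInt.exists_coboundary (A' := A ⊗[R] O) (B := B ⊗[R] O) A (fun p hp => (hA.1 p).1)
    (fun p m m' _ _ _ => CocycleHyp.le_unique A (A ⊗[R] O) hA p m m')
    (fun p _ => CocycleHyp.isMaximal_of_jacobson A (A ⊗[R] O) hA p) c hc
  refine ⟨t, fun L _ _ h q => ?_⟩
  letI : Algebra A L := (h.toRingHom.comp (algebraMap A (B ⊗[A] B))).toAlgebra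
  haveI : IsScalarTower R A L := IsScalarTower.of_algebraMap_eq fun r => by
    show algebraMap R L r = h (algebraMap A (B ⊗[A] B) (algebraMap R A r))
    rw [← IsScalarTower.algebraMap_apply R A (B ⊗[A] B), h.commutes]
  let hA' : B ⊗[A] B →ₐ[A] L := { h with commutes' := fun _ => rfl }
  let fB : B →ₐ[A] L := hA'.comp Algebra.TensorProduct.includeLeft
  let gB : B →ₐ[A] L := hA'.comp Algebra.TensorProduct.includeRight
  letI : Algebra (A ⊗[R] O) L := (Algebra.TensorProduct.productMap (IsScalarTower.toAlgHom R A L) q).toRingHom.toAlgebra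
  haveI : IsScalarTower A (A ⊗[R] O) L := IsScalarTower.of_algebraMap_eq fun a => by
    show algebraMap A L a = Algebra.TensorProduct.productMap _ q (a ⊗ₜ 1)
    simp
  haveI : IsScalarTower R (A ⊗[R] O) L := IsScalarTower.of_algebraMap_eq fun r =>
    ((Algebra.TensorProduct.productMap (IsScalarTower.toAlgHom R A L) q).commutes r).symm
  have hcomm : ∀ (u : B →ₐ[A] L) (w : A ⊗[R] O),
      Algebra.TensorProduct.productMap (u.restrictScalars R) q (baseMap R O A B w) = algebraMap (A ⊗[R] O) L w := by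
    intro u w
    show _ = Algebra.TensorProduct.productMap (IsScalarTower.toAlgHom R A L) q w
    induction w with
    | zero => simp
    | add x y hx hy => simp only [map_add, hx, hy]
    | tmul a o => simp
  let f : B ⊗[R] O →ₐ[A ⊗[R] O] L := { Algebra.TensorProduct.productMap (fB.restrictScalars R) q with commutes' := hcomm fB }
  let g : B ⊗[R] O →ₐ[A ⊗[R] O] L := { Algebra.TensorProduct.productMap (gB.restrictScalars R) q with commutes' := hcomm gB }
  have e : (Algebra.TensorProduct.productMap fB gB).restrictScalars R = h := AlgHom.ext fun x => by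
    show Algebra.TensorProduct.productMap fB gB x = hA' x
    exact AlgHom.congr_fun (Algebra.TensorProduct.ext' fun a b => by simp [fB, gB, ← map_mul]) x
  have h' := ht (CocycleInt.pt f g)
  rw [key L f g fB gB q (fun b => by
      show Algebra.TensorProduct.productMap (fB.restrictScalars R) q (b ⊗ₜ 1) = fB b
      simp) (fun b => by
      show Algebra.TensorProduct.productMap (gB.restrictScalars R) q (b ⊗ₜ 1) = gB b
      simp) (fun o => by
      show Algebra.TensorProduct.productMap (fB.restrictScalars R) q (1 ⊗ₜ o) = q o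
      simp), e, CocycleInt.p1_pt, CocycleInt.p2_pt] at h'
  exact h'

end Groth.Agent.GalEt.CocycleTensor
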