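import Groth.Agent.GalEt.H1Desc
import Mathlib.RingTheory.FinitePresentation
import Mathlib.Data.Set.Countable
import Mathlib.Data.Finsupp.Encodable

/-!
# Countability of fppf cohomology in degrees at most two over a countable ring
-/

set_option autoImplicit false
set_option maxHeartbeats 1000000
set_option linter.style.haveILetI false
set_option linter.unusedSectionVars false
set_option backward.isDefEq.respectTransparency.types false

universe u

open CategoryTheory CategoryTheory.Limits AlgebraicGeometry Opposite Abelian TensorProduct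

namespace Groth.Agent.GalEt.CountH

open Groth.Agent.AdeqFound Adeq2Lib.CechAffine Adeq2Lib.CechSingle Adeq2Lib.AffVan DualPush

theorem exists_reps {M K : Type*} [Countable K] (rel : M → K → Prop) (h : ∀ s, ∃ k, rel s k) (e : M → M → Prop)
    (he : ∀ s s' k, rel s k → rel s' k → e s s') : ∃ S : Set M, S.Countable ∧ ∀ s, ∃ s₀ ∈ S, e s s₀ := by
  refine ⟨Set.range fun k : {k // ∃ s, rel s k} => k.2.choose, Set.countable_range _, fun s => ?_⟩
  obtain ⟨k, hk⟩ := h s
  exact ⟨_, ⟨⟨k, s, hk⟩, rfl⟩, he _ _ k hk (⟨s, hk⟩ : ∃ s, rel s k).choose_spec⟩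

theorem countable_mvPolynomial (C : Type u) [CommRing C] [Countable C] (n : ℕ) : Countable (MvPolynomial (Fin n) C) := by
  haveI : Countable ((Fin n →₀ ℕ) →₀ C) := inferInstance
  exact Countable.of_equiv _ AddMonoidAlgebra.coeffEquiv.symm

theorem countable_of_fp {R : Type u} [CommRing R] [Countable R] (C : Type u) [CommRing C] [Algebra R C]
    [Algebra.FinitePresentation R C] : Countable C := by
  obtain ⟨n, f, hf, -⟩ := Algebra.FinitePresentation.out (R := R) (A := C)
  haveI := countable_mvPolynomial R n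
  exact hf.countable

/-- indices of finite presentations -/
abbrev Idx (C : Type u) [CommRing C] : Type u := Σ n : ℕ, Finset (MvPolynomial (Fin n) C)

/-- the algebra of a finite presentation -/
abbrev Bx (C : Type u) [CommRing C] (i : Idx C) : Type u :=
  MvPolynomial (Fin i.1) C ⧸ Ideal.span (i.2 : Set (MvPolynomial (Fin i.1) C))

theorem countable_idx (C : Type u) [CommRing C] [Countable C] : Countable (Idx C) := by
  haveI := fun n => countable_mvPolynomial C n
  infer_instance

instance fp_Bx (C : Type u) [CommRing C] (i : Idx C) : Algebra.FinitePresentation C (Bx C i) :=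
  Algebra.FinitePresentation.quotient ⟨i.2, rfl⟩

theorem exists_idx (C : Type u) [CommRing C] (B : Type u) [CommRing B] [Algebra C B] [Algebra.FinitePresentation C B] :
    ∃ i : Idx C, Nonempty (Bx C i ≃ₐ[C] B) := by
  obtain ⟨n, f, hf, s, hs⟩ := Algebra.FinitePresentation.out (R := C) (A := B)
  exact ⟨⟨n, s⟩, ⟨(Ideal.quotientEquivAlgOfEq C hs).trans (Ideal.quotientKerAlgEquivOfSurjective hf)⟩⟩

variable {R : Type u} [CommRing R]

/-- sections over finitely presented algebras are countable -/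
def CSec (G : AbT (Spec (CommRingCat.of R))) : Prop :=
  ∀ (C : Type u) [CommRing C] [Algebra R C] [Algebra.FinitePresentation R C], Countable (G.obj.obj (op (sB R C)))

/-- an affine object of finite presentation -/
def IsFp (W : Over (Spec (CommRingCat.of R))) : Prop :=
  ∃ (C : Type u) (_ : CommRing C) (_ : Algebra R C) (_ : Algebra.FinitePresentation R C), Nonempty (sB R C ≅ W)

theorem countable_of_isFp {G : AbT (Spec (CommRingCat.of R))} (hG : CSec G) {W : Over (Spec (CommRingCat.of R))}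
    (hW : IsFp W) : Countable (G.obj.obj (op W)) := by
  obtain ⟨C, _, _, _, ⟨e⟩⟩ := hW
  haveI := hG C
  exact (ConcreteCategory.bijective_of_isIso (G.obj.map e.inv.op)).2.countable

variable (C : Type u) [CommRing C] [Algebra R C]

theorem exists_pi_iso_fp (B : Type u) [CommRing B] [Algebra C B] [Algebra.FinitePresentation C B] : ∀ n : ℕ,
    ∃ C' : Adeq.Alg (CommRingCat.of C), Algebra.FinitePresentation C (C' : Type u) ∧
      Nonempty (sp (CommRingCat.of C) C' ≅ ∏ᶜ fun _ : Fin (n + 1) => X₀ (R := CommRingCat.of C) B)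
  | 0 => ⟨Adeq.algOf (CommRingCat.of C) B, ‹Algebra.FinitePresentation C B›, ⟨{
      hom := Pi.lift fun _ => 𝟙 _
      inv := Pi.π (fun _ : Fin 1 => X₀ (R := CommRingCat.of C) B) 0
      hom_inv_id := Pi.lift_π _ _
      inv_hom_id := Pi.hom_ext _ _ fun k => by
        obtain rfl : k = 0 := Fin.eq_zero k
        rw [Category.assoc, Pi.lift_π, Category.comp_id, Category.id_comp] }⟩⟩
  | n + 1 => by
    obtain ⟨C', hC', ⟨e⟩⟩ := exists_pi_iso_fp B n
    haveI : Algebra.FinitePresentation C (B ⊗[C] (C' : Type u)) := by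
      haveI := hC'
      exact Algebra.FinitePresentation.trans C B (B ⊗[C] (C' : Type u))
    refine ⟨bX B C', ?_, ⟨asIso (κ B C') ≪≫ prod.mapIso e (Iso.refl _) ≪≫
      { hom := Pi.lift (Fin.cases prod.snd fun k => prod.fst ≫ Pi.π (fun _ : Fin (n + 1) => X₀ (R := CommRingCat.of C) B) k)
        inv := prod.lift (Pi.lift fun k => Pi.π (fun _ : Fin (n + 1 + 1) => X₀ (R := CommRingCat.of C) B) k.succ)
          (Pi.π (fun _ : Fin (n + 1 + 1) => X₀ (R := CommRingCat.of C) B) 0)
        hom_inv_id := ?_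
        inv_hom_id := ?_ }⟩⟩
    · have h : (algebraMap C (B ⊗[C] (C' : Type u))).FinitePresentation := RingHom.finitePresentation_algebraMap.2 this
      show @Algebra.FinitePresentation C (bX B C' : Type u) _ _ (_)
      refine (@RingHom.finitePresentation_algebraMap C (bX B C' : Type u) _ _ (_)).1 ?_
      show RingHom.FinitePresentation (show C →+* (B ⊗[C] (C' : Type u)) from algebraMap C (bX B C' : Type u))
      rw [show (show C →+* (B ⊗[C] (C' : Type u)) from algebraMap C (bX B C' : Type u)) = algebraMap C (B ⊗[C] (C' : Type u)) from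
        RingHom.ext fun r => (IsScalarTower.algebraMap_apply C B (B ⊗[C] (C' : Type u)) r).symm]
      exact h
    · refine prod.hom_ext (Pi.hom_ext _ _ fun k => ?_) ?_
      · rw [Category.assoc (Pi.lift _), prod.lift_fst, Category.id_comp, Category.assoc, Pi.lift_π, Pi.lift_π]
        rfl
      · rw [Category.assoc, prod.lift_snd, Category.id_comp, Pi.lift_π]
        rfl
    · refine Pi.hom_ext _ _ fun k => ?_
      rw [Category.assoc, Pi.lift_π, Category.id_comp]
      refine Fin.cases ?_ (fun k => ?_) k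
      · exact prod.lift_snd _ _
      · show prod.lift _ _ ≫ prod.fst ≫ _ = _
        rw [prod.lift_fst_assoc, Pi.lift_π]

/-- the structure map -/
noncomputable abbrev sMap : Spec (CommRingCat.of C) ⟶ Spec (CommRingCat.of R) :=
  Spec.map (CommRingCat.ofHom (algebraMap R C))

theorem isFp_pw [Algebra.FinitePresentation R C] (i : Idx C) (n : ℕ) :
    IsFp ((Over.map (sMap (R := R) C)).obj (pw (X₀ (R := CommRingCat.of C) (Bx C i)) n)) := by
  obtain ⟨C', hC', ⟨e⟩⟩ := exists_pi_iso_fp C (Bx C i) n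
  letI : Algebra C (C' : Type u) := (inferInstance : Algebra (CommRingCat.of C) C')
  letI : Algebra R (C' : Type u) := ((algebraMap C (C' : Type u)).comp (algebraMap R C)).toAlgebra
  haveI : IsScalarTower R C (C' : Type u) := IsScalarTower.of_algebraMap_eq fun _ => rfl
  haveI : Algebra.FinitePresentation C (C' : Type u) := hC'
  haveI := Algebra.FinitePresentation.trans R C (C' : Type u)
  refine ⟨C', inferInstance, inferInstance, inferInstance,
    ⟨(Over.isoMk (Iso.refl _) ?_ : sB R (C' : Type u) ≅ (Over.map (sMap (R := R) C)).obj (sp (CommRingCat.of C) C')) ≪≫ (Over.map (sMap (R := R) C)).mapIso e⟩⟩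
  show 𝟙 _ ≫ (sp (CommRingCat.of C) C').hom ≫ sMap (R := R) C = _
  rw [Category.id_comp, sp_hom]
  exact (Spec.map_comp _ _).symm

theorem ext_pw (F : AbT (Spec (CommRingCat.of R))) (B : Type u) [CommRing B] [Algebra C B] [Module.FaithfullyFlat C B]
    [Algebra.FinitePresentation C B] (x y : F.obj.obj (op (sB R C)))
    (h : rA F ((Over.map (sMap (R := R) C)).map (Pi.π (fun _ : Fin 1 => X₀ (R := CommRingCat.of C) B) 0) ≫
        covMap (sMap (R := R) C) B) x =
      rA F ((Over.map (sMap (R := R) C)).map (Pi.π (fun _ : Fin 1 => X₀ (R := CommRingCat.of C) B) 0) ≫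
        covMap (sMap (R := R) C) B) y) : x = y := by
  haveI : Module.FaithfullyFlat (CommRingCat.of C) B := ‹Module.FaithfullyFlat C B›
  haveI : LocallyOfFinitePresentation (Spec.map (CommRingCat.ofHom (algebraMap (CommRingCat.of C) B))) :=
    (HasRingHomProperty.Spec_iff (P := @LocallyOfFinitePresentation)).2
      (RingHom.finitePresentation_algebraMap.2 ‹Algebra.FinitePresentation C B›)
  refine ext_cov F (sMap (R := R) C) B x y ?_
  let σ₁ : X₀ (R := CommRingCat.of C) B ⟶ pw (X₀ (R := CommRingCat.of C) B) 0 := Pi.lift fun _ => 𝟙 _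
  have hσ : σ₁ ≫ Pi.π (fun _ : Fin 1 => X₀ (R := CommRingCat.of C) B) 0 = 𝟙 _ := Pi.lift_π _ _
  have h' := congrArg (rA F ((Over.map (sMap (R := R) C)).map σ₁)) h
  rwa [rA_comp, rA_comp, ← Category.assoc, ← Functor.map_comp, hσ, CategoryTheory.Functor.map_id,
    Category.id_comp] at h'

/-- the covering datum of a section which lifts -/
theorem exists_lift_idx {I Q : AbT (Spec (CommRingCat.of R))} (π : I ⟶ Q) [Epi π] (s : Q.obj.obj (op (sB R C))) :
    ∃ (i : Idx C) (_ : Module.FaithfullyFlat C (Bx C i))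
      (t : I.obj.obj (op ((Over.map (sMap (R := R) C)).obj (pw (X₀ (R := CommRingCat.of C) (Bx C i)) 0)))),
      (π.hom.app _).hom t = rA Q ((Over.map (sMap (R := R) C)).map
        (Pi.π (fun _ : Fin 1 => X₀ (R := CommRingCat.of C) (Bx C i)) 0) ≫ covMap (sMap (R := R) C) (Bx C i)) s := by
  obtain ⟨B, _, iB, hff, hlfp, t, ht⟩ := exists_lift_single (R := CommRingCat.of C) (sMap (R := R) C) π s
  letI : Algebra C B := iB
  haveI : Algebra.FinitePresentation C B :=
    RingHom.finitePresentation_algebraMap.1 ((HasRingHomProperty.Spec_iff (P := @LocallyOfFinitePresentation)).1 hlfp)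
  obtain ⟨i, ⟨e⟩⟩ := exists_idx C B
  haveI : Module.FaithfullyFlat C B := hff
  refine ⟨i, Module.FaithfullyFlat.of_linearEquiv C B e.toLinearEquiv, ?_⟩
  let g : Adeq.algOf (CommRingCat.of C) B ⟶ Adeq.algOf (CommRingCat.of C) (Bx C i) := CommAlgCat.ofHom e.symm.toAlgHom
  let a := sMap (R := R) C
  let r : cov a (Bx C i) ⟶ cov a B := (Over.map a).map (spMap _ g)
  have hr : r ≫ covMap a B = covMap a (Bx C i) := Over.OverMorphism.ext (Over.w (spMap _ g))
  let π₀ := (Over.map a).map (Pi.π (fun _ : Fin 1 => X₀ (R := CommRingCat.of C) (Bx C i)) 0)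
  refine ⟨rA I (π₀ ≫ r) t, ?_⟩
  refine (ConcreteCategory.congr_hom (π.hom.naturality (π₀ ≫ r).op) t).trans ?_
  refine (congrArg (rA Q (π₀ ≫ r)) ht).trans ?_
  rw [rA_comp, Category.assoc, hr]

variable (E : ShortComplex (AbT (Spec (CommRingCat.of R))))

/-- the countably many cokernel classes of sections -/
theorem exists_sect_reps [Countable C] [Algebra.FinitePresentation R C] (hE : E.ShortExact) (hG : CSec E.X₁) :
    ∃ S : Set (E.X₃.obj.obj (op (sB R C))), S.Countable ∧
      ∀ s, ∃ s₀ ∈ S, ∃ z, (E.g.hom.app (op (sB R C))).hom z = s - s₀ := by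
  haveI := hE.epi_g
  haveI := countable_idx C
  let a := sMap (R := R) C
  let f' : pr E.X₁ a ⟶ pr E.X₂ a := Functor.whiskerLeft (Over.map a).op E.f.hom
  let g' : pr E.X₂ a ⟶ pr E.X₃ a := Functor.whiskerLeft (Over.map a).op E.g.hom
  let X : Idx C → Over (Spec (CommRingCat.of C)) := fun i => X₀ (R := CommRingCat.of C) (Bx C i)
  haveI : ∀ i, Countable ((pr E.X₁ a).obj (op (pw (X i) 1))) := fun i => countable_of_isFp hG (isFp_pw C i 1)
  refine exists_reps (K := Σ i : Idx C, (pr E.X₁ a).obj (op (pw (X i) 1)))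
    (fun s k => ∃ (_ : Module.FaithfullyFlat C (Bx C k.1))
      (t : (pr E.X₂ a).obj (op (pw (X₀ (R := CommRingCat.of C) (Bx C k.1)) 0))),
      (g'.app _).hom t = rA E.X₃ ((Over.map a).map (Pi.π (fun _ : Fin 1 => X₀ (R := CommRingCat.of C) (Bx C k.1)) 0) ≫
          covMap a (Bx C k.1)) s ∧
        (f'.app _).hom k.2 = D (X₀ (R := CommRingCat.of C) (Bx C k.1)) (pr E.X₂ a) 0 t)
    (fun s => ?_) _ ?_
  · obtain ⟨i, hff, t, ht⟩ := exists_lift_idx C E.g s
    haveI : Module.FaithfullyFlat (CommRingCat.of C) (Bx C i) := hff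
    obtain ⟨c, hc⟩ := ((secA_exact E hE _).2 _).1 (by
      show (g'.app _).hom (D (X₀ (R := CommRingCat.of C) (Bx C i)) (pr E.X₂ a) 0 t) = 0
      rw [← D_nat]
      refine (congrArg (D (X₀ (R := CommRingCat.of C) (Bx C i)) (pr E.X₃ a) 0) ht).trans ?_
      exact D_restr E.X₃ a (Bx C i) s)
    exact ⟨⟨i, c⟩, hff, t, ht, hc⟩
  · rintro s s' ⟨i, c⟩ ⟨hff, t, ht, hc⟩ ⟨-, t', ht', hc'⟩
    haveI : Module.FaithfullyFlat (CommRingCat.of C) (Bx C i) := hff
    haveI : LocallyOfFinitePresentation (Spec.map (CommRingCat.ofHom (algebraMap (CommRingCat.of C) (Bx C i)))) :=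
      (HasRingHomProperty.Spec_iff (P := @LocallyOfFinitePresentation)).2
        (RingHom.finitePresentation_algebraMap.2 (fp_Bx C i))
    obtain ⟨z, hz⟩ := glue_cov E.X₂ a (Bx C i) (t - t') (by rw [map_sub, ← hc, ← hc', sub_self])
    haveI : Module.FaithfullyFlat C (Bx C i) := hff
    refine ⟨z, ext_pw C E.X₃ (Bx C i) _ _ ?_⟩
    rw [map_sub]
    have h := congrArg (g'.app (op (pw (X i) 0))).hom hz
    rw [map_sub, ht, ht'] at h
    have hn : rA E.X₃ ((Over.map a).map (Pi.π (fun _ : Fin 1 => X i) 0) ≫ covMap a (Bx C i)) ((E.g.hom.app _).hom z) =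
        (E.g.hom.app (op ((Over.map a).obj (pw (X i) 0)))).hom
          (rA E.X₂ ((Over.map a).map (Pi.π (fun _ : Fin 1 => X i) 0) ≫ covMap a (Bx C i)) z) :=
      (ConcreteCategory.congr_hom (E.g.hom.naturality _) z).symm
    exact hn.trans h

/-- the countably many cokernel classes of sections one step further -/
theorem exists_sect_reps_two [Countable C] [Algebra.FinitePresentation R C] {J Q₂ : AbT (Spec (CommRingCat.of R))}
    (ι : E.X₃ ⟶ J) (π₂ : J ⟶ Q₂) (w : ι ≫ π₂ = 0)
    (hE : E.ShortExact) (hE' : (ShortComplex.mk ι π₂ w).ShortExact) (hG : CSec E.X₁) (hI : Acy E.X₂) [Countable R] :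
    ∃ S : Set (Q₂.obj.obj (op (sB R C))), S.Countable ∧
      ∀ s, ∃ s₀ ∈ S, ∃ z, (π₂.hom.app (op (sB R C))).hom z = s - s₀ := by
  classical
  haveI : Epi π₂ := hE'.epi_g
  haveI := countable_idx C
  let a := sMap (R := R) C
  let X : Idx C → Over (Spec (CommRingCat.of C)) := fun i => X₀ (R := CommRingCat.of C) (Bx C i)
  let P1 := pr E.X₁ a
  let P2 := pr E.X₂ a
  let PQ := pr E.X₃ a
  let f' : P1 ⟶ P2 := Functor.whiskerLeft (Over.map a).op E.f.hom
  let g' : P2 ⟶ PQ := Functor.whiskerLeft (Over.map a).op E.g.hom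
  let PJ := pr J a
  let i' : PQ ⟶ PJ := Functor.whiskerLeft (Over.map a).op ι.hom
  let p' : PJ ⟶ pr Q₂ a := Functor.whiskerLeft (Over.map a).op π₂.hom
  haveI : ∀ i, Countable (P1.obj (op (pw (X i) 2))) := fun i => countable_of_isFp hG (isFp_pw C i 2)
  have hex : ∀ U y, (g'.app (op U)).hom y = 0 ↔ ∃ x, (f'.app (op U)).hom x = y :=
    fun U => (secA_exact E hE ((Over.map a).obj U)).2
  have hexJ : ∀ U y, (p'.app (op U)).hom y = 0 ↔ ∃ x, (i'.app (op U)).hom x = y :=
    fun U => (secA_exact _ hE' ((Over.map a).obj U)).2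
  have hinjJ : ∀ U, Function.Injective (i'.app (op U)).hom := fun U => (secA_exact _ hE' ((Over.map a).obj U)).1
  have hS : ∀ i, ∃ S : Set (PQ.obj (op (pw (X i) 1))), S.Countable ∧
      ∀ c, ∃ c₀ ∈ S, ∃ z, (g'.app (op (pw (X i) 1))).hom z = c - c₀ := fun i => by
    obtain ⟨C', _, _, _, ⟨e⟩⟩ := isFp_pw (R := R) C i 1
    haveI := countable_of_fp (R := R) C'
    obtain ⟨S, hS, hS'⟩ := exists_sect_reps C' E hE hG
    refine ⟨(E.X₃.obj.map e.inv.op).hom '' S, hS.image _, fun c => ?_⟩
    obtain ⟨s₀, hs₀, z, hz⟩ := hS' ((E.X₃.obj.map e.hom.op).hom c)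
    refine ⟨_, ⟨s₀, hs₀, rfl⟩, (E.X₂.obj.map e.inv.op).hom z, ?_⟩
    refine (ConcreteCategory.congr_hom (E.g.hom.naturality e.inv.op) z).trans ?_
    refine (congrArg (E.X₃.obj.map e.inv.op).hom hz).trans ?_
    rw [map_sub, FppfH1.map_map, e.inv_hom_id, op_id, CategoryTheory.Functor.map_id]
    rfl
  choose S hSc hSr using hS
  haveI : ∀ i, Countable (S i) := fun i => (hSc i).to_subtype
  let e0 : ∀ i, PQ.obj (op (pw (X i) 1)) → P2.obj (op (pw (X i) 1)) := fun i c₀ =>
    if h : ∃ e, (g'.app _).hom (D (X i) P2 1 e) = - D (X i) PQ 1 c₀ then h.choose else 0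
  refine exists_reps (K := Σ i : Idx C, S i × P1.obj (op (pw (X i) 2)))
    (fun s k => ∃ (_ : Module.FaithfullyFlat C (Bx C k.1)) (t : PJ.obj (op (pw (X k.1) 0)))
      (c : PQ.obj (op (pw (X k.1) 1))) (e : P2.obj (op (pw (X k.1) 1))),
      (p'.app _).hom t = rA Q₂ ((Over.map a).map (Pi.π (fun _ : Fin 1 => X k.1) 0) ≫ covMap a (Bx C k.1)) s ∧
        (i'.app _).hom c = D (X k.1) PJ 0 t ∧ (g'.app _).hom e = c - k.2.1 ∧
          (f'.app _).hom k.2.2 = D (X k.1) P2 1 e - D (X k.1) P2 1 (e0 k.1 k.2.1))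
    (fun s => ?_) _ ?_
  · obtain ⟨i, hff, t, ht⟩ := exists_lift_idx C π₂ s
    haveI : Module.FaithfullyFlat (CommRingCat.of C) (Bx C i) := hff
    obtain ⟨c, hc⟩ := (hexJ _ (D (X i) PJ 0 t)).1 (by
      rw [← D_nat]
      refine (congrArg (D (X i) (pr Q₂ a) 0) ht).trans ?_
      exact D_restr Q₂ a (Bx C i) s)
    have hDc : D (X i) PQ 1 c = 0 := hinjJ _ (by rw [← D_nat, hc, D_D, map_zero])
    obtain ⟨c₀, hc₀, e, he⟩ := hSr i c
    have h1 : (g'.app _).hom (D (X i) P2 1 e) = - D (X i) PQ 1 c₀ := by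
      rw [← D_nat, he, map_sub, hDc, zero_sub]
    have h2 : (g'.app _).hom (D (X i) P2 1 (e0 i c₀)) = - D (X i) PQ 1 c₀ := by
      simp only [e0, dif_pos (⟨e, h1⟩ : ∃ e, (g'.app _).hom (D (X i) P2 1 e) = - D (X i) PQ 1 c₀)]
      exact (⟨e, h1⟩ : ∃ e, (g'.app _).hom (D (X i) P2 1 e) = - D (X i) PQ 1 c₀).choose_spec
    obtain ⟨g, hg⟩ := (hex _ (D (X i) P2 1 e - D (X i) P2 1 (e0 i c₀))).1 (by rw [map_sub, h1, h2, sub_self])
    exact ⟨⟨i, ⟨c₀, hc₀⟩, g⟩, hff, t, c, e, ht, hc, he, hg⟩
  · rintro s s' ⟨i, ⟨c₀, _⟩, g⟩ ⟨hff, t, c, e, ht, hc, he, hg⟩ ⟨-, t', c', e', ht', hc', he', hg'⟩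
    haveI : Module.FaithfullyFlat (CommRingCat.of C) (Bx C i) := hff
    haveI : LocallyOfFinitePresentation (Spec.map (CommRingCat.ofHom (algebraMap (CommRingCat.of C) (Bx C i)))) :=
      (HasRingHomProperty.Spec_iff (P := @LocallyOfFinitePresentation)).2
        (RingHom.finitePresentation_algebraMap.2 (fp_Bx C i))
    have hee : D (X i) P2 1 (e - e') = 0 := by
      rw [map_sub, sub_eq_zero]
      exact sub_left_inj.1 (hg.symm.trans hg')
    obtain ⟨y, hy⟩ := hI (CommRingCat.of C) a (Bx C i) 0 (e - e') hee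
    have hcc : c - c' = D (X i) PQ 0 ((g'.app _).hom y) := by
      rw [D_nat, hy, map_sub, he, he', sub_sub_sub_cancel_right]
    obtain ⟨z, hz⟩ := glue_cov J a (Bx C i) (t - t' - (i'.app _).hom ((g'.app _).hom y)) (by
      rw [map_sub, map_sub, D_nat, ← hc, ← hc', ← map_sub, ← hcc, sub_self])
    haveI : Module.FaithfullyFlat C (Bx C i) := hff
    refine ⟨z, ext_pw C Q₂ (Bx C i) _ _ ?_⟩
    rw [map_sub]
    have h := congrArg (p'.app (op (pw (X i) 0))).hom hz
    rw [map_sub, map_sub, (hexJ _ _).2 ⟨_, rfl⟩, sub_zero, ht, ht'] at h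
    have hn : rA Q₂ ((Over.map a).map (Pi.π (fun _ : Fin 1 => X i) 0) ≫ covMap a (Bx C i)) ((π₂.hom.app _).hom z) =
        (π₂.hom.app (op ((Over.map a).obj (pw (X i) 0)))).hom
          (rA J ((Over.map a).map (Pi.π (fun _ : Fin 1 => X i) 0) ≫ covMap a (Bx C i)) z) :=
      (ConcreteCategory.congr_hom (π₂.hom.naturality _) z).symm
    exact hn.trans h

section Main

variable [Countable R]

/-- an object over the identity is final -/
noncomputable def idIso {𝒞 : Type*} [Category 𝒞] {X : 𝒞} (f : X ⟶ X) (h : f = 𝟙 X) : Over.mk f ≅ Over.mk (𝟙 X) :=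
  Over.isoMk (Iso.refl X) (by subst h; simp)

/-- the trivial algebra gives the final object -/
noncomputable def topIso : sB R R ≅ Over.mk (𝟙 (Spec (CommRingCat.of R))) :=
  idIso _ (Spec.map_id (CommRingCat.of R))

theorem countable_H_zero (G : AbT (Spec (CommRingCat.of R))) (hG : CSec G) :
    Countable (BigSite.H Scheme.fppfPrecoverage (Spec (CommRingCat.of R)) G 0) := by
  haveI := countable_of_isFp hG ⟨R, inferInstance, inferInstance, inferInstance, ⟨topIso⟩⟩
  exact (Sheaf.H.equiv₀ G (Over.mkIdTerminal (X := Spec (CommRingCat.of R)))).injective.countable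

theorem countable_H_one_of_reps (hE : E.ShortExact) [Injective E.X₂]
    {W : Over (Spec (CommRingCat.of R))} (topIso : W ≅ Over.mk (𝟙 (Spec (CommRingCat.of R))))
    (S : Set (E.X₃.obj.obj (op W))) (hS : S.Countable)
    (hr : ∀ s, ∃ s₀ ∈ S, ∃ z, (E.g.hom.app (op W)).hom z = s - s₀) :
    Countable (BigSite.H Scheme.fppfPrecoverage (Spec (CommRingCat.of R)) E.X₁ 1) := by
  have hT : IsTerminal (Over.mk (𝟙 (Spec (CommRingCat.of R)))) := Over.mkIdTerminal
  haveI := hS.to_subtype
  let e3 := Sheaf.H.equiv₀ E.X₃ hT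
  let δ : S → BigSite.H Scheme.fppfPrecoverage (Spec (CommRingCat.of R)) E.X₁ 1 := fun s =>
    (e3.symm ((E.X₃.obj.map topIso.inv.op).hom s.1)).comp hE.extClass rfl
  refine Function.Surjective.countable (f := δ) fun x => ?_
  obtain ⟨y, rfl⟩ := Ext.covariant_sequence_exact₁ _ hE x ((Ext.eq_zero_of_injective (I := E.X₂) _)) (n₀ := 0) rfl
  obtain ⟨s₀, hs₀, z, hz⟩ := hr ((E.X₃.obj.map topIso.hom.op).hom (e3 y))
  refine ⟨⟨s₀, hs₀⟩, ?_⟩
  let t := (E.X₂.obj.map topIso.inv.op).hom z
  have hy : y = e3.symm ((E.X₃.obj.map topIso.inv.op).hom s₀) +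
      Sheaf.H.map E.g 0 ((Sheaf.H.equiv₀ E.X₂ hT).symm t) := by
    refine e3.injective ?_
    rw [map_add, AddEquiv.apply_symm_apply, ← Sheaf.H.equiv₀_naturality, AddEquiv.apply_symm_apply]
    have h := (ConcreteCategory.congr_hom (E.g.hom.naturality topIso.inv.op) z).trans
      (congrArg (E.X₃.obj.map topIso.inv.op).hom hz)
    rw [map_sub, FppfH1.map_map, topIso.inv_hom_id, op_id, CategoryTheory.Functor.map_id] at h
    refine Eq.trans ?_ (congrArg ((E.X₃.obj.map topIso.inv.op).hom s₀ + ·) h.symm)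
    exact (add_sub_cancel _ _).symm
  show (e3.symm ((E.X₃.obj.map topIso.inv.op).hom s₀)).comp hE.extClass rfl = y.comp hE.extClass rfl
  rw [hy, Ext.add_comp, Sheaf.H.map_apply, Ext.comp_assoc_of_second_deg_zero, hE.comp_extClass, Ext.comp_zero, add_zero]

theorem countable_H_one (G : AbT (Spec (CommRingCat.of R))) (hG : CSec G) :
    Countable (BigSite.H Scheme.fppfPrecoverage (Spec (CommRingCat.of R)) G 1) := by
  let P := Classical.arbitrary (InjectivePresentation G)
  haveI : Injective P.shortComplex.X₂ := P.injective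
  obtain ⟨S, hS, hr⟩ := exists_sect_reps R P.shortComplex P.shortExact_shortComplex hG
  exact countable_H_one_of_reps P.shortComplex P.shortExact_shortComplex topIso S hS hr

theorem countable_H_two (G : AbT (Spec (CommRingCat.of R))) (hG : CSec G) :
    Countable (BigSite.H Scheme.fppfPrecoverage (Spec (CommRingCat.of R)) G 2) := by
  let P := Classical.arbitrary (InjectivePresentation G)
  haveI : Injective P.shortComplex.X₂ := P.injective
  let P' := Classical.arbitrary (InjectivePresentation P.shortComplex.X₃)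
  haveI : Injective P'.shortComplex.X₂ := P'.injective
  obtain ⟨S, hS, hr⟩ := exists_sect_reps_two R P.shortComplex P'.shortComplex.f P'.shortComplex.g P'.shortComplex.zero
    P.shortExact_shortComplex P'.shortExact_shortComplex hG (acy_injective _)
  haveI : Countable (BigSite.H Scheme.fppfPrecoverage (Spec (CommRingCat.of R)) P.shortComplex.X₃ 1) :=
    countable_H_one_of_reps P'.shortComplex P'.shortExact_shortComplex topIso S hS hr
  refine Function.Surjective.countable (f := fun y : BigSite.H Scheme.fppfPrecoverage (Spec (CommRingCat.of R)) P.shortComplex.X₃ 1 =>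
    y.comp P.shortExact_shortComplex.extClass rfl) fun x => ?_
  obtain ⟨y, hy⟩ := Ext.covariant_sequence_exact₁ _ P.shortExact_shortComplex x
    ((Ext.eq_zero_of_injective (I := P.J) _)) (n₀ := 1) rfl
  exact ⟨y, hy⟩

theorem countable_H (G : AbT (Spec (CommRingCat.of R))) (hG : CSec G) (i : ℕ) (hi : i ≤ 2) :
    Countable (BigSite.H Scheme.fppfPrecoverage (Spec (CommRingCat.of R)) G i) := by
  interval_cases i
  · exact countable_H_zero G hG
  · exact countable_H_one G hG
  · exact countable_H_two G hG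

end Main

end Groth.Agent.GalEt.CountH
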