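import Groth.Agent.GalEt.BigH0
import Groth.Prelude.Def_CGrpSh2
import Mathlib.RingTheory.TensorProduct.Free
import Mathlib.AlgebraicGeometry.Pullbacks

/-!
# Sections of a dual sheaf are determined on a schematically dominant family
-/

set_option autoImplicit false
set_option maxHeartbeats 1000000
set_option linter.style.haveILetI false
set_option backward.isDefEq.respectTransparency.types false

universe u

open CategoryTheory CategoryTheory.Limits AlgebraicGeometry Opposite TensorProduct

namespace Groth.Agent.GalEt.DualPts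

variable (P : Precoverage Scheme.{u}) {X : Scheme.{u}} [(QuotSh.J P X).Subcanonical]
  (G : Over X) [GrpObj G] [IsCommMonObj G]

/-- two characters agree if they agree on every member of a family which is dominant after base change to the group -/
theorem sect_eq {U : Over X} {α : Type*} (V : α → Over X) (c : ∀ v, V v ⟶ U)
    (H : ∀ a b : Over.mk (pullback.snd G.hom U.hom ≫ U.hom) ⟶ Red.Gm X,
      (∀ v, pullback.fst (pullback.snd G.hom U.hom) (c v).left ≫ a.left =
        pullback.fst (pullback.snd G.hom U.hom) (c v).left ≫ b.left) → a = b)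
    (φ ψ : (CGrpSh.pts P G).over U ⟶ (CGrpSh2.Gm P X).over U)
    (h : ∀ v, ((CGrpSh2.dualSh P (CGrpSh.pts P G)).obj.map (c v).op).hom φ =
      ((CGrpSh2.dualSh P (CGrpSh.pts P G)).obj.map (c v).op).hom ψ) : φ = ψ := by
  let W : Over X := Over.mk (pullback.snd G.hom U.hom ≫ U.hom)
  let q : W ⟶ U := Over.homMk (pullback.snd G.hom U.hom) rfl
  let p : W ⟶ G := Over.homMk (pullback.fst G.hom U.hom) pullback.condition
  let s : (CGrpSh.pts P G).obj.obj (op W) := ULift.up (Additive.ofMul p)
  have huniv : (φ.hom.app (op (Over.mk q))).hom s = (ψ.hom.app (op (Over.mk q))).hom s := by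
    refine ULift.ext _ _ (Additive.toMul.injective (H _ _ fun v => ?_))
    let Wv : Over X := Over.mk (pullback.snd (pullback.snd G.hom U.hom) (c v).left ≫ (V v).hom)
    let qv : Wv ⟶ V v := Over.homMk (pullback.snd (pullback.snd G.hom U.hom) (c v).left) rfl
    let r : Wv ⟶ W := Over.homMk (pullback.fst (pullback.snd G.hom U.hom) (c v).left) (by
      show _ ≫ pullback.snd G.hom U.hom ≫ U.hom = pullback.snd (pullback.snd G.hom U.hom) (c v).left ≫ (V v).hom
      rw [← Category.assoc, pullback.condition, Category.assoc, Over.w (c v)])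
    have hr : r ≫ q = qv ≫ c v := Over.OverMorphism.ext pullback.condition
    let r' : Over.mk (qv ≫ c v) ⟶ Over.mk q := Over.homMk r hr
    let sv : (CGrpSh.pts P G).obj.obj (op Wv) := ULift.up (Additive.ofMul (r ≫ p))
    have hv := congrArg (fun (χ : (CGrpSh.pts P G).over (V v) ⟶ (CGrpSh2.Gm P X).over (V v)) =>
      (χ.hom.app (op (Over.mk qv))).hom sv) (h v)
    have nφ := ConcreteCategory.congr_hom (φ.hom.naturality r'.op) s
    have nψ := ConcreteCategory.congr_hom (ψ.hom.naturality r'.op) s
    have hl := nφ.symm.trans (Eq.trans hv nψ)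
    exact congrArg (fun z : (CGrpSh2.Gm P X).obj.obj (op Wv) => (z.down.toMul : Wv ⟶ Red.Gm X).left) hl
  refine Sheaf.hom_ext (NatTrans.ext (funext fun T => AddCommGrpCat.ext fun g => ?_))
  obtain ⟨T⟩ := T
  let γ : T.left ⟶ G := g.down.toMul
  let m₀ : T.left ⟶ W := Over.homMk (pullback.lift γ.left T.hom.left
    ((Over.w γ).trans (Over.w T.hom).symm)) (by
      show _ ≫ pullback.snd G.hom U.hom ≫ U.hom = T.left.hom
      rw [← Category.assoc, pullback.lift_snd, Over.w T.hom])
  let m : T ⟶ Over.mk q := Over.homMk m₀ (Over.OverMorphism.ext (pullback.lift_snd _ _ _))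
  have hm : ((CGrpSh.pts P G).obj.map m₀.op).hom s = ULift.up (Additive.ofMul γ) :=
    congrArg (fun w => ULift.up (Additive.ofMul w)) (show m₀ ≫ p = γ from Over.OverMorphism.ext (pullback.lift_fst _ _ _))
  have nφ := ConcreteCategory.congr_hom (φ.hom.naturality m.op) s
  have nψ := ConcreteCategory.congr_hom (ψ.hom.naturality m.op) s
  show (φ.hom.app (op T)).hom (ULift.up (Additive.ofMul γ)) = (ψ.hom.app (op T)).hom (ULift.up (Additive.ofMul γ))
  refine ((congrArg (φ.hom.app (op T)).hom hm).symm.trans ?_).trans (congrArg (ψ.hom.app (op T)).hom hm)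
  exact nφ.trans ((congrArg ((((CGrpSh2.Gm P X).over U).obj.map m.op).hom) huniv).trans nψ.symm)

/-- a jointly injective family stays jointly injective after a free base change -/
theorem tensor_jointly_injective {k : Type u} [Field k] (H : Type u) [CommRing H] [Algebra k H]
    {A : Type u} [CommRing A] [Algebra k A] {α : Type*} (L : α → Type u) [∀ v, CommRing (L v)] [∀ v, Algebra k (L v)]
    (p : ∀ v, A →ₐ[k] L v) (hp : ∀ r : A, (∀ v, p v r = 0) → r = 0) (x : H ⊗[k] A)
    (hx : ∀ v, Algebra.TensorProduct.map (AlgHom.id k H) (p v) x = 0) : x = 0 := by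
  classical
  let b := Module.Free.chooseBasis k H
  refine (TensorProduct.equivFinsuppOfBasisLeft b).map_eq_zero_iff.1 (Finsupp.ext fun i => hp _ fun v => ?_)
  have h1 : ∀ y : H ⊗[k] A, TensorProduct.equivFinsuppOfBasisLeft b (Algebra.TensorProduct.map (AlgHom.id k H) (p v) y) i =
      p v (TensorProduct.equivFinsuppOfBasisLeft b y i) := by
    intro y
    induction y with
    | zero => simp
    | add y z hy hz => simp [hy, hz]
    | tmul y z => simp
  rw [← h1, hx v]
  simp

end Groth.Agent.GalEt.DualPts
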