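import Groth.Agent.GalEt.CountH
import Groth.Agent.GalEt.DualPts
import Mathlib.FieldTheory.RatFunc.Basic
import Mathlib.Data.Rat.Encodable
import Mathlib.LinearAlgebra.Dimension.Free
import Mathlib.NumberTheory.NumberField.Basic
import Mathlib.AlgebraicGeometry.Morphisms.FiniteType

/-!
# Points and characters over countable rings form countable sets
-/

set_option autoImplicit false
set_option maxHeartbeats 1000000
set_option linter.style.haveILetI false
set_option backward.isDefEq.respectTransparency.types false

universe u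

open CategoryTheory CategoryTheory.Limits AlgebraicGeometry Opposite
open scoped MonObj

namespace Groth.Agent.GalEt.CountPts

open DualPush

theorem countable_of_finiteType {R C : Type u} [CommRing R] [CommRing C] [Countable R] (φ : R →+* C) (hφ : φ.FiniteType) :
    Countable C := by
  letI : Algebra R C := φ.toAlgebra
  haveI : Algebra.FiniteType R C := hφ
  obtain ⟨n, f, hf⟩ := Algebra.FiniteType.iff_quotient_mvPolynomial''.1 ‹Algebra.FiniteType R C›
  haveI := CountH.countable_mvPolynomial R n
  exact hf.countable

theorem finiteType_appTop {R : Type u} [CommRing R] {X : Scheme.{u}} [IsAffine X] (f : X ⟶ Spec (CommRingCat.of R))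
    [LocallyOfFiniteType f] : ((Scheme.ΓSpecIso (CommRingCat.of R)).inv ≫ f.appTop).hom.FiniteType :=
  RingHom.FiniteType.comp (HasRingHomProperty.appTop (P := @LocallyOfFiniteType) f ‹_›)
    (RingHom.FiniteType.of_surjective _ (Scheme.ΓSpecIso (CommRingCat.of R)).symm.commRingCatIsoToRingEquiv.surjective)

theorem countable_sections {R : Type u} [CommRing R] [Countable R] {X : Scheme.{u}} [IsAffine X]
    (f : X ⟶ Spec (CommRingCat.of R)) [LocallyOfFiniteType f] : Countable Γ(X, ⊤) :=
  countable_of_finiteType _ (finiteType_appTop f)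

theorem countable_over_hom {R : Type u} [CommRing R] (U G : Over (Spec (CommRingCat.of R))) [IsAffine G.left]
    [LocallyOfFiniteType G.hom] [Countable Γ(U.left, ⊤)] : Countable (U ⟶ G) := by
  classical
  let φ : R →+* Γ(G.left, ⊤) := ((Scheme.ΓSpecIso (CommRingCat.of R)).inv ≫ G.hom.appTop).hom
  letI : Algebra R Γ(G.left, ⊤) := φ.toAlgebra
  haveI : Algebra.FiniteType R Γ(G.left, ⊤) := finiteType_appTop G.hom
  obtain ⟨n, F, hF⟩ := Algebra.FiniteType.iff_quotient_mvPolynomial''.1 ‹Algebra.FiniteType R Γ(G.left, ⊤)›
  refine Function.Injective.countable (f := fun (h : U ⟶ G) (j : Fin n) => h.left.appTop.hom (F (MvPolynomial.X j)))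
    fun h h' e => Over.OverMorphism.ext (ext_of_isAffine (CommRingCat.hom_ext ?_))
  refine (RingHom.cancel_right (f := F.toRingHom) hF).1 (MvPolynomial.ringHom_ext (fun r => ?_) fun j => congrFun e j)
  show h.left.appTop.hom (F (MvPolynomial.C r)) = h'.left.appTop.hom (F (MvPolynomial.C r))
  rw [← MvPolynomial.algebraMap_eq, F.commutes]
  show ((Scheme.ΓSpecIso (CommRingCat.of R)).inv ≫ G.hom.appTop ≫ h.left.appTop).hom r =
    ((Scheme.ΓSpecIso (CommRingCat.of R)).inv ≫ G.hom.appTop ≫ h'.left.appTop).hom r
  rw [← Scheme.Hom.comp_appTop, ← Scheme.Hom.comp_appTop, Over.w h, Over.w h']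

variable (P : Precoverage Scheme.{u}) {X : Scheme.{u}} [(QuotSh.J P X).Subcanonical]
  (G : Over X) [GrpObj G] [IsCommMonObj G]

/-- the value of a character at the universal point -/
noncomputable def univVal (U : Over X) (φ : (CGrpSh.pts P G).over U ⟶ (CGrpSh2.Gm P X).over U) :
    Over.mk (pullback.snd G.hom U.hom ≫ U.hom) ⟶ Red.Gm X :=
  ((φ.hom.app (op (Over.mk (Over.homMk (pullback.snd G.hom U.hom) rfl :
    Over.mk (pullback.snd G.hom U.hom ≫ U.hom) ⟶ U)))).hom
      (ULift.up (Additive.ofMul (Over.homMk (pullback.fst G.hom U.hom) pullback.condition :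
        Over.mk (pullback.snd G.hom U.hom ≫ U.hom) ⟶ G)))).down.toMul

theorem univVal_injective (U : Over X) : Function.Injective (univVal P G U) := fun φ ψ h => by
  let W : Over X := Over.mk (pullback.snd G.hom U.hom ≫ U.hom)
  let q : W ⟶ U := Over.homMk (pullback.snd G.hom U.hom) rfl
  let p : W ⟶ G := Over.homMk (pullback.fst G.hom U.hom) pullback.condition
  let s : (CGrpSh.pts P G).obj.obj (op W) := ULift.up (Additive.ofMul p)
  have huniv : (φ.hom.app (op (Over.mk q))).hom s = (ψ.hom.app (op (Over.mk q))).hom s :=
    ULift.ext _ _ (Additive.toMul.injective h)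
  refine Sheaf.hom_ext (NatTrans.ext (funext fun T => AddCommGrpCat.ext fun g => ?_))
  obtain ⟨T⟩ := T
  let γ : T.left ⟶ G := g.down.toMul
  let m₀ : T.left ⟶ W := Over.homMk (pullback.lift γ.left T.hom.left
    ((Over.w γ).trans (Over.w T.hom).symm)) (by
      show _ ≫ pullback.snd G.hom U.hom ≫ U.hom = T.left.hom
      rw [← Category.assoc, pullback.lift_snd, Over.w T.hom])
  let m : T ⟶ Over.mk q := Over.homMk m₀ (Over.OverMorphism.ext (pullback.lift_snd _ _ _))
  have hm : ((CGrpSh.pts P G).obj.map m₀.op).hom s = ULift.up (Additive.ofMul γ) :=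
    congrArg (fun w => ULift.up (Additive.ofMul w)) (show m₀ ≫ p = γ from Over.OverMorphism.ext (pullback.lift_fst _ _ _))
  have nφ := ConcreteCategory.congr_hom (φ.hom.naturality m.op) s
  have nψ := ConcreteCategory.congr_hom (ψ.hom.naturality m.op) s
  show (φ.hom.app (op T)).hom (ULift.up (Additive.ofMul γ)) = (ψ.hom.app (op T)).hom (ULift.up (Additive.ofMul γ))
  refine ((congrArg (φ.hom.app (op T)).hom hm).symm.trans ?_).trans (congrArg (ψ.hom.app (op T)).hom hm)
  exact nφ.trans ((congrArg ((((CGrpSh2.Gm P X).over U).obj.map m.op).hom) huniv).trans nψ.symm)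

end Groth.Agent.GalEt.CountPts

namespace Groth.Agent.GalEt.CountPts

open DualPush

variable {R : Type u} [CommRing R] [Countable R] (G : Over (Spec (CommRingCat.of R))) [GrpObj G] [IsCommMonObj G]
  [IsAffine G.left] [LocallyOfFiniteType G.hom]

theorem locallyOfFiniteType_sB (C : Type u) [CommRing C] [Algebra R C] [Algebra.FinitePresentation R C] :
    LocallyOfFiniteType (sB R C).hom :=
  (HasRingHomProperty.Spec_iff (P := @LocallyOfFiniteType)).2 (RingHom.finiteType_algebraMap.2 inferInstance)

theorem csec_pts : CountH.CSec (CGrpSh.pts Scheme.fppfPrecoverage G) := fun C _ _ _ => by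
  haveI := locallyOfFiniteType_sB (R := R) C
  haveI : IsAffine (sB R C).left := inferInstanceAs (IsAffine (Spec (CommRingCat.of C)))
  haveI : Countable Γ((sB R C).left, ⊤) := countable_sections (sB R C).hom
  haveI := countable_over_hom (sB R C) G
  exact (Function.Injective.countable (f := fun x : (CGrpSh.pts Scheme.fppfPrecoverage G).obj.obj (op (sB R C)) =>
    (x.down.toMul : sB R C ⟶ G)) fun x y h => ULift.ext _ _ (Additive.toMul.injective h))

theorem csec_dual : CountH.CSec (CGrpSh2.dualSh Scheme.fppfPrecoverage (CGrpSh.pts Scheme.fppfPrecoverage G)) := fun C _ _ _ => by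
  haveI := locallyOfFiniteType_sB (R := R) C
  haveI : IsAffine (sB R C).left := inferInstanceAs (IsAffine (Spec (CommRingCat.of C)))
  let W : Over (Spec (CommRingCat.of R)) := Over.mk (pullback.snd G.hom (sB R C).hom ≫ (sB R C).hom)
  haveI : IsAffine (pullback G.hom (sB R C).hom) := inferInstance
  haveI : LocallyOfFiniteType (pullback.snd G.hom (sB R C).hom ≫ (sB R C).hom) := inferInstance
  haveI : IsAffine W.left := inferInstanceAs (IsAffine (pullback G.hom (sB R C).hom))
  haveI : Countable Γ(W.left, ⊤) := countable_sections (pullback.snd G.hom (sB R C).hom ≫ (sB R C).hom)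
  haveI : Countable Γ(W.left, ⊤)ˣ := Function.Injective.countable Units.val_injective
  haveI : Countable (W ⟶ Red.Gm (Spec (CommRingCat.of R))) := (GmPts.equiv W).toEquiv.injective.countable
  exact Function.Injective.countable (univVal_injective Scheme.fppfPrecoverage G (sB R C))

omit [Countable R] in
theorem countable_numberField (k : Type u) [Field k] [NumberField k] : Countable k := by
  let b := Module.Free.chooseBasis ℚ k
  haveI : Countable (Module.Free.ChooseBasisIndex ℚ k →₀ ℚ) := inferInstance
  exact b.repr.toEquiv.injective.countable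

omit [Countable R] in
theorem countable_functionField (Fq k : Type u) [Field Fq] [Finite Fq] [Field k] [Algebra (RatFunc Fq) k]
    [FiniteDimensional (RatFunc Fq) k] : Countable k := by
  haveI : Countable Fq := Finite.to_countable
  haveI : Countable (Polynomial Fq) := (Polynomial.toFinsuppIso Fq).toEquiv.trans AddMonoidAlgebra.coeffEquiv |>.injective.countable
  haveI : Countable (RatFunc Fq) := by
    refine Function.Surjective.countable (f := fun p : Polynomial Fq × Polynomial Fq =>
      algebraMap (Polynomial Fq) (RatFunc Fq) p.1 / algebraMap (Polynomial Fq) (RatFunc Fq) p.2) fun z => ⟨(z.num, z.denom), ?_⟩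
    exact RatFunc.num_div_denom z
  let b := Module.Free.chooseBasis (RatFunc Fq) k
  exact b.repr.toEquiv.injective.countable

end Groth.Agent.GalEt.CountPts
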