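import Groth.Agent.GalEt.DualPush

/-!
# Every degree function comes from a character over a split base
-/

set_option autoImplicit false
set_option maxHeartbeats 1000000
set_option linter.style.haveILetI false
set_option linter.unusedSectionVars false
set_option backward.isDefEq.respectTransparency.types false

universe u

open CategoryTheory CategoryTheory.Limits AlgebraicGeometry Opposite TensorProduct LaurentPolynomial
open scoped MonObj

namespace Groth.Agent.GalEt.DualPush

/-- the idempotent of a level set -/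
noncomputable def levelIdem {B : Type u} [CommRing B] (n : LocallyConstant (PrimeSpectrum B) ℤ) (m : ℤ) : B :=
  (PrimeSpectrum.exists_idempotent_basicOpen_eq_of_isClopen ((isClopen_discrete {m}).preimage n.continuous)).choose

theorem levelIdem_spec {B : Type u} [CommRing B] (n : LocallyConstant (PrimeSpectrum B) ℤ) (m : ℤ) :
    IsIdempotentElem (levelIdem n m) ∧ n ⁻¹' {m} = PrimeSpectrum.basicOpen (levelIdem n m) :=
  (PrimeSpectrum.exists_idempotent_basicOpen_eq_of_isClopen ((isClopen_discrete {m}).preimage n.continuous)).choose_spec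

/-- the power by a locally constant exponent -/
noncomputable def lcPow {B : Type u} [CommRing B] (n : LocallyConstant (PrimeSpectrum B) ℤ) {M : Type u} [CommRing M]
    (φ : B →+* M) : Mˣ →* Mˣ where
  toFun x := ∏ m ∈ n.range_finite.toFinset, (pw (φ (levelIdem n m)) ((levelIdem_spec n m).1.map φ) x) ^ m
  map_one' := Finset.prod_eq_one fun m _ => by rw [map_one, one_zpow]
  map_mul' x y := by
    rw [← Finset.prod_mul_distrib]
    exact Finset.prod_congr rfl fun m _ => by rw [map_mul, mul_zpow]

theorem lcPow_nat {B : Type u} [CommRing B] (n : LocallyConstant (PrimeSpectrum B) ℤ) {M N : Type u} [CommRing M] [CommRing N]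
    (φ : B →+* M) (ψ : M →+* N) (x : Mˣ) :
    Units.map ψ.toMonoidHom (lcPow n φ x) = lcPow n (ψ.comp φ) (Units.map ψ.toMonoidHom x) := by
  show Units.map ψ.toMonoidHom (∏ m ∈ _, _) = ∏ m ∈ _, _
  rw [map_prod]
  exact Finset.prod_congr rfl fun m _ => by rw [map_zpow, pw_nat]; rfl

theorem lcPow_domain {B : Type u} [CommRing B] (n : LocallyConstant (PrimeSpectrum B) ℤ) {M : Type u} [CommRing M] [IsDomain M]
    (φ : B →+* M) (x : Mˣ) : lcPow n φ x = x ^ n ⟨RingHom.ker φ, RingHom.ker_isPrime φ⟩ := by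
  let p : PrimeSpectrum B := ⟨RingHom.ker φ, RingHom.ker_isPrime φ⟩
  have hp : ∀ m, φ (levelIdem n m) ≠ 0 ↔ n p = m := fun m => (Set.ext_iff.1 (levelIdem_spec n m).2 p).symm
  show (∏ m ∈ n.range_finite.toFinset, _) = x ^ n p
  rw [Finset.prod_eq_single (n p)]
  · refine congrArg (· ^ n p) (Units.ext ?_)
    rw [val_pw, ((IsIdempotentElem.iff_eq_zero_or_one.1 ((levelIdem_spec n (n p)).1.map φ)).resolve_left ((hp _).2 rfl))]
    simp
  · intro m _ hm
    have h0 : φ (levelIdem n m) = 0 := not_not.1 fun h => hm ((hp m).1 h).symm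
    rw [show pw (φ (levelIdem n m)) ((levelIdem_spec n m).1.map φ) x = 1 from Units.ext (by rw [val_pw, h0]; simp), one_zpow]
  · intro h
    exact absurd (n.range_finite.mem_toFinset.2 ⟨p, rfl⟩) h

variable {R : Type u} [CommRing R] {O : Type u} [CommRing O] [Algebra R O] {B C : Type u} [CommRing B] [CommRing C]
  [Algebra R B] [Algebra R C]

/-- the structure map on functions -/
noncomputable def φT (T : Over (sB R B)) : B →+* Γ(T.left.left, ⊤) :=
  ((Scheme.ΓSpecIso (CommRingCat.of B)).inv ≫ T.hom.left.appTop).hom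

theorem φT_nat {T T' : Over (sB R B)} (r : T' ⟶ T) : r.left.left.appTop.hom.comp (φT T) = φT T' := by
  show ((Scheme.ΓSpecIso _).inv ≫ T.hom.left.appTop ≫ r.left.left.appTop).hom = _
  rw [← Scheme.Hom.comp_appTop, ← Over.comp_left, Over.w r]
  rfl

/-- the section of the cover given by a point -/
noncomputable def secT (q : O →ₐ[R] B) (T : Over (sB R B)) : T.left.left ⟶ ((Over.pullback (fO R O)).obj T.left).left :=
  pullback.lift (𝟙 _) (T.hom.left ≫ Spec.map (CommRingCat.ofHom q.toRingHom)) (by
    rw [Category.id_comp, Category.assoc, ← Spec.map_comp]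
    refine (Over.w T.hom).symm.trans (congrArg (T.hom.left ≫ Spec.map ·) ?_)
    exact CommRingCat.hom_ext q.comp_algebraMap.symm)

theorem secT_nat (q : O →ₐ[R] B) {T T' : Over (sB R B)} (r : T' ⟶ T) :
    r.left.left ≫ secT q T = secT q T' ≫ ((Over.pullback (fO R O)).map r.left).left := by
  refine pullback.hom_ext ?_ ?_
  · refine (Category.assoc _ _ _).trans ((congrArg (r.left.left ≫ ·) (pullback.lift_fst _ _ _)).trans ?_)
    refine Eq.trans ?_ ((congrArg (secT q T' ≫ ·) (pullback.lift_fst _ _ _).symm).trans (Category.assoc _ _ _).symm)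
    refine (Category.comp_id _).trans ?_
    exact ((Category.assoc _ _ _).symm.trans ((congrArg (· ≫ r.left.left) (pullback.lift_fst _ _ _)).trans (Category.id_comp _))).symm
  · refine (Category.assoc _ _ _).trans ((congrArg (r.left.left ≫ ·) (pullback.lift_snd _ _ _)).trans ?_)
    refine Eq.trans ?_ ((congrArg (secT q T' ≫ ·) (pullback.lift_snd _ _ _).symm).trans (Category.assoc _ _ _).symm)
    refine Eq.trans ?_ (pullback.lift_snd _ _ _).symm
    rw [← Category.assoc, ← Over.comp_left, Over.w r]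

variable (σ : O →ₐ[R] B)

/-- the section of the direct image pulled back along a point -/
noncomputable def evT (T : Over (sB R B)) (s : (Over.pullback (fO R O)).obj T.left ⟶ Red.Gm (Spec (CommRingCat.of O))) :
    (Γ(T.left.left, ⊤))ˣ :=
  Units.map (secT σ T).appTop.hom.toMonoidHom (GmPts.unitOfPt s)

theorem evT_mul (T : Over (sB R B)) (s t : (Over.pullback (fO R O)).obj T.left ⟶ Red.Gm (Spec (CommRingCat.of O))) :
    evT σ T (s * t) = evT σ T s * evT σ T t :=
  (congrArg (Units.map (secT σ T).appTop.hom.toMonoidHom) (GmPts.unitOfPt_mul s t)).trans (map_mul _ _ _)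

theorem evT_nat {T T' : Over (sB R B)} (r : T' ⟶ T)
    (s : (Over.pullback (fO R O)).obj T.left ⟶ Red.Gm (Spec (CommRingCat.of O))) :
    evT σ T' ((Over.pullback (fO R O)).map r.left ≫ s) = Units.map r.left.left.appTop.hom.toMonoidHom (evT σ T s) := Units.ext (by
  refine (congrArg (fun v => (secT σ T').appTop.hom (Units.val v))
    (GmPts.unitOfPt_comp ((Over.pullback (fO R O)).map r.left) s)).trans ?_
  exact (ConcreteCategory.congr_hom ((Scheme.Hom.comp_appTop _ _).symm.trans
    ((congrArg Scheme.Hom.appTop (secT_nat σ r).symm).trans (Scheme.Hom.comp_appTop _ _))) _))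

variable {σ} {J : Type} [Fintype J] (τ : J → (O →ₐ[R] B)) (n : J → LocallyConstant (PrimeSpectrum B) ℤ)

/-- the character of exponents -/
noncomputable def valT (T : Over (sB R B)) (s : (Over.pullback (fO R O)).obj T.left ⟶ Red.Gm (Spec (CommRingCat.of O))) :
    (Γ(T.left.left, ⊤))ˣ :=
  ∏ i, lcPow (n i) (φT T) (evT (τ i) T s)

theorem valT_mul (T : Over (sB R B)) (s t : (Over.pullback (fO R O)).obj T.left ⟶ Red.Gm (Spec (CommRingCat.of O))) :
    valT τ n T (s * t) = valT τ n T s * valT τ n T t := by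
  simp only [valT, evT_mul, map_mul, Finset.prod_mul_distrib]

theorem valT_nat {T T' : Over (sB R B)} (r : T' ⟶ T)
    (s : (Over.pullback (fO R O)).obj T.left ⟶ Red.Gm (Spec (CommRingCat.of O))) :
    valT τ n T' ((Over.pullback (fO R O)).map r.left ≫ s) = Units.map r.left.left.appTop.hom.toMonoidHom (valT τ n T s) := by
  simp only [valT, map_prod]
  exact Finset.prod_congr rfl fun i _ => by rw [evT_nat, lcPow_nat, φT_nat]

/-- the value as a section -/
noncomputable def valSect (T : Over (sB R B)) :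
    ((CGrpSh3.pushGm Scheme.fppfPrecoverage (fO R O)).over (sB R B)).obj.obj (op T) →+
      ((CGrpSh2.Gm Scheme.fppfPrecoverage (Spec (CommRingCat.of R))).over (sB R B)).obj.obj (op T) :=
  AddMonoidHom.mk' (fun s => ULift.up (Additive.ofMul (GmPts.ptOfUnit (valT τ n T
    (s.down.toMul : (Over.pullback (fO R O)).obj T.left ⟶ Red.Gm (Spec (CommRingCat.of O))))))) fun s t => by
    refine ULift.ext _ _ (Additive.toMul.injective ?_)
    exact (congrArg GmPts.ptOfUnit (valT_mul τ n T _ _)).trans (GmPts.ptOfUnit_mul _ _)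

theorem ptVal_nat {T T' : Over (sB R B)} (r : T' ⟶ T)
    (p : (Over.pullback (fO R O)).obj T.left ⟶ Red.Gm (Spec (CommRingCat.of O))) :
    (GmPts.ptOfUnit (valT τ n T' ((Over.pullback (fO R O)).map r.left ≫ p)) : T'.left ⟶ Red.Gm (Spec (CommRingCat.of R))) =
      r.left ≫ GmPts.ptOfUnit (valT τ n T p) := by
  rw [valT_nat]
  exact (GmPts.ptOfUnit_comp r.left _).symm

/-- the character with given exponents -/
noncomputable def mkCh : Ch R O B :=
  ⟨{ app := fun T => AddCommGrpCat.ofHom (valSect τ n T.unop)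
     naturality := fun T T' r => AddCommGrpCat.ext fun s => ULift.ext _ _
       (congrArg Additive.ofMul (ptVal_nat τ n r.unop s.down.toMul)) }⟩

theorem app_mkCh (g : B →ₐ[R] C) (w : (C ⊗[R] O)ˣ) :
    app (mkCh τ n) (sHom g) w = ∏ i, lcPow (n i) g.toRingHom
      (Units.map (Algebra.TensorProduct.productMap (AlgHom.id R C) (g.comp (τ i))).toRingHom.toMonoidHom w) := by
  let T : Over (sB R B) := Over.mk (sHom g)
  have hφ : (Scheme.ΓSpecIso (CommRingCat.of C)).hom.hom.comp (φT T) = g.toRingHom := by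
    show ((Scheme.ΓSpecIso _).inv ≫ (sHom g).left.appTop ≫ (Scheme.ΓSpecIso (CommRingCat.of C)).hom).hom = _
    rw [show (sHom g).left = Spec.map (CommRingCat.ofHom g.toRingHom) from rfl, Scheme.ΓSpecIso_naturality,
      Iso.inv_hom_id_assoc]
    rfl
  have hsec : ∀ i, secT (τ i) T = Spec.map (CommRingCat.ofHom
      (Algebra.TensorProduct.productMap (AlgHom.id R C) (g.comp (τ i))).toRingHom) ≫ (pbIso O C).inv := fun i => by
    refine pullback.hom_ext ?_ ?_
    · refine (pullback.lift_fst _ _ _).trans ?_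
      refine Eq.trans ?_ ((congrArg (Spec.map _ ≫ ·) (pullbackSpecIso_inv_fst R C O).symm).trans (Category.assoc _ _ _).symm)
      rw [← Spec.map_comp]
      exact (Spec.map_id (CommRingCat.of C)).symm.trans (congrArg Spec.map (CommRingCat.hom_ext (RingHom.ext fun x => by simp)))
    · refine (pullback.lift_snd _ _ _).trans ?_
      refine Eq.trans ?_ ((congrArg (Spec.map _ ≫ ·) (pullbackSpecIso_inv_snd R C O).symm).trans (Category.assoc _ _ _).symm)
      show Spec.map _ ≫ Spec.map _ = _
      rw [← Spec.map_comp, ← Spec.map_comp]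
      exact congrArg Spec.map (CommRingCat.hom_ext (RingHom.ext fun x => by simp))
  show Units.map (Scheme.ΓSpecIso (CommRingCat.of C)).hom.hom.toMonoidHom (GmPts.unitOfPt (GmPts.ptOfUnit
    (valT τ n T (GmPts.ptOfUnit (Units.map (toT O C).inv.hom.toMonoidHom w))))) = _
  rw [GmPts.unitOfPt_ptOfUnit, valT, map_prod]
  refine Finset.prod_congr rfl fun i _ => ?_
  refine (lcPow_nat (n i) (φT T) (Scheme.ΓSpecIso (CommRingCat.of C)).hom.hom _).trans ?_
  rw [hφ]
  refine congrArg (lcPow (n i) g.toRingHom) (Units.ext ?_)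
  refine (congrArg (fun v => (Scheme.ΓSpecIso (CommRingCat.of C)).hom.hom ((secT (τ i) T).appTop.hom (Units.val v)))
    (GmPts.unitOfPt_ptOfUnit _)).trans ?_
  refine ConcreteCategory.congr_hom (show (toT O C).inv ≫ (secT (τ i) T).appTop ≫
    (Scheme.ΓSpecIso (CommRingCat.of C)).hom = CommRingCat.ofHom
      (Algebra.TensorProduct.productMap (AlgHom.id R C) (g.comp (τ i))).toRingHom from ?_) (w : C ⊗[R] O)
  rw [hsec, Scheme.Hom.comp_appTop, Category.assoc, Scheme.ΓSpecIso_naturality, ← Category.assoc ((pbIso O C).inv.appTop),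
    ← Category.assoc (toT O C).inv]
  show ((toT O C).inv ≫ (toT O C).hom) ≫ _ = _
  rw [Iso.inv_hom_id, Category.id_comp]

variable [Algebra.FormallyUnramified R O] [Algebra.EssFiniteType R O]

/-- every degree function comes from a character -/
theorem exists_deg_eq (S : Splitting (R := R) B O) (t : LocallyConstant (PrimeSpectrum (B ⊗[R] O)) ℤ) :
    ∃ χ : Ch R O B, ∀ P, deg χ P = t P := by
  classical
  let n : S.ι → LocallyConstant (PrimeSpectrum B) ℤ := fun i =>
    t.comap ⟨PrimeSpectrum.comap (Algebra.TensorProduct.productMap (AlgHom.id R B) (S.σ i)).toRingHom,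
      PrimeSpectrum.continuous_comap _⟩
  refine ⟨mkCh S.σ n, fun P => ?_⟩
  obtain ⟨L, _, _, g, q, rfl⟩ := exists_kpt P
  obtain ⟨j, hj⟩ : ∃ j, q = g.comp (S.σ j) := by
    obtain ⟨j, -, hj⟩ : ∃ j ∈ (Finset.univ : Finset S.ι), Algebra.TensorProduct.productMap g q (S.e j) ≠ 0 :=
      Finset.exists_ne_zero_of_sum_ne_zero (by rw [← map_sum, S.sum_e, map_one]; exact one_ne_zero)
    refine ⟨j, AlgHom.ext fun a => mul_left_cancel₀ hj ?_⟩
    have := congrArg (Algebra.TensorProduct.productMap g q) (S.e_mul j a)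
    simpa using this
  subst hj
  have hP : kpt g (g.comp (S.σ j)) = PrimeSpectrum.comap
      (Algebra.TensorProduct.productMap (AlgHom.id R B) (S.σ j)).toRingHom ⟨RingHom.ker g.toRingHom, RingHom.ker_isPrime _⟩ := by
    refine PrimeSpectrum.ext (Ideal.ext fun x => ?_)
    have e : Algebra.TensorProduct.productMap g (g.comp (S.σ j)) =
        g.comp (Algebra.TensorProduct.productMap (AlgHom.id R B) (S.σ j)) := Algebra.TensorProduct.ext' fun a b => by simp
    show Algebra.TensorProduct.productMap g (g.comp (S.σ j)) x = 0 ↔ g (Algebra.TensorProduct.productMap (AlgHom.id R B) (S.σ j) x) = 0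
    rw [e]
    rfl
  let cL : L →ₐ[R] L[T;T⁻¹] := IsScalarTower.toAlgHom R L L[T;T⁻¹]
  have hv : app (mkCh S.σ n) (sHom (cL.comp g)) (wit ((cL.comp g).comp (S.σ j)) (LaurentDeg.unitT L)) =
      LaurentDeg.unitT L ^ n j ⟨RingHom.ker g.toRingHom, RingHom.ker_isPrime _⟩ := by
    rw [app_mkCh, Finset.prod_eq_single j]
    · erw [(S.map (cL.comp g)).τ_wit j j]
      rw [if_pos rfl, lcPow_domain]
      exact congrArg (LaurentDeg.unitT L ^ n j ·) (PrimeSpectrum.ext (Ideal.ext fun x =>
        map_eq_zero_iff cL (FaithfulSMul.algebraMap_injective L L[T;T⁻¹])))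
    · intro i _ hij
      erw [(S.map (cL.comp g)).τ_wit j i]
      erw [if_neg (Ne.symm hij)]
      exact map_one _
    · intro h
      exact absurd (Finset.mem_univ j) h
  have key : eval₂ (Algebra.TensorProduct.productMap (cL.comp g) ((cL.comp g).comp (S.σ j))).toRingHom (LaurentDeg.unitT L)
      (uC (mkCh S.σ n) : (Dd (R := R) O B)[T;T⁻¹]) = T (n j ⟨RingHom.ker g.toRingHom, RingHom.ker_isPrime _⟩) := by
    rw [← app_wit, hv, ← eval₂_T (RingHom.id L |> fun r => (LaurentPolynomial.C : L →+* L[T;T⁻¹]).comp r) (LaurentDeg.unitT L),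
      eval₂_C_comp, LaurentDeg.lmap_T]
  rw [show (Algebra.TensorProduct.productMap (cL.comp g) ((cL.comp g).comp (S.σ j))).toRingHom =
    (LaurentPolynomial.C : L →+* L[T;T⁻¹]).comp (Algebra.TensorProduct.productMap g (g.comp (S.σ j))).toRingHom from
      RingHom.ext fun x => by
        show Algebra.TensorProduct.productMap _ _ x = cL (Algebra.TensorProduct.productMap g (g.comp (S.σ j)) x)
        rw [← AlgHom.comp_apply, show cL.comp (Algebra.TensorProduct.productMap g (g.comp (S.σ j))) =
          Algebra.TensorProduct.productMap (cL.comp g) ((cL.comp g).comp (S.σ j)) from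
            Algebra.TensorProduct.ext' fun a b => by simp],
    eval₂_C_comp] at key
  have hc := congrArg (fun z : L[T;T⁻¹] => z.coeff (n j ⟨RingHom.ker g.toRingHom, RingHom.ker_isPrime _⟩)) key
  rw [LaurentDeg.coeff_lmap, T_apply, if_pos rfl] at hc
  have hd : deg (mkCh S.σ n) (kpt g (g.comp (S.σ j))) = n j ⟨RingHom.ker g.toRingHom, RingHom.ker_isPrime _⟩ :=
    (LaurentDeg.deg_eq_iff (uC (mkCh S.σ n)) _ _).2 fun hm => one_ne_zero (hc.symm.trans hm)
  rw [hd]
  show t _ = t _
  rw [hP]
  rfl

end Groth.Agent.GalEt.DualPush
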