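import Groth.Agent.GalEt.H1Desc
import Groth.Agent.GalEt.DualPushSurj
import Groth.Agent.GalEt.CocycleTensor
import Mathlib.RingTheory.TotallySplit

/-!
# The first cohomology of the dual of a Weil restriction of the multiplicative group vanishes
-/

set_option autoImplicit false
set_option maxHeartbeats 1000000
set_option linter.style.haveILetI false
set_option linter.unusedSectionVars false
set_option backward.isDefEq.respectTransparency.types false

universe u

open CategoryTheory CategoryTheory.Limits AlgebraicGeometry Opposite TensorProduct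

namespace Groth.Agent.GalEt.DualH1

open Groth.Agent.AdeqFound Adeq2Lib.CechAffine Adeq2Lib.CechSingle Adeq2Lib.AffVan DualPush H1Cech

variable {R O A : Type u} [CommRing R] [CommRing O] [Algebra R O] [CommRing A] [Algebra R A]


theorem exists_splitting_self (T : Type u) [CommRing T] [Algebra R T] [Algebra.IsFiniteSplit T (T ⊗[R] O)] :
    Nonempty (DualPush.Splitting (R := R) T O) := by
  classical
  obtain ⟨n, ⟨e⟩⟩ := Algebra.IsFiniteSplit.nonempty_algEquiv_fun T (T ⊗[R] O)
  let σ : Fin n → (O →ₐ[R] T) := fun i =>
    (((Pi.evalAlgHom T (fun _ : Fin n => T) i).comp e.toAlgHom).restrictScalars R).comp Algebra.TensorProduct.includeRight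
  have hσ : ∀ i (y : T ⊗[R] O), Algebra.TensorProduct.productMap (AlgHom.id R T) (σ i) y = e y i := by
    intro i y
    induction y with
    | zero => simp
    | add x y hx hy => simp [hx, hy]
    | tmul t o =>
      rw [Algebra.TensorProduct.productMap_apply_tmul]
      show t * e (1 ⊗ₜ o) i = _
      rw [← smul_eq_mul, ← Pi.smul_apply, ← map_smul, TensorProduct.smul_tmul', smul_eq_mul, mul_one]
  refine ⟨{ ι := Fin n, σ := σ, e := fun i => e.symm (Pi.single i 1), sum_e := ?_, τ_e := ?_, e_mul := ?_ }⟩
  · rw [← map_sum, Finset.univ_sum_single]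
    exact map_one _
  · intro i j
    rw [hσ, AlgEquiv.apply_symm_apply]
    simp [Pi.single_apply, eq_comm]
  · intro i a
    refine e.injective (funext fun j => ?_)
    rw [map_mul, map_mul, AlgEquiv.apply_symm_apply]
    simp only [Pi.mul_apply, ← hσ, Algebra.TensorProduct.productMap_apply_tmul, AlgHom.id_apply, map_one, one_mul, mul_one]
    by_cases h : j = i
    · subst h; rfl
    · simp [Pi.single_eq_of_ne h]

theorem exists_splitting [Algebra.Etale R O] [Module.Finite R O] (hrank : ∃ n : ℕ, Module.rankAtStalk (R := R) O = n) :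
    ∃ (T : Type u) (_ : CommRing T) (_ : Algebra R T) (_ : Module.FaithfullyFlat R T) (_ : Algebra.FinitePresentation R T),
      Nonempty (DualPush.Splitting (R := R) T O) := by
  obtain ⟨n, hn⟩ := hrank
  obtain ⟨T, _, _, hff, _, _, hs⟩ := Algebra.IsFiniteSplit.exists_tensorProduct_of_etale (R := R) (S := O) hn
  exact ⟨T, inferInstance, inferInstance, hff, inferInstance, exists_splitting_self T⟩

variable [Algebra.FormallyUnramified R O] [Algebra.EssFiniteType R O] [Module.Finite R O]

/-- integer cocycles give descent for the dual on split coverings -/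
theorem desc_dual (hA : CocycleHyp.Good A)
    (B : Type u) [CommRing B] [Algebra R B] [Algebra A B] [IsScalarTower R A B] [Module.FaithfullyFlat A B]
    [Algebra.FinitePresentation A B] (S : DualPush.Splitting (R := R) B O) :
    H1Desc.Desc A (Fd R O).obj B := by
  intro X' h3
  have hd : ∀ (L : Type u) [Field L] [Algebra R L] [Algebra A L] [IsScalarTower R A L] (f g k : B →ₐ[A] L) (q : O →ₐ[R] L),
      deg (X' : Ch R O (B ⊗[A] B)) (kpt ((Algebra.TensorProduct.productMap f k).restrictScalars R) q) =
        deg (X' : Ch R O (B ⊗[A] B)) (kpt ((Algebra.TensorProduct.productMap f g).restrictScalars R) q) +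
          deg (X' : Ch R O (B ⊗[A] B)) (kpt ((Algebra.TensorProduct.productMap g k).restrictScalars R) q) := by
    intro L _ _ _ _ f g k q
    have h4 := congrArg (fun χ : Ch R O L => deg χ (kpt (AlgHom.id R L) q)) (h3 L f g k)
    simp only [deg_add, deg_res, comap_kpt, AlgHom.id_comp] at h4
    linarith [h4]
  obtain ⟨t, ht⟩ := CocycleTensor.exists_coboundary R O A B hA (deg X') hd
  obtain ⟨χ, hχ⟩ := exists_deg_eq S t
  refine ⟨χ, ?_⟩
  refine (sub_eq_zero.1 (DualPush.eq_zero_of_deg_eq_zero
    (S.map ((Algebra.TensorProduct.includeLeft : B →ₐ[A] B ⊗[A] B).restrictScalars R)) fun z => ?_)).symm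
  obtain ⟨L, _, _, h, q, rfl⟩ := exists_kpt z
  have hsub : ∀ (a b : Ch R O (B ⊗[A] B)), deg (a - b) (kpt h q) = deg a (kpt h q) - deg b (kpt h q) := fun a b => by
    have := deg_add (a - b) b (kpt h q)
    rw [sub_add_cancel] at this
    linarith
  rw [hsub, deg_add, deg_res, deg_res, comap_kpt, comap_kpt, hχ, hχ]
  have := ht L h q
  linarith [show deg X' (kpt h q) = t (kpt (h.comp ((Algebra.TensorProduct.includeLeft : B →ₐ[A] B ⊗[A] B).restrictScalars R)) q) -
    t (kpt (h.comp ((Algebra.TensorProduct.includeRight : B →ₐ[A] B ⊗[A] B).restrictScalars R)) q) from this]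

/-- the first cohomology of the dual over an affine object vanishes -/
theorem subsingleton_HU_dual (hA : CocycleHyp.Good A)
    (T : Type u) [CommRing T] [Algebra R T] [Module.FaithfullyFlat R T] [Algebra.FinitePresentation R T]
    (S : DualPush.Splitting (R := R) T O) :
    Subsingleton (BigSite.HU Scheme.fppfPrecoverage (Fd R O) 1 (sB R A)) :=
  H1Desc.subsingleton_HU_of_desc A (Fd R O) T fun B _ _ _ _ _ _ ρ => desc_dual hA B (S.map ρ)

/-- the first cohomology of the dual over the base vanishes -/
theorem subsingleton_H_dual (hR : CocycleHyp.Good R)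
    (T : Type u) [CommRing T] [Algebra R T] [Module.FaithfullyFlat R T] [Algebra.FinitePresentation R T]
    (S : DualPush.Splitting (R := R) T O) :
    Subsingleton (BigSite.H Scheme.fppfPrecoverage (Spec (CommRingCat.of R)) (Fd R O) 1) :=
  H1Desc.subsingleton_H_base_of_desc (Fd R O) T fun B _ _ _ _ ρ => desc_dual (A := R) hR B (S.map ρ)

end Groth.Agent.GalEt.DualH1
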