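import Mathlib.Topology.Algebra.Valued.ValuedField
import Mathlib.RingTheory.Valuation.ValuationSubring
import Mathlib.RingTheory.Henselian
import Mathlib.Algebra.Polynomial.Derivative
import Mathlib.RingTheory.Polynomial.Basic
import Mathlib.Topology.Algebra.Polynomial

/-!
# Complete valuation rings of rank one are henselian
-/

universe u v

open Filter Topology

namespace Groth.Agent.GalEt.OvHensel

variable (F : Type u) [Field F] [Valued F (WithZero (Multiplicative ℤ))]

theorem exists_ball_subset {s : Set (F)} (hs : s ∈ 𝓝 (0 : F)) :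
    ∃ m : ℤ, {x : F | Valued.v x < WithZero.exp m} ⊆ s := by
  obtain ⟨γ, hγ⟩ := Valued.mem_nhds_zero.1 hs
  have h0 : MonoidWithZeroHom.ValueGroup₀.embedding
      (γ : MonoidWithZeroHom.ValueGroup₀ (.ofClass (Valued.v (R := F)))) ≠ 0 :=
    (map_ne_zero _).2 γ.ne_zero
  obtain ⟨m, hm⟩ := WithZero.ne_zero_iff_exists.1 h0
  refine ⟨Multiplicative.toAdd m, fun x hx => hγ ?_⟩
  simp only [Set.mem_setOf_eq, Valuation.restrict_lt_iff_lt_embedding] at hx ⊢
  rw [← hm]
  exact hx

/-- A simple root modulo the maximal ideal lifts to a root. -/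
theorem exists_root [CompleteSpace F] (P : Polynomial (F))
    (hP : ∀ i, Valued.v (P.coeff i) ≤ 1) (c : F) (hc : Valued.v c ≤ 1)
    (h0 : Valued.v (P.eval c) < 1) (h1 : Valued.v (P.derivative.eval c) = 1) :
    ∃ r : F, P.IsRoot r ∧ Valued.v (r - c) < 1 := by
  classical
  let O := (Valued.v : Valuation F (WithZero (Multiplicative ℤ))).valuationSubring
  obtain ⟨Q, hQ⟩ : ∃ Q : Polynomial O, Q.map O.subtype = P := by
    refine (Polynomial.mem_lifts _).1 ((Polynomial.lifts_iff_coeff_lifts _).2 fun i => ?_)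
    exact ⟨⟨P.coeff i, hP i⟩, rfl⟩
  let c₀ : O := ⟨c, hc⟩
  have hev : ∀ (S : Polynomial O) (x : O), ((S.eval x : O) : F) =
      (S.map O.subtype).eval (x : F) := fun S x => by
    rw [Polynomial.eval_map]
    exact (Polynomial.eval₂_at_apply O.subtype x).symm
  have hQc : ((Q.eval c₀ : O) : F) = P.eval c := by rw [hev, hQ]
  have hQ'c : ((Q.derivative.eval c₀ : O) : F) = P.derivative.eval c := by
    rw [hev, ← Polynomial.derivative_map, hQ]
  have hne : P.derivative.eval c ≠ 0 := fun h => by rw [h, map_zero] at h1; exact zero_ne_one h1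
  let w : O := ⟨(P.derivative.eval c)⁻¹, by
    show Valued.v ((P.derivative.eval c)⁻¹) ≤ 1
    rw [map_inv₀, h1, inv_one]⟩
  have hw : w * Q.derivative.eval c₀ = 1 := by
    apply Subtype.ext
    show (P.derivative.eval c)⁻¹ * ((Q.derivative.eval c₀ : O) : F) = 1
    rw [hQ'c, inv_mul_cancel₀ hne]
  let ε := Q.eval c₀
  let step : O → O := fun x => x - w * Q.eval x
  let r : ℕ → O := fun n => step^[n] c₀
  have hr : ∀ n, r (n + 1) = r n - w * Q.eval (r n) := fun n => by
    show step^[n + 1] c₀ = _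
    rw [Function.iterate_succ_apply']
  have key : ∀ n, ε ∣ r n - c₀ ∧ ε ^ (n + 1) ∣ Q.eval (r n) := by
    intro n
    induction n with
    | zero => exact ⟨by simp [r], by simp [r, ε]⟩
    | succ n ih =>
      obtain ⟨hd, hp⟩ := ih
      obtain ⟨s, hs⟩ := hp
      refine ⟨?_, ?_⟩
      · rw [hr, sub_right_comm]
        refine dvd_sub hd (Dvd.intro (w * s * ε ^ n) ?_)
        rw [hs]; ring
      · rw [hr, sub_eq_add_neg]
        obtain ⟨k', hk'⟩ := Q.binomExpansion (r n) (-(w * Q.eval (r n)))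
        obtain ⟨t, ht⟩ : ε ∣ Q.derivative.eval c₀ - Q.derivative.eval (r n) :=
          (dvd_sub_comm.1 hd).trans (Polynomial.sub_dvd_eval_sub _ _ _)
        rw [hk']
        refine Dvd.intro (w * t * s + k' * w ^ 2 * s ^ 2 * ε ^ n) ?_
        have h2 : Q.derivative.eval (r n) = Q.derivative.eval c₀ - ε * t := by rw [← ht]; ring
        rw [h2, hs]
        linear_combination (ε ^ (n + 1) * s) * hw
  -- the sizes
  have hle : ∀ x : O, Valued.v (x : F) ≤ 1 := fun x => x.2
  have hdvd : ∀ {x y : O}, x ∣ y → Valued.v (y : F) ≤ Valued.v (x : F) := by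
    rintro x y ⟨z, rfl⟩
    rw [show ((x * z : O) : F) = x * z from rfl, map_mul]
    exact mul_le_of_le_one_right' (hle z)
  have hε : Valued.v (ε : F) < 1 := by rw [hQc]; exact h0
  have hpow : ∀ m : ℤ, ∃ N : ℕ, ∀ n ≥ N, Valued.v (ε : F) ^ (n + 1) < WithZero.exp m := by
    intro m
    refine ⟨m.natAbs, fun n hn => ?_⟩
    rcases eq_or_ne (Valued.v (ε : F)) 0 with h | h
    · rw [h, zero_pow n.succ_ne_zero]; exact WithZero.exp_pos
    · obtain ⟨e, he⟩ := WithZero.ne_zero_iff_exists.1 h
      rw [← he] at hε ⊢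
      change WithZero.exp (Multiplicative.toAdd e) ^ (n + 1) < WithZero.exp m
      have he1 : Multiplicative.toAdd e < 0 := by
        rw [← WithZero.exp_lt_exp, WithZero.exp_zero]; exact hε
      rw [← WithZero.exp_nsmul, WithZero.exp_lt_exp, nsmul_eq_mul]
      push_cast
      have : (m.natAbs : ℤ) ≤ n := by exact_mod_cast hn
      have h3 : ((n : ℤ) + 1) * Multiplicative.toAdd e ≤ ((n : ℤ) + 1) * (-1) :=
        mul_le_mul_of_nonneg_left (by omega) (by omega)
      have := Int.natAbs_neg m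
      omega
  have hsmall : ∀ n k, Valued.v ((r (n + k) : F) - r n) ≤
      Valued.v (ε : F) ^ (n + 1) := by
    intro n k
    induction k with
    | zero => simp
    | succ k ih =>
      rw [← add_assoc, show ((r (n + k + 1) : F) - r n) =
        ((r (n + k + 1) : F) - r (n + k)) + (r (n + k) - r n) by ring]
      refine (Valued.v.map_add _ _).trans (max_le ?_ ih)
      rw [hr, show ((r (n + k) - w * Q.eval (r (n + k)) : O) : F) - r (n + k) =
        -((w * Q.eval (r (n + k)) : O) : F) by push_cast; ring, Valuation.map_neg]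
      refine (hdvd ((key (n + k)).2.trans (dvd_mul_left _ _))).trans ?_
      rw [show ((ε ^ (n + k + 1) : O) : F) = (ε : F) ^ (n + k + 1) from rfl,
        map_pow]
      exact pow_le_pow_right_of_le_one' (le_of_lt hε) (by omega)
  have hcauchy : CauchySeq fun n => (r n : F) := by
    rw [cauchySeq_iff_tendsto, uniformity_eq_comap_nhds_zero, tendsto_comap_iff, tendsto_def]
    intro s hs
    obtain ⟨m, hm⟩ := exists_ball_subset F hs
    obtain ⟨N, hN⟩ := hpow m
    refine Filter.mem_atTop_sets.2 ⟨(N, N), fun p hp => hm ?_⟩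
    obtain ⟨a, b⟩ := p
    obtain ⟨ha, hb⟩ := Prod.mk_le_mk.1 hp
    simp only [Set.mem_setOf_eq, Function.comp_apply, Prod.map]
    rcases le_total a b with h | h
    · obtain ⟨k, rfl⟩ := Nat.exists_eq_add_of_le h
      exact (hsmall a k).trans_lt (hN a ha)
    · obtain ⟨k, rfl⟩ := Nat.exists_eq_add_of_le h
      rw [Valuation.map_sub_swap]
      exact (hsmall b k).trans_lt (hN b hb)
  obtain ⟨L, hL⟩ := cauchySeq_tendsto_of_complete hcauchy
  refine ⟨L, ?_, ?_⟩
  swap
  · have hb : {x : F | Valued.v (x - L) < 1} ∈ 𝓝 L := by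
      refine Valued.mem_nhds.2 ⟨1, fun x hx => ?_⟩
      simpa [Valuation.restrict_lt_iff_lt_embedding] using hx
    obtain ⟨n, hn⟩ := ((hL.eventually hb).and (Filter.eventually_ge_atTop 0)).exists
    rw [show L - c = -((r n : F) - L) + ((r n : F) - c) by ring]
    refine (Valued.v.map_add _ _).trans_lt (max_lt ?_ ?_)
    · rw [Valuation.map_neg]; exact hn.1
    · exact (hdvd (key n).1).trans_lt hε
  have h2 : Tendsto (fun n => P.eval (r n : F)) atTop (𝓝 0) := by
    rw [tendsto_def]
    intro s hs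
    obtain ⟨m, hm⟩ := exists_ball_subset F hs
    obtain ⟨N, hN⟩ := hpow m
    refine Filter.mem_atTop_sets.2 ⟨N, fun n hn => hm ?_⟩
    show Valued.v (P.eval (r n : F)) < _
    rw [← hQ, ← hev]
    refine (hdvd (key n).2).trans_lt ?_
    rw [show ((ε ^ (n + 1) : O) : F) = (ε : F) ^ (n + 1) from rfl,
      map_pow]
    exact hN n hn
  exact tendsto_nhds_unique ((P.continuous.tendsto L).comp hL) h2

theorem henselianLocalRing [CompleteSpace F] :
    HenselianLocalRing ((Valued.v : Valuation F (WithZero (Multiplicative ℤ))).valuationSubring) := by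
  let O := (Valued.v : Valuation F (WithZero (Multiplicative ℤ))).valuationSubring
  have hu : ∀ x : O, IsUnit x ↔ Valued.v (x : F) = 1 := fun x =>
    (Valuation.integer.integers (Valued.v : Valuation F (WithZero (Multiplicative ℤ)))).isUnit_iff_valuation_eq_one
  have hm : ∀ x : O, x ∈ IsLocalRing.maximalIdeal O ↔ Valued.v (x : F) < 1 := fun x => by
    rw [IsLocalRing.mem_maximalIdeal, mem_nonunits_iff, hu]
    exact ⟨fun h => lt_of_le_of_ne x.2 h, ne_of_lt⟩
  refine { is_henselian := fun f hf a₀ h0 h1 => ?_ }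
  have hev : ∀ (S : Polynomial O) (x : O), ((S.eval x : O) : F) = (S.map O.subtype).eval (x : F) := fun S x => by
    rw [Polynomial.eval_map]
    exact (Polynomial.eval₂_at_apply O.subtype x).symm
  rw [hm, hev] at h0
  rw [hu, hev, ← Polynomial.derivative_map] at h1
  obtain ⟨r, hr, hrc⟩ := exists_root F (f.map O.subtype) (fun i => by rw [Polynomial.coeff_map]; exact (f.coeff i).2)
    a₀ a₀.2 h0 h1
  have hrO : Valued.v r ≤ 1 := by
    rw [show r = (r - a₀) + a₀ by ring]
    exact (Valued.v.map_add _ _).trans (max_le hrc.le a₀.2)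
  refine ⟨⟨r, hrO⟩, Subtype.ext ?_, (hm _).2 hrc⟩
  rw [hev]
  exact hr

end Groth.Agent.GalEt.OvHensel
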