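import Groth.Agent.GalEt.DualH1
import Groth.Agent.GalEt.OvHensel
import Groth.Prelude.Def_AdFn
import Mathlib.AlgebraicGeometry.Morphisms.Etale
import Mathlib.AlgebraicGeometry.Morphisms.Finite
import Mathlib.RingTheory.Flat.Stability
import Mathlib.RingTheory.Spectrum.Prime.FreeLocus
import Mathlib.RingTheory.Etale.Field
import Mathlib.RingTheory.Finiteness.ModuleFinitePresentation
import Mathlib.RingTheory.RingHom.Etale

/-!
# The bases of the statements on duals of Weil restrictions
-/

set_option autoImplicit false
set_option linter.style.haveILetI false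
set_option backward.isDefEq.respectTransparency.types false

universe u

open CategoryTheory AlgebraicGeometry TensorProduct

namespace Groth.Agent.GalEt.DualH1

theorem exists_rank (R O : Type u) [CommRing R] [IsDomain R] [CommRing O] [Algebra R O] [Algebra.Etale R O]
    [Module.Finite R O] : ∃ n : ℕ, Module.rankAtStalk (R := R) O = n := by
  haveI : Module.FinitePresentation R O := Module.FinitePresentation.of_finite_of_finitePresentation R O
  haveI : Module.Flat R O := inferInstance
  obtain ⟨n, hn⟩ := (Module.isLocallyConstant_rankAtStalk (R := R) (M := O)).exists_eq_const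
  exact ⟨n, by rw [hn]; rfl⟩

theorem etale_of_hom (R O : Type u) [CommRing R] [CommRing O] [Algebra R O]
    [IsFinite (Spec.map (CommRingCat.ofHom (algebraMap R O)))] [Etale (Spec.map (CommRingCat.ofHom (algebraMap R O)))] :
    Algebra.Etale R O ∧ Module.Finite R O := by
  refine ⟨RingHom.etale_algebraMap.1 ((HasRingHomProperty.Spec_iff (P := @Etale) (φ := CommRingCat.ofHom (algebraMap R O))).1 inferInstance), ?_⟩
  exact RingHom.finite_algebraMap.1 ((IsFinite.SpecMap_iff (f := CommRingCat.ofHom (algebraMap R O))).1 inferInstance)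

theorem subsingleton_HU (R O A : Type u) [CommRing R] [IsDomain R] [CommRing O] [Algebra R O] [CommRing A]
    [IsFinite (Spec.map (CommRingCat.ofHom (algebraMap R O)))] [Etale (Spec.map (CommRingCat.ofHom (algebraMap R O)))]
    (φ : R →+* A) (hA : CocycleHyp.Good A) :
    Subsingleton (BigSite.HU Scheme.fppfPrecoverage (CGrpSh2.dualSh Scheme.fppfPrecoverage
      (CGrpSh3.pushGm Scheme.fppfPrecoverage (Spec.map (CommRingCat.ofHom (algebraMap R O))))) 1 (AdFn.specOf φ)) := by
  letI : Algebra R A := φ.toAlgebra
  obtain ⟨he, hf⟩ := etale_of_hom R O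
  obtain ⟨T, _, _, _, _, ⟨S⟩⟩ := exists_splitting (R := R) (O := O) (exists_rank R O)
  exact subsingleton_HU_dual (R := R) (O := O) (A := A) hA T S

variable {k K : Type u} [Field k] [Field K] [Algebra k K]

theorem good_Ov (v : FunFld.Place k K) : CocycleHyp.Good (AdFn.Ov v) := by
  haveI : HenselianLocalRing (AdFn.Ov v) := OvHensel.henselianLocalRing (AdFn.Kv v)
  exact CocycleHyp.good_of_henselian_valuationRing (AdFn.Ov v)

theorem good_OHat (S : Set (FunFld.Place k K)) : CocycleHyp.Good (AdFn.OHat S) := by
  haveI : ∀ w : {w : FunFld.Place k K // w ∉ S}, HenselianLocalRing (AdFn.Ov w.1) := fun w =>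
    OvHensel.henselianLocalRing (AdFn.Kv w.1)
  exact CocycleHyp.good_pi fun w : {w : FunFld.Place k K // w ∉ S} => (AdFn.Ov w.1)

end Groth.Agent.GalEt.DualH1
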