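import Groth.Agent.GalEt.PtsPush

/-!
# The degree function of a character of the Weil restriction of the multiplicative group
-/

set_option autoImplicit false
set_option maxHeartbeats 1000000
set_option linter.style.haveILetI false
set_option backward.isDefEq.respectTransparency.types false

universe u

open CategoryTheory CategoryTheory.Limits AlgebraicGeometry Opposite TensorProduct LaurentPolynomial

namespace Groth.Agent.GalEt.DualPush

/-- the power by an idempotent -/
noncomputable def pw {M : Type u} [CommRing M] (e : M) (he : IsIdempotentElem e) : Mˣ →* Mˣ where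
  toFun x := ⟨e * x + (1 - e), e * ((x⁻¹ : Mˣ) : M) + (1 - e), by
    linear_combination (((x : M) - 1) * (((x⁻¹ : Mˣ) : M) - 1)) * he.eq + e * x.mul_inv, by
    linear_combination (((x : M) - 1) * (((x⁻¹ : Mˣ) : M) - 1)) * he.eq + e * x.mul_inv⟩
  map_one' := Units.ext (by simp)
  map_mul' x y := Units.ext (by
    simp only [Units.val_mul]
    linear_combination (-(((x : M) - 1) * ((y : M) - 1))) * he.eq)

theorem val_pw {M : Type u} [CommRing M] (e : M) (he : IsIdempotentElem e) (x : Mˣ) :
    (pw e he x : M) = e * x + (1 - e) := rfl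

theorem pw_nat {M N : Type u} [CommRing M] [CommRing N] (φ : M →+* N) (e : M) (he : IsIdempotentElem e) (x : Mˣ) :
    Units.map φ.toMonoidHom (pw e he x) = pw (φ e) (he.map φ) (Units.map φ.toMonoidHom x) :=
  Units.ext (by simp [val_pw])

variable {R : Type u} [CommRing R] (O : Type u) [CommRing O] [Algebra R O]
  [Algebra.FormallyUnramified R O] [Algebra.EssFiniteType R O]

theorem mul_elem (t : O ⊗[R] O) : t * Algebra.FormallyUnramified.elem R O =
    Algebra.TensorProduct.lmul' R t ⊗ₜ 1 * Algebra.FormallyUnramified.elem R O := by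
  induction t with
  | zero => simp
  | add x y hx hy => rw [add_mul, map_add, add_tmul, add_mul, hx, hy]
  | tmul a b =>
    have h : (1 : O) ⊗ₜ[R] b * Algebra.FormallyUnramified.elem R O = b ⊗ₜ 1 * Algebra.FormallyUnramified.elem R O :=
      sub_eq_zero.1 ((sub_mul _ _ _).symm.trans (Algebra.FormallyUnramified.one_tmul_sub_tmul_one_mul_elem b))
    rw [show (a : O) ⊗ₜ[R] b = a ⊗ₜ 1 * 1 ⊗ₜ b by simp, mul_assoc, h, ← mul_assoc]
    simp

theorem isIdempotentElem_elem : IsIdempotentElem (Algebra.FormallyUnramified.elem R O) :=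
  (mul_elem O _).trans (by rw [Algebra.FormallyUnramified.lmul_elem]; exact one_mul _)

variable {O} {B C C' : Type u} [CommRing B] [CommRing C] [CommRing C'] [Algebra R B] [Algebra R C] [Algebra R C']

/-- the idempotent of a point -/
noncomputable def eps (q : O →ₐ[R] C) : C ⊗[R] O := tmap O q (Algebra.FormallyUnramified.elem R O)

theorem isIdempotentElem_eps (q : O →ₐ[R] C) : IsIdempotentElem (eps q) :=
  (isIdempotentElem_elem O).map (tmap O q)

theorem eps_mul_tmul (q : O →ₐ[R] C) (a : O) : eps q * (1 ⊗ₜ a) = eps q * (q a ⊗ₜ 1) := by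
  have h := congrArg (tmap O q) (sub_eq_zero.1 ((sub_mul _ _ _).symm.trans
    (Algebra.FormallyUnramified.one_tmul_sub_tmul_one_mul_elem (R := R) a)))
  simp only [map_mul, tmap, Algebra.TensorProduct.map_tmul, map_one, AlgHom.id_apply] at h
  rw [mul_comm, eps, mul_comm (tmap O q (Algebra.FormallyUnramified.elem R O))]
  exact h

/-- the unit of a point and a scalar -/
noncomputable def wit (q : O →ₐ[R] C) : Cˣ →* (C ⊗[R] O)ˣ :=
  (pw (eps q) (isIdempotentElem_eps q)).comp
    (Units.map (Algebra.TensorProduct.includeLeftRingHom : C →+* C ⊗[R] O).toMonoidHom)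

theorem wit_nat (q : O →ₐ[R] C) (h : C →ₐ[R] C') (x : Cˣ) :
    Units.map (tmap O h).toRingHom.toMonoidHom (wit q x) = wit (h.comp q) (Units.map h.toRingHom.toMonoidHom x) := by
  refine Units.ext ?_
  have e : tmap O h (eps q) = eps (h.comp q) := by
    show tmap O h (tmap O q _) = tmap O (h.comp q) _
    rw [← AlgHom.comp_apply]
    exact AlgHom.congr_fun (Algebra.TensorProduct.ext' fun a b => by simp) _
  show tmap O h (eps q * (x : C) ⊗ₜ 1 + (1 - eps q)) = eps (h.comp q) * (h x) ⊗ₜ 1 + (1 - eps (h.comp q))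
  rw [map_add, map_mul, map_sub, map_one, e, Algebra.TensorProduct.map_tmul]
  simp

variable (B O) in
/-- the coefficient ring of the universal point -/
abbrev Dd : Type u := B ⊗[R] O

variable (B O) in
/-- the universal structure map -/
noncomputable def ι₀ : B →ₐ[R] (Dd (R := R) O B)[T;T⁻¹] :=
  (IsScalarTower.toAlgHom R (Dd (R := R) O B) (Dd (R := R) O B)[T;T⁻¹]).comp Algebra.TensorProduct.includeLeft

variable (B O) in
/-- the universal point -/
noncomputable def q₀ : O →ₐ[R] (Dd (R := R) O B)[T;T⁻¹] :=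
  (IsScalarTower.toAlgHom R (Dd (R := R) O B) (Dd (R := R) O B)[T;T⁻¹]).comp Algebra.TensorProduct.includeRight

/-- the unit of a character -/
noncomputable def uC (χ : Ch R O B) : ((Dd (R := R) O B)[T;T⁻¹])ˣ :=
  app χ (sHom (ι₀ O B)) (wit (q₀ O B) (LaurentDeg.unitT _))

/-- evaluation of Laurent polynomials as a map of algebras -/
noncomputable def evalAlg {D : Type u} [CommRing D] [Algebra R D] (φ : D →ₐ[R] C) (x : Cˣ) : D[T;T⁻¹] →ₐ[R] C :=
  { eval₂ φ.toRingHom x with
    commutes' := fun r => by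
      show eval₂ φ.toRingHom x (algebraMap R D[T;T⁻¹] r) = _
      rw [LaurentPolynomial.algebraMap_apply, eval₂_C]
      exact φ.commutes r }

theorem evalAlg_C {D : Type u} [CommRing D] [Algebra R D] (φ : D →ₐ[R] C) (x : Cˣ) (d : D) :
    evalAlg φ x (LaurentPolynomial.C d) = φ d := eval₂_C φ.toRingHom x d

theorem evalAlg_T {D : Type u} [CommRing D] [Algebra R D] (φ : D →ₐ[R] C) (x : Cˣ) :
    evalAlg φ x (T 1) = (x : C) := by
  show eval₂ φ.toRingHom x (T 1) = _
  rw [eval₂_T, zpow_one]

omit [Algebra.FormallyUnramified R O] [Algebra.EssFiniteType R O] in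
theorem ι₀_apply (b : B) : ι₀ O B b = LaurentPolynomial.C (b ⊗ₜ[R] (1 : O)) := rfl

omit [Algebra.FormallyUnramified R O] [Algebra.EssFiniteType R O] in
theorem q₀_apply (a : O) : q₀ O B a = LaurentPolynomial.C ((1 : B) ⊗ₜ[R] a) := rfl

theorem app_wit (χ : Ch R O B) (g : B →ₐ[R] C) (q : O →ₐ[R] C) (x : Cˣ) :
    (app χ (sHom g) (wit q x) : C) =
      eval₂ (Algebra.TensorProduct.productMap g q).toRingHom x (uC χ : (Dd (R := R) O B)[T;T⁻¹]) := by
  let h := evalAlg (Algebra.TensorProduct.productMap g q) x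
  have hg : h.comp (ι₀ O B) = g := AlgHom.ext fun b =>
    ((congrArg h (ι₀_apply b)).trans (evalAlg_C _ x _)).trans
      ((Algebra.TensorProduct.productMap_apply_tmul g q b 1).trans (by rw [map_one, mul_one]))
  have hq : h.comp (q₀ O B) = q := AlgHom.ext fun b =>
    ((congrArg h (q₀_apply b)).trans (evalAlg_C _ x _)).trans
      ((Algebra.TensorProduct.productMap_apply_tmul g q 1 b).trans (by rw [map_one, one_mul]))
  have hx : Units.map h.toRingHom.toMonoidHom (LaurentDeg.unitT _) = x := Units.ext (evalAlg_T _ x)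
  have key := app_nat χ (sHom (ι₀ O B)) h (wit (q₀ O B) (LaurentDeg.unitT _))
  rw [wit_nat, hq, hx, ← sHom_comp, hg] at key
  exact congrArg Units.val key

theorem uC_grouplike (χ : Ch R O B) {E : Type u} [CommRing E] (φ : Dd (R := R) O B →+* E) (x y : Eˣ) :
    eval₂ φ x (uC χ : (Dd (R := R) O B)[T;T⁻¹]) * eval₂ φ y (uC χ : (Dd (R := R) O B)[T;T⁻¹]) =
      eval₂ φ (x * y) (uC χ : (Dd (R := R) O B)[T;T⁻¹]) := by
  letI : Algebra R E := (φ.comp (algebraMap R (Dd (R := R) O B))).toAlgebra
  let φ' : Dd (R := R) O B →ₐ[R] E := { φ with commutes' := fun _ => rfl }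
  have e : (Algebra.TensorProduct.productMap (φ'.comp Algebra.TensorProduct.includeLeft)
      (φ'.comp Algebra.TensorProduct.includeRight)) = φ' := Algebra.TensorProduct.ext' fun a b => by simp [← map_mul]
  have h : ∀ z : Eˣ, (app χ (sHom (φ'.comp Algebra.TensorProduct.includeLeft))
      (wit (φ'.comp Algebra.TensorProduct.includeRight) z) : E) = eval₂ φ z (uC χ : (Dd (R := R) O B)[T;T⁻¹]) := fun z => by
    rw [app_wit, e]
  rw [← h, ← h, ← h, ← Units.val_mul, ← map_mul, ← map_mul]

/-- the degree function of a character -/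
noncomputable def deg (χ : Ch R O B) : LocallyConstant (PrimeSpectrum (B ⊗[R] O)) ℤ := LaurentDeg.ldeg (uC χ)

theorem eval₂_C_comp {D E : Type u} [CommRing D] [CommRing E] (φ : D →+* E) :
    eval₂ ((LaurentPolynomial.C : E →+* E[T;T⁻¹]).comp φ) (LaurentDeg.unitT E) = LaurentDeg.lmap φ :=
  LaurentDeg.hom_ext (fun r => by simp [LaurentDeg.lmap_C]) (by
    rw [eval₂_T, zpow_one, LaurentDeg.lmap_T]
    rfl)

theorem deg_add (χ ψ : Ch R O B) (P : PrimeSpectrum (B ⊗[R] O)) : deg (χ + ψ) P = deg χ P + deg ψ P := by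
  show LaurentDeg.ldeg (uC (χ + ψ)) P = _
  rw [show uC (χ + ψ) = uC χ * uC ψ from app_add _ _ _ _, LaurentDeg.ldeg_mul]
  rfl

theorem deg_zero (P : PrimeSpectrum (B ⊗[R] O)) : deg (0 : Ch R O B) P = 0 := by
  have := deg_add (0 : Ch R O B) 0 P
  rw [add_zero] at this
  linarith

theorem uC_res (χ : Ch R O B) (k : B →ₐ[R] C) :
    uC (((Fd R O).obj.map (sHom k).op).hom χ : Ch R O C) = Units.map (LaurentDeg.lmap (tmap O k).toRingHom).toMonoidHom (uC χ) := by
  refine Units.ext ?_
  show Units.val (app _ (sHom (ι₀ O C)) (wit (q₀ O C) (LaurentDeg.unitT _))) = LaurentDeg.lmap _ _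
  rw [app_res, ← sHom_comp, app_wit, ← eval₂_C_comp]
  refine congrArg (fun F : Dd (R := R) O B →+* (Dd (R := R) O C)[T;T⁻¹] => eval₂ F (LaurentDeg.unitT _) (uC χ : (Dd (R := R) O B)[T;T⁻¹])) ?_
  refine RingHom.ext fun d => ?_
  show Algebra.TensorProduct.productMap ((ι₀ O C).comp k) (q₀ O C) d = LaurentPolynomial.C (tmap O k d)
  induction d with
  | zero => simp
  | add x y hx hy => rw [map_add, map_add, map_add, hx, hy]
  | tmul b a =>
    rw [Algebra.TensorProduct.productMap_apply_tmul, AlgHom.comp_apply, ι₀_apply, q₀_apply, ← map_mul]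
    simp

theorem deg_res (χ : Ch R O B) (k : B →ₐ[R] C) (P : PrimeSpectrum (C ⊗[R] O)) :
    deg (((Fd R O).obj.map (sHom k).op).hom χ : Ch R O C) P = deg χ (PrimeSpectrum.comap (tmap O k).toRingHom P) := by
  show LaurentDeg.ldeg (uC _) P = _
  rw [uC_res]
  exact LaurentDeg.ldeg_map _ _ _

/-- the point given by two maps to a field -/
noncomputable def kpt {L : Type u} [Field L] [Algebra R L] (g : B →ₐ[R] L) (q : O →ₐ[R] L) : PrimeSpectrum (B ⊗[R] O) :=
  ⟨RingHom.ker (Algebra.TensorProduct.productMap g q).toRingHom, RingHom.ker_isPrime _⟩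

theorem exists_kpt (P : PrimeSpectrum (B ⊗[R] O)) :
    ∃ (L : Type u) (_ : Field L) (_ : Algebra R L) (g : B →ₐ[R] L) (q : O →ₐ[R] L), kpt g q = P := by
  let π : B ⊗[R] O →ₐ[R] P.asIdeal.ResidueField := IsScalarTower.toAlgHom R (B ⊗[R] O) _
  refine ⟨P.asIdeal.ResidueField, inferInstance, inferInstance, π.comp Algebra.TensorProduct.includeLeft,
    π.comp Algebra.TensorProduct.includeRight, PrimeSpectrum.ext (Ideal.ext fun x => ?_)⟩
  have e : Algebra.TensorProduct.productMap (π.comp Algebra.TensorProduct.includeLeft)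
      (π.comp Algebra.TensorProduct.includeRight) = π := Algebra.TensorProduct.ext' fun a b => by simp [← map_mul]
  show Algebra.TensorProduct.productMap _ _ x = 0 ↔ _
  rw [e]
  exact Ideal.algebraMap_residueField_eq_zero (I := P.asIdeal)

theorem comap_kpt {L : Type u} [Field L] [Algebra R L] (k : B →ₐ[R] C) (g : C →ₐ[R] L) (q : O →ₐ[R] L) :
    PrimeSpectrum.comap (tmap O k).toRingHom (kpt g q) = kpt (g.comp k) q := by
  refine PrimeSpectrum.ext (Ideal.ext fun x => ?_)
  show Algebra.TensorProduct.productMap g q (tmap O k x) = 0 ↔ Algebra.TensorProduct.productMap (g.comp k) q x = 0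
  rw [← AlgHom.comp_apply, show (Algebra.TensorProduct.productMap g q).comp (tmap O k) =
    Algebra.TensorProduct.productMap (g.comp k) q from Algebra.TensorProduct.ext' fun a b => by simp]

/-- a splitting of the base change -/
structure Splitting (B : Type u) [CommRing B] [Algebra R B] (O : Type u) [CommRing O] [Algebra R O] where
  ι : Type
  [fin : Fintype ι]
  [dec : DecidableEq ι]
  σ : ι → (O →ₐ[R] B)
  e : ι → B ⊗[R] O
  sum_e : ∑ i, e i = 1
  τ_e : ∀ i j, Algebra.TensorProduct.productMap (AlgHom.id R B) (σ j) (e i) = if i = j then 1 else 0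
  e_mul : ∀ i a, e i * (1 ⊗ₜ a) = e i * (σ i a ⊗ₜ 1)

attribute [instance] Splitting.fin Splitting.dec

/-- base change of a splitting -/
noncomputable def Splitting.map (S : Splitting (R := R) B O) (k : B →ₐ[R] C) : Splitting (R := R) C O where
  ι := S.ι
  σ i := k.comp (S.σ i)
  e i := tmap O k (S.e i)
  sum_e := by rw [← map_sum, S.sum_e, map_one]
  τ_e i j := by
    have h : (Algebra.TensorProduct.productMap (AlgHom.id R C) (k.comp (S.σ j))).comp (tmap O k) =
        k.comp (Algebra.TensorProduct.productMap (AlgHom.id R B) (S.σ j)) :=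
      Algebra.TensorProduct.ext' fun a b => by simp
    rw [← AlgHom.comp_apply, h, AlgHom.comp_apply, S.τ_e]
    split_ifs <;> simp
  e_mul i a := by
    have := congrArg (tmap O k) (S.e_mul i a)
    simpa using this

theorem Splitting.mul_e (S : Splitting (R := R) B O) (i : S.ι) (y : B ⊗[R] O) :
    S.e i * y = S.e i * (Algebra.TensorProduct.productMap (AlgHom.id R B) (S.σ i) y ⊗ₜ 1) := by
  induction y with
  | zero => simp
  | add x y hx hy => rw [mul_add, map_add, add_tmul, mul_add, hx, hy]
  | tmul b a =>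
    rw [show b ⊗ₜ[R] a = b ⊗ₜ 1 * 1 ⊗ₜ a by simp, ← mul_assoc, mul_comm (S.e i), mul_assoc, S.e_mul, ← mul_assoc,
      mul_comm (b ⊗ₜ[R] (1 : O)), mul_assoc]
    simp

theorem Splitting.ext (S : Splitting (R := R) B O) {x y : B ⊗[R] O}
    (h : ∀ j, Algebra.TensorProduct.productMap (AlgHom.id R B) (S.σ j) x =
      Algebra.TensorProduct.productMap (AlgHom.id R B) (S.σ j) y) : x = y := by
  rw [← one_mul x, ← one_mul y, ← S.sum_e, Finset.sum_mul, Finset.sum_mul]
  exact Finset.sum_congr rfl fun i _ => by rw [S.mul_e i x, S.mul_e i y, h i]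

theorem Splitting.τ_eps_self (S : Splitting (R := R) B O) (j : S.ι) :
    Algebra.TensorProduct.productMap (AlgHom.id R B) (S.σ j) (eps (S.σ j)) = 1 := by
  have e : (Algebra.TensorProduct.productMap (AlgHom.id R B) (S.σ j)).comp (tmap O (S.σ j)) =
      (S.σ j).comp (Algebra.TensorProduct.lmul' R) := Algebra.TensorProduct.ext' fun a b => by simp
  rw [eps, ← AlgHom.comp_apply, e, AlgHom.comp_apply, Algebra.FormallyUnramified.lmul_elem, map_one]

theorem Splitting.τ_eps_ne (S : Splitting (R := R) B O) {i j : S.ι} (hij : i ≠ j) :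
    Algebra.TensorProduct.productMap (AlgHom.id R B) (S.σ j) (eps (S.σ i)) = 0 := by
  let v := Algebra.TensorProduct.productMap (AlgHom.id R B) (S.σ j) (eps (S.σ i))
  have hv : ∀ y : B ⊗[R] O, v * Algebra.TensorProduct.productMap (AlgHom.id R B) (S.σ j) y =
      v * Algebra.TensorProduct.productMap (AlgHom.id R B) (S.σ i) y := fun y => by
    induction y with
    | zero => simp
    | add x y hx hy => rw [map_add, map_add, mul_add, mul_add, hx, hy]
    | tmul b a =>
      have := congrArg (Algebra.TensorProduct.productMap (AlgHom.id R B) (S.σ j)) (eps_mul_tmul (S.σ i) a)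
      simp only [map_mul, Algebra.TensorProduct.productMap_apply_tmul, map_one, one_mul, mul_one, AlgHom.id_apply] at this
      simp only [Algebra.TensorProduct.productMap_apply_tmul, AlgHom.id_apply]
      linear_combination b * this
  have := hv (S.e i)
  rw [S.τ_e, S.τ_e, if_neg hij, if_pos rfl, mul_zero, mul_one] at this
  exact this.symm

theorem Splitting.τ_wit (S : Splitting (R := R) B O) (i j : S.ι) (x : Bˣ) :
    Units.map (Algebra.TensorProduct.productMap (AlgHom.id R B) (S.σ j)).toRingHom.toMonoidHom (wit (S.σ i) x) =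
      if i = j then x else 1 := by
  refine Units.ext ?_
  show Algebra.TensorProduct.productMap (AlgHom.id R B) (S.σ j) (eps (S.σ i) * _ ⊗ₜ 1 + (1 - eps (S.σ i))) = _
  rw [map_add, map_mul, map_sub, map_one]
  split_ifs with h
  · subst h
    rw [S.τ_eps_self]
    simp
  · rw [S.τ_eps_ne h]
    simp

theorem Splitting.prod_eps (S : Splitting (R := R) B O) (w : (B ⊗[R] O)ˣ) :
    w = ∏ i, wit (S.σ i) (Units.map (Algebra.TensorProduct.productMap (AlgHom.id R B) (S.σ i)).toRingHom.toMonoidHom w) := by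
  classical
  refine Units.ext (S.ext fun j => ?_)
  have h : Units.map (Algebra.TensorProduct.productMap (AlgHom.id R B) (S.σ j)).toRingHom.toMonoidHom (∏ i, wit (S.σ i)
      (Units.map (Algebra.TensorProduct.productMap (AlgHom.id R B) (S.σ i)).toRingHom.toMonoidHom w)) =
      Units.map (Algebra.TensorProduct.productMap (AlgHom.id R B) (S.σ j)).toRingHom.toMonoidHom w := by
    rw [map_prod, Finset.prod_congr rfl fun i _ => S.τ_wit i j _, Finset.prod_ite_eq' Finset.univ j, if_pos (Finset.mem_univ j)]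
  exact (congrArg Units.val h).symm

/-- over a split base a character of degree zero is zero -/
theorem eq_zero_of_deg_eq_zero (S : Splitting (R := R) B O) {χ : Ch R O B} (h : ∀ P, deg χ P = 0) : χ = 0 := by
  have hu : uC χ = 1 := LaurentDeg.eq_one_of_ldeg_eq_zero _ (fun φ x y => uC_grouplike χ φ x y) h
  have h0 : ∀ (C : Type u) [CommRing C] [Algebra R C] (g : B →ₐ[R] C) (w : (C ⊗[R] O)ˣ),
      app (0 : Ch R O B) (sHom g) w = 1 := fun C _ _ g w => by
    have := app_add (0 : Ch R O B) 0 (sHom g) w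
    rw [add_zero] at this
    exact mul_eq_left.1 this.symm
  refine ext_app fun C _ _ g w => ?_
  rw [h0, (S.map g).prod_eps w, map_prod]
  refine Finset.prod_eq_one fun i _ => Units.ext ?_
  rw [app_wit, hu, Units.val_one, map_one]
  exact Units.val_one.symm

end Groth.Agent.GalEt.DualPush
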