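import Groth.Agent.GalEt.Amitsur
import Groth.Agent.Adeq2Lib.AffineVanish
import Groth.Prelude.Def_GmPts
import Groth.Prelude.Def_CGrpSh2
import Mathlib.RingTheory.Jacobson.Ring
import Mathlib.RingTheory.Nullstellensatz

/-!
# Hilbert 90 on the big fppf site of a field
-/

set_option autoImplicit false
set_option maxHeartbeats 1000000
set_option backward.isDefEq.respectTransparency.types false
set_option linter.style.haveILetI false
set_option linter.unusedSectionVars false

universe u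

open CategoryTheory Limits AlgebraicGeometry Opposite Abelian TensorProduct
open scoped MonObj

namespace Groth.Agent.GalEt.FppfH1

open Groth.Agent.AdeqFound Adeq2Lib.CechAffine Adeq2Lib.CechSingle Adeq2Lib.AffVan

variable {R : CommRingCat.{u}}

/-- the multiplicative group on the big fppf site -/
noncomputable abbrev GmS (R : CommRingCat.{u}) : AbT (Spec R) := CGrpSh2.Gm Scheme.fppfPrecoverage (Spec R)

/-- the point given by a section -/
noncomputable def toPt (A : Adeq.Alg R) (x : (pr (GmS R) (𝟙 _)).obj (op (sp R A))) :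
    (Over.map (𝟙 (Spec R))).obj (sp R A) ⟶ Red.Gm (Spec R) := x.down.toMul

/-- the unit of an algebra given by a section over its spectrum -/
noncomputable def val (A : Adeq.Alg R) (x : (pr (GmS R) (𝟙 _)).obj (op (sp R A))) : (A : Type u)ˣ :=
  Units.map (Scheme.ΓSpecIso (CommRingCat.of A)).hom.hom.toMonoidHom
    (GmPts.unitOfPt (toPt A x))

theorem val_add (A : Adeq.Alg R) (x y : (pr (GmS R) (𝟙 _)).obj (op (sp R A))) :
    val A (x + y) = val A x * val A y :=
  (congrArg (Units.map (Scheme.ΓSpecIso (CommRingCat.of A)).hom.hom.toMonoidHom)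
    (GmPts.unitOfPt_mul (toPt A x) (toPt A y))).trans (map_mul _ _ _)

theorem val_injective (A : Adeq.Alg R) : Function.Injective (val A) := fun x y h => by
  have h1 := (Units.map_injective (f := ((Scheme.ΓSpecIso (CommRingCat.of A)).hom.hom).toMonoidHom)
    (Scheme.ΓSpecIso (CommRingCat.of A)).commRingCatIsoToRingEquiv.injective) h
  have h2 : toPt A x = toPt A y := (GmPts.equiv ((Over.map (𝟙 (Spec R))).obj (sp R A))).injective h1
  exact ULift.ext _ _ (Additive.toMul.injective h2)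

theorem val_surjective (A : Adeq.Alg R) (w : (A : Type u)ˣ) : ∃ x, val A x = w :=
  ⟨ULift.up (Additive.ofMul (GmPts.ptOfUnit
      (Units.map (Scheme.ΓSpecIso (CommRingCat.of A)).inv.hom.toMonoidHom w))), Units.ext (by
    refine (congrArg (fun v => (Scheme.ΓSpecIso (CommRingCat.of A)).hom.hom (Units.val v))
      (GmPts.unitOfPt_ptOfUnit _)).trans ?_
    exact Iso.inv_hom_id_apply (Scheme.ΓSpecIso (CommRingCat.of A)) (w : A))⟩

theorem val_nat {A A' : Adeq.Alg R} (f : A ⟶ A') (x : (pr (GmS R) (𝟙 _)).obj (op (sp R A))) :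
    (val A' (((pr (GmS R) (𝟙 _)).map (spMap R f).op).hom x) : (A' : Type u)) = f.hom (val A x : (A : Type u)) := by
  refine (congrArg (fun v => (Scheme.ΓSpecIso (CommRingCat.of A')).hom.hom (Units.val v))
    (GmPts.unitOfPt_comp ((Over.map (𝟙 (Spec R))).map (spMap R f)) _)).trans ?_
  exact ConcreteCategory.congr_hom (Scheme.ΓSpecIso_naturality (CommRingCat.ofHom f.hom.toRingHom)) _

section Field

variable (k : Type u) [Field k] (L : Type u) [Field L] [Algebra k L]

local notation "Rk" => CommRingCat.of k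

/-- the tensor square -/
noncomputable abbrev A2 : Adeq.Alg Rk := Adeq.algOf Rk (L ⊗[k] L)

/-- the tensor cube -/
noncomputable abbrev A3 : Adeq.Alg Rk := Adeq.algOf Rk (L ⊗[k] (L ⊗[k] L))

/-- the first coordinate -/
noncomputable def c0 : Adeq.algOf Rk L ⟶ A2 k L :=
  CommAlgCat.ofHom (Algebra.TensorProduct.includeLeft : L →ₐ[k] L ⊗[k] L)

/-- the second coordinate -/
noncomputable def c1 : Adeq.algOf Rk L ⟶ A2 k L :=
  CommAlgCat.ofHom (Algebra.TensorProduct.includeRight : L →ₐ[k] L ⊗[k] L)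

/-- the comparison map of squares -/
noncomputable def m2 : sp Rk (A2 k L) ⟶ pw (X₀ (R := Rk) L) 1 :=
  Pi.lift ![spMap Rk (c0 k L), spMap Rk (c1 k L)]

instance isIso_m2 : IsIso (m2 k L) := by
  have hp := isPullback_SpecMap_of_isPushout _ _ _ _ (CommRingCat.isPushout_tensorProduct k L L)
  have hw : (Pi.π (fun _ : Fin 2 => X₀ (R := Rk) L) 0).left ≫ Spec.map (CommRingCat.ofHom (algebraMap k L)) =
      (Pi.π (fun _ : Fin 2 => X₀ (R := Rk) L) 1).left ≫ Spec.map (CommRingCat.ofHom (algebraMap k L)) := by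
    have h0 := Over.w (Pi.π (fun _ : Fin 2 => X₀ (R := Rk) L) 0)
    have h1 := Over.w (Pi.π (fun _ : Fin 2 => X₀ (R := Rk) L) 1)
    rw [sp_hom] at h0 h1
    exact h0.trans h1.symm
  let g : pw (X₀ (R := Rk) L) 1 ⟶ sp Rk (A2 k L) := Over.homMk (hp.lift _ _ hw) (by
    rw [sp_hom]
    refine Eq.trans ?_ (Over.w (Pi.π (fun _ : Fin 2 => X₀ (R := Rk) L) 0))
    rw [sp_hom]
    refine Eq.trans ?_ (congrArg (fun w => w ≫ Spec.map (CommRingCat.ofHom (algebraMap k L))) (hp.lift_fst _ _ hw))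
    refine (congrArg (fun w => hp.lift _ _ hw ≫ w) ?_).trans (Category.assoc _ _ _).symm
    rw [← Spec.map_comp]
    exact congrArg Spec.map (CommRingCat.hom_ext (RingHom.ext fun c => rfl)))
  refine ⟨g, Over.OverMorphism.ext (hp.hom_ext ?_ ?_), Pi.hom_ext _ _ fun j => ?_⟩
  · refine ((Category.assoc _ _ _).trans (congrArg (fun w => (m2 k L).left ≫ w) (hp.lift_fst _ _ hw))).trans ?_
    refine (congrArg CommaMorphism.left (Pi.lift_π ![spMap Rk (c0 k L), spMap Rk (c1 k L)] 0)).trans ?_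
    exact (Category.id_comp _).symm
  · refine ((Category.assoc _ _ _).trans (congrArg (fun w => (m2 k L).left ≫ w) (hp.lift_snd _ _ hw))).trans ?_
    refine (congrArg CommaMorphism.left (Pi.lift_π ![spMap Rk (c0 k L), spMap Rk (c1 k L)] 1)).trans ?_
    exact (Category.id_comp _).symm
  · rw [Category.assoc, m2, Pi.lift_π, Category.id_comp]
    fin_cases j
    · exact Over.OverMorphism.ext (hp.lift_fst _ _ hw)
    · exact Over.OverMorphism.ext (hp.lift_snd _ _ hw)

/-- the comparison map of cubes -/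
noncomputable def m3 : sp Rk (A3 k L) ⟶ pw (X₀ (R := Rk) L) 2 :=
  Pi.lift ![spMap Rk (c0 k L ≫ CommAlgCat.ofHom (Amitsur.p12 k L)),
    spMap Rk (c1 k L ≫ CommAlgCat.ofHom (Amitsur.p12 k L)),
    spMap Rk (c1 k L ≫ CommAlgCat.ofHom (Amitsur.p13 k L))]

theorem m3_fc0 : m3 k L ≫ fc (X₀ (R := Rk) L) 0 = spMap Rk (CommAlgCat.ofHom (Amitsur.p23 k L)) ≫ m2 k L := by
  refine Pi.hom_ext _ _ fun j => ?_
  rw [Category.assoc, fc_π, Category.assoc, m2, m3, Pi.lift_π, Pi.lift_π]
  fin_cases j <;>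
    · refine Eq.trans ?_ ((Functor.map_comp _ _ _).trans rfl)
      refine congrArg (fun w => spMap Rk w) (CommAlgCat.hom_ext (AlgHom.ext fun x => rfl))

theorem m3_fc1 : m3 k L ≫ fc (X₀ (R := Rk) L) 1 = spMap Rk (CommAlgCat.ofHom (Amitsur.p13 k L)) ≫ m2 k L := by
  refine Pi.hom_ext _ _ fun j => ?_
  rw [Category.assoc, fc_π, Category.assoc, m2, m3, Pi.lift_π, Pi.lift_π]
  fin_cases j <;>
    · refine Eq.trans ?_ ((Functor.map_comp _ _ _).trans rfl)
      refine congrArg (fun w => spMap Rk w) (CommAlgCat.hom_ext (AlgHom.ext fun x => rfl))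

theorem m3_fc2 : m3 k L ≫ fc (X₀ (R := Rk) L) 2 = spMap Rk (CommAlgCat.ofHom (Amitsur.p12 k L)) ≫ m2 k L := by
  refine Pi.hom_ext _ _ fun j => ?_
  rw [Category.assoc, fc_π, Category.assoc, m2, m3, Pi.lift_π, Pi.lift_π]
  fin_cases j <;>
    · refine Eq.trans ?_ ((Functor.map_comp _ _ _).trans rfl)
      refine congrArg (fun w => spMap Rk w) (CommAlgCat.hom_ext (AlgHom.ext fun x => rfl))

theorem map_map {C : Type (u + 1)} [Category.{u} C] (P : Cᵒᵖ ⥤ AddCommGrpCat.{u + 1}) {U V W : C} (f : U ⟶ V) (g : V ⟶ W)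
    (x : P.obj (op W)) : (P.map f.op).hom ((P.map g.op).hom x) = (P.map (f ≫ g).op).hom x :=
  (ConcreteCategory.congr_hom (P.map_comp g.op f.op) x).symm

/-- the Cech cohomology of the multiplicative group for a field extension vanishes in degree one -/
theorem ex_field : Ex (X₀ (R := Rk) L) (pr (GmS Rk) (𝟙 _)) 0 := by
  intro x hx
  let P := pr (GmS Rk) (𝟙 (Spec Rk))
  let c : (L ⊗[k] L)ˣ := val (A2 k L) ((P.map (m2 k L).op).hom x)
  rw [D_apply, Fin.sum_univ_three] at hx
  simp only [Fin.val_zero, Fin.val_one, Fin.val_two, pow_zero, pow_one, neg_one_sq, one_smul, neg_smul] at hx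
  have hx' := congrArg (P.map (m3 k L).op).hom hx
  rw [map_zero, map_add, map_add, map_neg, map_map, map_map, map_map, m3_fc0, m3_fc1, m3_fc2, ← map_map, ← map_map,
    ← map_map] at hx'
  have hc : Amitsur.p23 k L c * Amitsur.p12 k L c = Amitsur.p13 k L c := by
    have h := congrArg (fun z => (val (A3 k L) z : (A3 k L : Type u)))
      (show (P.map (spMap Rk (CommAlgCat.ofHom (Amitsur.p23 k L))).op).hom ((P.map (m2 k L).op).hom x) +
        (P.map (spMap Rk (CommAlgCat.ofHom (Amitsur.p12 k L))).op).hom ((P.map (m2 k L).op).hom x) =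
        (P.map (spMap Rk (CommAlgCat.ofHom (Amitsur.p13 k L))).op).hom ((P.map (m2 k L).op).hom x) by
          rw [← sub_eq_zero, ← hx']; abel)
    simp only [val_add, Units.val_mul, P, val_nat] at h
    exact h
  obtain ⟨ψ, hψ, hψc⟩ := Amitsur.exists_eq_coboundary c hc
  obtain ⟨b, hb⟩ := val_surjective (Adeq.algOf Rk L) (Units.mk0 ψ hψ)
  let y : P.obj (op (pw (X₀ (R := Rk) L) 0)) := - (P.map (Pi.π (fun _ : Fin 1 => X₀ (R := Rk) L) 0).op).hom b
  refine ⟨y, ?_⟩
  have hm2 : Function.Injective (P.map (m2 k L).op).hom :=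
    (AddCommGrpCat.mono_iff_injective _).1 inferInstance
  refine hm2 ?_
  have h0 : m2 k L ≫ fc (X₀ (R := Rk) L) 0 ≫ Pi.π (fun _ : Fin 1 => X₀ (R := Rk) L) 0 = spMap Rk (c1 k L) := by
    rw [fc_π]; exact Pi.lift_π ![spMap Rk (c0 k L), spMap Rk (c1 k L)] 1
  have h1 : m2 k L ≫ fc (X₀ (R := Rk) L) 1 ≫ Pi.π (fun _ : Fin 1 => X₀ (R := Rk) L) 0 = spMap Rk (c0 k L) := by
    rw [fc_π]; exact Pi.lift_π ![spMap Rk (c0 k L), spMap Rk (c1 k L)] 0
  rw [D_apply, Fin.sum_univ_two]
  simp only [Fin.val_zero, Fin.val_one, pow_zero, pow_one, one_smul, neg_smul, y, P, map_neg, map_add, map_map, neg_neg,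
    Category.assoc, h0, h1]
  rw [neg_add_eq_iff_eq_add]
  refine val_injective (A2 k L) (Units.ext ?_)
  rw [val_add, Units.val_mul, val_nat, val_nat, hb, mul_comm]
  exact hψc.symm

theorem exists_lift_field {I Q : AbT (Spec Rk)} (π : I ⟶ Q) [Epi π] (s : Q.obj.obj (op (Over.mk (𝟙 (Spec Rk))))) :
    ∃ (M : Type u) (_ : Field M) (_ : Algebra k M)
      (_ : LocallyOfFinitePresentation (Spec.map (CommRingCat.ofHom (algebraMap Rk M))))
      (t : I.obj.obj (op (cov (R := Rk) (𝟙 _) M))),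
      (π.hom.app _).hom t = rA Q (covMap (R := Rk) (𝟙 _) M) s := by
  obtain ⟨B, _, _, hff, hlfp, t, ht⟩ := exists_lift_single (R := Rk) (𝟙 _) π s
  haveI : Nontrivial B := by
    obtain ⟨q, -⟩ := (PrimeSpectrum.comap_surjective_of_faithfullyFlat (A := Rk) (B := B))
      (⟨⊥, (inferInstanceAs (IsDomain k) : IsDomain k) |> fun _ => Ideal.isPrime_bot⟩ : PrimeSpectrum k)
    exact nontrivial_of_ne (0 : B) 1 fun h => q.isPrime.ne_top ((Ideal.eq_top_iff_one _).2 (h ▸ q.asIdeal.zero_mem))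
  obtain ⟨m, hm⟩ := Ideal.exists_maximal B
  letI : Algebra k B := (inferInstance : Algebra Rk B)
  let M := B ⧸ m
  letI : Field M := Ideal.Quotient.field m
  have hft : Algebra.FiniteType k B := by
    have h := (HasRingHomProperty.Spec_iff (P := @LocallyOfFinitePresentation)).1 hlfp
    exact RingHom.finiteType_algebraMap.1 (RingHom.FiniteType.of_finitePresentation h)
  haveI : Algebra.FiniteType k M := hft.of_surjective (Ideal.Quotient.mkₐ k m) Ideal.Quotient.mk_surjective
  have hfp : (algebraMap k M).FinitePresentation :=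
    RingHom.finitePresentation_algebraMap.2 (Algebra.FinitePresentation.of_finiteType.1 inferInstance)
  haveI hlfp' : LocallyOfFinitePresentation (Spec.map (CommRingCat.ofHom (algebraMap Rk M))) :=
    (HasRingHomProperty.Spec_iff (P := @LocallyOfFinitePresentation)).2 hfp
  let g : sp Rk (Adeq.algOf Rk M) ⟶ sp Rk (Adeq.algOf Rk B) := spMap Rk (CommAlgCat.ofHom (Ideal.Quotient.mkₐ k m))
  refine ⟨M, inferInstance, inferInstance, hlfp', rA I ((Over.map (𝟙 _)).map g) t, ?_⟩
  refine (ConcreteCategory.congr_hom (π.hom.naturality ((Over.map (𝟙 _)).map g).op) t).trans ?_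
  refine (congrArg (rA Q ((Over.map (𝟙 _)).map g)) ht).trans ?_
  rw [rA_comp]
  exact congrArg (fun w => rA Q w s) (Over.OverMorphism.ext (Over.w g))

theorem surjective_sections_field (E : ShortComplex (AbT (Spec Rk))) (hE : E.ShortExact)
    (h₁ : ∀ (M : Type u) [Field M] [Algebra k M], Ex (X₀ (R := Rk) M) (pr E.X₁ (𝟙 _)) 0) :
    Function.Surjective (E.g.hom.app (op (Over.mk (𝟙 (Spec Rk))))).hom := by
  intro s
  haveI := hE.epi_g
  obtain ⟨M, _, _, hlfp, t, ht⟩ := exists_lift_field k E.g s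
  haveI : Module.FaithfullyFlat Rk M := (inferInstance : Module.FaithfullyFlat k M)
  let a : Spec Rk ⟶ Spec Rk := 𝟙 _
  let f' : pr E.X₁ a ⟶ pr E.X₂ a := Functor.whiskerLeft (Over.map a).op E.f.hom
  let g' : pr E.X₂ a ⟶ pr E.X₃ a := Functor.whiskerLeft (Over.map a).op E.g.hom
  have hinj : ∀ U, Function.Injective (f'.app (op U)).hom := fun U => (secA_exact E hE ((Over.map a).obj U)).1
  have hex : ∀ U y, (g'.app (op U)).hom y = 0 ↔ ∃ x, (f'.app (op U)).hom x = y :=
    fun U => (secA_exact E hE ((Over.map a).obj U)).2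
  let X := X₀ (R := Rk) M
  let π₀ : pw X 0 ⟶ X := Pi.π (fun _ : Fin 1 => X) 0
  let t₀ : (pr E.X₂ a).obj (op (pw X 0)) := rA E.X₂ ((Over.map a).map π₀) t
  have ht₀ : (g'.app _).hom t₀ = rA E.X₃ ((Over.map a).map π₀ ≫ covMap a M) s := by
    rw [← rA_comp, ← ht]
    exact ConcreteCategory.congr_hom (E.g.hom.naturality ((Over.map a).map π₀).op) t
  obtain ⟨c, hc⟩ := (hex _ (D X (pr E.X₂ a) 0 t₀)).1 (by rw [← D_nat, ht₀, D_restr])
  obtain ⟨g, hg⟩ := h₁ M c (hinj _ (by rw [← D_nat, hc, D_D, map_zero]))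
  obtain ⟨z, hz⟩ := glue_cov E.X₂ a M (t₀ - (f'.app _).hom g) (by rw [map_sub, D_nat, hg, hc, sub_self])
  refine ⟨z, ext_cov E.X₃ a M _ _ ?_⟩
  have h := congrArg (g'.app (op (pw X 0))).hom hz
  rw [map_sub, (hex _ _).2 ⟨g, rfl⟩, sub_zero, ht₀] at h
  let σ₁ : X ⟶ pw X 0 := Pi.lift fun _ => 𝟙 _
  have hσ : σ₁ ≫ π₀ = 𝟙 _ := Pi.lift_π _ _
  have hn : rA E.X₃ ((Over.map a).map π₀ ≫ covMap a M) ((E.g.hom.app _).hom z) =
      (E.g.hom.app (op ((Over.map a).obj (pw X 0)))).hom (rA E.X₂ ((Over.map a).map π₀ ≫ covMap a M) z) :=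
    (ConcreteCategory.congr_hom (E.g.hom.naturality _) z).symm
  have h' := congrArg (rA E.X₃ ((Over.map a).map σ₁)) (hn.trans h)
  rw [rA_comp, rA_comp, ← Category.assoc, ← Functor.map_comp, hσ, CategoryTheory.Functor.map_id,
    Category.id_comp] at h'
  exact h'

/-- Hilbert 90: the first fppf cohomology of the multiplicative group of a field vanishes -/
theorem subsingleton_H_one_Gm :
    Subsingleton (BigSite.H Scheme.fppfPrecoverage (Spec Rk) (CGrpSh2.Gm Scheme.fppfPrecoverage (Spec Rk)) 1) := by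
  have hT : IsTerminal (Over.mk (𝟙 (Spec Rk))) := Over.mkIdTerminal
  let P := Classical.arbitrary (InjectivePresentation (GmS Rk))
  have hE := P.shortExact_shortComplex
  refine subsingleton_of_forall_eq 0 fun x => ?_
  obtain ⟨y, rfl⟩ := Ext.covariant_sequence_exact₁ _ hE x
    ((Ext.eq_zero_of_injective (I := P.J) _)) (n₀ := 0) rfl
  obtain ⟨t, ht⟩ := surjective_sections_field k P.shortComplex hE (fun M _ _ => ex_field k M)
    (Sheaf.H.equiv₀ P.shortComplex.X₃ hT y)
  have hy : y = Sheaf.H.map P.shortComplex.g 0 ((Sheaf.H.equiv₀ P.shortComplex.X₂ hT).symm t) := by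
    refine (Sheaf.H.equiv₀ P.shortComplex.X₃ hT).injective ?_
    rw [← Sheaf.H.equiv₀_naturality, AddEquiv.apply_symm_apply]
    exact ht.symm
  rw [hy, Sheaf.H.map_apply, Ext.comp_assoc_of_second_deg_zero, hE.comp_extClass, Ext.comp_zero]

end Field

end Groth.Agent.GalEt.FppfH1
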