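import Groth.Agent.GalEt.DualPts
import Mathlib.Algebra.Category.Ring.Constructions
import Mathlib.AlgebraicGeometry.AffineScheme
import Mathlib.CategoryTheory.Limits.Shapes.Pullback.Pasting

/-!
# Base change of an affine generic fibre along jointly injective maps
-/

set_option autoImplicit false
set_option maxHeartbeats 1000000
set_option linter.style.haveILetI false
set_option backward.isDefEq.respectTransparency.types false

universe u

open CategoryTheory CategoryTheory.Limits AlgebraicGeometry Opposite TensorProduct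

namespace Groth.Agent.GalEt.GenericBC

/-- morphisms out of the base change of an affine scheme over a field are determined on a jointly injective family -/
theorem hom_eq {R₀ k A : Type u} [CommRing R₀] [Field k] [CommRing A] {Gl Y : Scheme.{u}} [IsAffine Y]
    (g : Gl ⟶ Spec (CommRingCat.of R₀)) (φ : R₀ →+* k) (δ : k →+* A)
    [IsAffine (pullback g (Spec.map (CommRingCat.ofHom φ)))] {α : Type*} (L : α → Type u) [∀ v, CommRing (L v)]
    (p : ∀ v, A →+* L v) (hp : ∀ r : A, (∀ v, p v r = 0) → r = 0)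
    (a b : pullback g (Spec.map (CommRingCat.ofHom (δ.comp φ))) ⟶ Y)
    (h : ∀ v, pullback.fst (pullback.snd g (Spec.map (CommRingCat.ofHom (δ.comp φ)))) (Spec.map (CommRingCat.ofHom (p v))) ≫ a =
      pullback.fst (pullback.snd g (Spec.map (CommRingCat.ofHom (δ.comp φ)))) (Spec.map (CommRingCat.ofHom (p v))) ≫ b) :
    a = b := by
  let E := pullback g (Spec.map (CommRingCat.ofHom φ))
  let η : CommRingCat.of k ⟶ Γ(E, ⊤) := Spec.preimage (E.isoSpec.inv ≫ pullback.snd g (Spec.map (CommRingCat.ofHom φ)))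
  letI : Algebra k Γ(E, ⊤) := η.hom.toAlgebra
  letI : Algebra k A := δ.toAlgebra
  letI : ∀ v, Algebra k (L v) := fun v => ((p v).comp δ).toAlgebra
  have hη : Spec.map (CommRingCat.ofHom (algebraMap k Γ(E, ⊤))) = E.isoSpec.inv ≫ pullback.snd g (Spec.map (CommRingCat.ofHom φ)) :=
    Spec.map_preimage _
  have hδ : Spec.map (CommRingCat.ofHom (δ.comp φ)) = Spec.map (CommRingCat.ofHom δ) ≫ Spec.map (CommRingCat.ofHom φ) :=
    Spec.map_comp (CommRingCat.ofHom φ) (CommRingCat.ofHom δ)
  let iL : Spec (CommRingCat.of (Γ(E, ⊤) ⊗[k] A)) ⟶ E :=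
    Spec.map (CommRingCat.ofHom Algebra.TensorProduct.includeLeftRingHom) ≫ E.isoSpec.inv
  let iR : Spec (CommRingCat.of (Γ(E, ⊤) ⊗[k] A)) ⟶ Spec (CommRingCat.of A) :=
    Spec.map (CommRingCat.ofHom (Algebra.TensorProduct.includeRight (R := k) (A := Γ(E, ⊤)) (B := A)).toRingHom)
  have hsq : IsPullback iL iR (pullback.snd g (Spec.map (CommRingCat.ofHom φ))) (Spec.map (CommRingCat.ofHom δ)) := by
    refine (isPullback_SpecMap_of_isPushout _ _ _ _ (CommRingCat.isPushout_tensorProduct k Γ(E, ⊤) A)).of_iso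
      (Iso.refl _) E.isoSpec.symm (Iso.refl _) (Iso.refl _) ?_ ?_ ?_ ?_
    · exact (Category.id_comp _).symm
    · simp [iR]
    · rw [Iso.refl_hom, Category.comp_id, hη]; rfl
    · rw [Iso.refl_hom, Category.comp_id, Iso.refl_hom]; exact (Category.id_comp _).symm
  have hbig : IsPullback (iL ≫ pullback.fst g (Spec.map (CommRingCat.ofHom φ))) iR g
      (Spec.map (CommRingCat.ofHom (δ.comp φ))) := hδ ▸ hsq.paste_horiz (IsPullback.of_hasPullback _ _)
  let e := hbig.isoPullback
  rw [← cancel_epi e.hom]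
  let B := CommRingCat.of (Γ(E, ⊤) ⊗[k] A)
  have he : e.hom ≫ pullback.snd g (Spec.map (CommRingCat.ofHom (δ.comp φ))) = iR := hbig.isoPullback_hom_snd
  have key : ∀ v, Spec.map (CommRingCat.ofHom (Algebra.TensorProduct.map (AlgHom.id k Γ(E, ⊤))
      ({ p v with commutes' := fun _ => rfl } : A →ₐ[k] L v)).toRingHom) ≫ e.hom ≫ a =
      Spec.map (CommRingCat.ofHom (Algebra.TensorProduct.map (AlgHom.id k Γ(E, ⊤))
      ({ p v with commutes' := fun _ => rfl } : A →ₐ[k] L v)).toRingHom) ≫ e.hom ≫ b := by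
    intro v
    let pa : A →ₐ[k] L v := { p v with commutes' := fun _ => rfl }
    let j := Spec.map (CommRingCat.ofHom (Algebra.TensorProduct.map (AlgHom.id k Γ(E, ⊤)) pa).toRingHom) ≫ e.hom
    have hj : j ≫ pullback.snd g (Spec.map (CommRingCat.ofHom (δ.comp φ))) =
        Spec.map (CommRingCat.ofHom (Algebra.TensorProduct.includeRight (R := k) (A := Γ(E, ⊤)) (B := L v)).toRingHom) ≫
          Spec.map (CommRingCat.ofHom (p v)) := by
      rw [Category.assoc, he, ← Spec.map_comp, ← Spec.map_comp]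
      refine congrArg Spec.map (CommRingCat.hom_ext (RingHom.ext fun r => ?_))
      show (Algebra.TensorProduct.map (AlgHom.id k Γ(E, ⊤)) pa) (1 ⊗ₜ r) = 1 ⊗ₜ p v r
      simp [pa]
    rw [← Category.assoc, ← Category.assoc]
    show j ≫ a = j ≫ b
    rw [← pullback.lift_fst j _ hj, Category.assoc, Category.assoc, h v]
  -- reduce to global functions
  have hinj : ∀ {Z : CommRingCat.{u}} (f f' : Z ⟶ B), (∀ v, f ≫ CommRingCat.ofHom (Algebra.TensorProduct.map (AlgHom.id k Γ(E, ⊤))
      ({ p v with commutes' := fun _ => rfl } : A →ₐ[k] L v)).toRingHom = f' ≫ CommRingCat.ofHom (Algebra.TensorProduct.map (AlgHom.id k Γ(E, ⊤))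
      ({ p v with commutes' := fun _ => rfl } : A →ₐ[k] L v)).toRingHom) → f = f' := fun f f' hf =>
    CommRingCat.hom_ext (RingHom.ext fun z => sub_eq_zero.1 (DualPts.tensor_jointly_injective Γ(E, ⊤) L
      (fun v => { p v with commutes' := fun _ => rfl }) hp _ fun v => by
        rw [map_sub, sub_eq_zero]
        exact ConcreteCategory.congr_hom (hf v) z))
  rw [← cancel_mono Y.isoSpec.hom, ← Spec.map_preimage ((e.hom ≫ a) ≫ Y.isoSpec.hom),
    ← Spec.map_preimage ((e.hom ≫ b) ≫ Y.isoSpec.hom)]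
  refine congrArg Spec.map (hinj _ _ fun v => Spec.map_injective ?_)
  rw [Spec.map_comp, Spec.map_comp, Spec.map_preimage, Spec.map_preimage]
  simpa only [Category.assoc] using congrArg (· ≫ Y.isoSpec.hom) (key v)

end Groth.Agent.GalEt.GenericBC
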