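import Groth.Agent.GalEt.FppfH1

/-!
# Vanishing of the first fppf cohomology from cofinally many acyclic coverings
-/

set_option autoImplicit false
set_option maxHeartbeats 1000000
set_option backward.isDefEq.respectTransparency.types false
set_option linter.style.haveILetI false
set_option linter.unusedSectionVars false

universe u

open CategoryTheory Limits AlgebraicGeometry Opposite Abelian TensorProduct

namespace Groth.Agent.GalEt.H1Cech

open Groth.Agent.AdeqFound Adeq2Lib.CechAffine Adeq2Lib.CechSingle Adeq2Lib.AffVan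

variable {R : CommRingCat.{u}}

section Sections

variable {T : Scheme.{u}} (a : Spec R ⟶ T)

/-- cofinally many coverings have no Cech cohomology in degree one -/
def Cof (G : AbT T) : Prop :=
  ∀ (B : Type u) [CommRing B] [Algebra R B] [Module.FaithfullyFlat R B]
    [LocallyOfFinitePresentation (Spec.map (CommRingCat.ofHom (algebraMap R B)))],
    ∃ (B' : Type u) (_ : CommRing B') (_ : Algebra R B') (_ : Module.FaithfullyFlat R B')
      (_ : LocallyOfFinitePresentation (Spec.map (CommRingCat.ofHom (algebraMap R B')))) (_ : B →ₐ[R] B'),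
      Ex (X₀ (R := R) B') (pr G a) 0

theorem surjective_sections (E : ShortComplex (AbT T)) (hE : E.ShortExact) (h₁ : Cof a E.X₁) :
    Function.Surjective (E.g.hom.app (op (Over.mk a))).hom := by
  intro s
  haveI := hE.epi_g
  obtain ⟨B₀, _, _, hff₀, hlfp₀, t', ht'⟩ := exists_lift_single a E.g s
  obtain ⟨M, _, _, _, hlfp, ρ, hM⟩ := h₁ B₀
  let r : cov a M ⟶ cov a B₀ := (Over.map a).map (spMap R (CommAlgCat.ofHom ρ : Adeq.algOf R B₀ ⟶ Adeq.algOf R M))
  have hr : r ≫ covMap a B₀ = covMap a M := Over.OverMorphism.ext (Over.w (spMap R (CommAlgCat.ofHom ρ : Adeq.algOf R B₀ ⟶ Adeq.algOf R M)))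
  let t : E.X₂.obj.obj (op (cov a M)) := rA E.X₂ r t'
  have ht : (E.g.hom.app _).hom t = rA E.X₃ (covMap a M) s := by
    refine (ConcreteCategory.congr_hom (E.g.hom.naturality r.op) t').trans ?_
    refine (congrArg (rA E.X₃ r) ht').trans ?_
    rw [rA_comp, hr]
  let f' : pr E.X₁ a ⟶ pr E.X₂ a := Functor.whiskerLeft (Over.map a).op E.f.hom
  let g' : pr E.X₂ a ⟶ pr E.X₃ a := Functor.whiskerLeft (Over.map a).op E.g.hom
  have hinj : ∀ U, Function.Injective (f'.app (op U)).hom := fun U => (secA_exact E hE ((Over.map a).obj U)).1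
  have hex : ∀ U y, (g'.app (op U)).hom y = 0 ↔ ∃ x, (f'.app (op U)).hom x = y :=
    fun U => (secA_exact E hE ((Over.map a).obj U)).2
  let X := X₀ (R := R) M
  let π₀ : pw X 0 ⟶ X := Pi.π (fun _ : Fin 1 => X) 0
  let t₀ : (pr E.X₂ a).obj (op (pw X 0)) := rA E.X₂ ((Over.map a).map π₀) t
  have ht₀ : (g'.app _).hom t₀ = rA E.X₃ ((Over.map a).map π₀ ≫ covMap a M) s := by
    rw [← rA_comp, ← ht]
    exact ConcreteCategory.congr_hom (E.g.hom.naturality ((Over.map a).map π₀).op) t
  obtain ⟨c, hc⟩ := (hex _ (D X (pr E.X₂ a) 0 t₀)).1 (by rw [← D_nat, ht₀, D_restr])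
  obtain ⟨g, hg⟩ := hM c (hinj _ (by rw [← D_nat, hc, D_D, map_zero]))
  obtain ⟨z, hz⟩ := glue_cov E.X₂ a M (t₀ - (f'.app _).hom g) (by rw [map_sub, D_nat, hg, hc, sub_self])
  refine ⟨z, ext_cov E.X₃ a M _ _ ?_⟩
  have h := congrArg (g'.app (op (pw X 0))).hom hz
  rw [map_sub, (hex _ _).2 ⟨g, rfl⟩, sub_zero, ht₀] at h
  let σ₁ : X ⟶ pw X 0 := Pi.lift fun _ => 𝟙 _
  have hσ : σ₁ ≫ π₀ = 𝟙 _ := Pi.lift_π _ _
  have hn : rA E.X₃ ((Over.map a).map π₀ ≫ covMap a M) ((E.g.hom.app _).hom z) =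
      (E.g.hom.app (op ((Over.map a).obj (pw X 0)))).hom (rA E.X₂ ((Over.map a).map π₀ ≫ covMap a M) z) :=
    (ConcreteCategory.congr_hom (E.g.hom.naturality _) z).symm
  have h' := congrArg (rA E.X₃ ((Over.map a).map σ₁)) (hn.trans h)
  rw [rA_comp, rA_comp, ← Category.assoc, ← Functor.map_comp, hσ, CategoryTheory.Functor.map_id,
    Category.id_comp] at h'
  exact h'

end Sections

/-- the first cohomology vanishes when cofinally many coverings are acyclic -/
theorem subsingleton_H_one (G : AbT (Spec R)) (hG : Cof (𝟙 (Spec R)) G) :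
    Subsingleton (BigSite.H Scheme.fppfPrecoverage (Spec R) G 1) := by
  have hT : IsTerminal (Over.mk (𝟙 (Spec R))) := Over.mkIdTerminal
  let P := Classical.arbitrary (InjectivePresentation G)
  have hE := P.shortExact_shortComplex
  refine subsingleton_of_forall_eq 0 fun x => ?_
  obtain ⟨y, rfl⟩ := Ext.covariant_sequence_exact₁ _ hE x
    ((Ext.eq_zero_of_injective (I := P.J) _)) (n₀ := 0) rfl
  obtain ⟨t, ht⟩ := surjective_sections (𝟙 (Spec R)) P.shortComplex hE hG
    (Sheaf.H.equiv₀ P.shortComplex.X₃ hT y)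
  have hy : y = Sheaf.H.map P.shortComplex.g 0 ((Sheaf.H.equiv₀ P.shortComplex.X₂ hT).symm t) := by
    refine (Sheaf.H.equiv₀ P.shortComplex.X₃ hT).injective ?_
    rw [← Sheaf.H.equiv₀_naturality, AddEquiv.apply_symm_apply]
    exact ht.symm
  rw [hy, Sheaf.H.map_apply, Ext.comp_assoc_of_second_deg_zero, hE.comp_extClass, Ext.comp_zero]

section Square

variable (R) (L : Type u) [CommRing L] [Algebra R L]

/-- the tensor square -/
noncomputable abbrev A2 : Adeq.Alg R := Adeq.algOf R (L ⊗[R] L)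

/-- the first coordinate -/
noncomputable def c0 : Adeq.algOf R L ⟶ A2 R L :=
  CommAlgCat.ofHom (Algebra.TensorProduct.includeLeft : L →ₐ[R] L ⊗[R] L)

/-- the second coordinate -/
noncomputable def c1 : Adeq.algOf R L ⟶ A2 R L :=
  CommAlgCat.ofHom (Algebra.TensorProduct.includeRight : L →ₐ[R] L ⊗[R] L)

/-- the comparison map of squares -/
noncomputable def m2 : sp R (A2 R L) ⟶ pw (X₀ (R := R) L) 1 :=
  Pi.lift ![spMap R (c0 R L), spMap R (c1 R L)]

theorem m2_π0 : m2 R L ≫ Pi.π (fun _ : Fin 2 => X₀ (R := R) L) 0 = spMap R (c0 R L) :=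
  Pi.lift_π ![spMap R (c0 R L), spMap R (c1 R L)] 0

theorem m2_π1 : m2 R L ≫ Pi.π (fun _ : Fin 2 => X₀ (R := R) L) 1 = spMap R (c1 R L) :=
  Pi.lift_π ![spMap R (c0 R L), spMap R (c1 R L)] 1

instance isIso_m2 : IsIso (m2 R L) := by
  have hp := isPullback_SpecMap_of_isPushout _ _ _ _ (CommRingCat.isPushout_tensorProduct R L L)
  have hw : (Pi.π (fun _ : Fin 2 => X₀ (R := R) L) 0).left ≫ Spec.map (CommRingCat.ofHom (algebraMap R L)) =
      (Pi.π (fun _ : Fin 2 => X₀ (R := R) L) 1).left ≫ Spec.map (CommRingCat.ofHom (algebraMap R L)) := by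
    have h0 := Over.w (Pi.π (fun _ : Fin 2 => X₀ (R := R) L) 0)
    have h1 := Over.w (Pi.π (fun _ : Fin 2 => X₀ (R := R) L) 1)
    rw [sp_hom] at h0 h1
    exact h0.trans h1.symm
  let g : pw (X₀ (R := R) L) 1 ⟶ sp R (A2 R L) := Over.homMk (hp.lift _ _ hw) (by
    rw [sp_hom]
    refine Eq.trans ?_ (Over.w (Pi.π (fun _ : Fin 2 => X₀ (R := R) L) 0))
    rw [sp_hom]
    refine Eq.trans ?_ (congrArg (fun w => w ≫ Spec.map (CommRingCat.ofHom (algebraMap R L))) (hp.lift_fst _ _ hw))
    refine (congrArg (fun w => hp.lift _ _ hw ≫ w) ?_).trans (Category.assoc _ _ _).symm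
    rw [← Spec.map_comp]
    exact congrArg Spec.map (CommRingCat.hom_ext (RingHom.ext fun c => rfl)))
  refine ⟨g, Over.OverMorphism.ext (hp.hom_ext ?_ ?_), Pi.hom_ext _ _ fun j => ?_⟩
  · refine ((Category.assoc _ _ _).trans (congrArg (fun w => (m2 R L).left ≫ w) (hp.lift_fst _ _ hw))).trans ?_
    refine (congrArg CommaMorphism.left (m2_π0 R L)).trans ?_
    exact (Category.id_comp _).symm
  · refine ((Category.assoc _ _ _).trans (congrArg (fun w => (m2 R L).left ≫ w) (hp.lift_snd _ _ hw))).trans ?_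
    refine (congrArg CommaMorphism.left (m2_π1 R L)).trans ?_
    exact (Category.id_comp _).symm
  · rw [Category.assoc, m2, Pi.lift_π, Category.id_comp]
    fin_cases j
    · exact Over.OverMorphism.ext (hp.lift_fst _ _ hw)
    · exact Over.OverMorphism.ext (hp.lift_snd _ _ hw)

end Square

end Groth.Agent.GalEt.H1Cech
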