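import Groth.Agent.GalEt.LaurentDeg
import Groth.Prelude.Def_CGrpSh3
import Groth.Prelude.Def_GmPts
import Mathlib.RingTheory.Unramified.Finite
import Mathlib.AlgebraicGeometry.Pullbacks

/-!
# Characters of a Weil restriction of the multiplicative group on affine objects
-/

set_option autoImplicit false
set_option maxHeartbeats 1000000
set_option linter.style.haveILetI false
set_option backward.isDefEq.respectTransparency.types false

universe u

open CategoryTheory CategoryTheory.Limits AlgebraicGeometry Opposite TensorProduct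
open scoped MonObj

namespace Groth.Agent.GalEt.DualPush

variable (R O : Type u) [CommRing R] [CommRing O] [Algebra R O]

/-- the cover -/
noncomputable abbrev fO : Spec (CommRingCat.of O) ⟶ Spec (CommRingCat.of R) :=
  Spec.map (CommRingCat.ofHom (algebraMap R O))

/-- the object of an algebra -/
noncomputable abbrev sB (B : Type u) [CommRing B] [Algebra R B] : Over (Spec (CommRingCat.of R)) :=
  Over.mk (Spec.map (CommRingCat.ofHom (algebraMap R B)))

/-- the dual of the direct image -/
noncomputable abbrev Fd : BigSite.Ab Scheme.fppfPrecoverage (Spec (CommRingCat.of R)) :=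
  CGrpSh2.dualSh Scheme.fppfPrecoverage (CGrpSh3.pushGm Scheme.fppfPrecoverage (fO R O))

/-- characters over an algebra -/
noncomputable abbrev Ch (B : Type u) [CommRing B] [Algebra R B] : Type (u + 1) := (Fd R O).obj.obj (op (sB R B))

variable {R} {B C C' : Type u} [CommRing B] [CommRing C] [CommRing C'] [Algebra R B] [Algebra R C] [Algebra R C']

/-- the map of objects -/
noncomputable def sHom (g : B →ₐ[R] C) : sB R C ⟶ sB R B :=
  Over.homMk (Spec.map (CommRingCat.ofHom g.toRingHom)) (by
    show Spec.map _ ≫ Spec.map _ = Spec.map _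
    rw [← Spec.map_comp]
    exact congrArg Spec.map (CommRingCat.hom_ext g.comp_algebraMap))

theorem sHom_comp (g : B →ₐ[R] C) (h : C →ₐ[R] C') : sHom (h.comp g) = sHom h ≫ sHom g :=
  Over.OverMorphism.ext (Spec.map_comp (CommRingCat.ofHom g.toRingHom) (CommRingCat.ofHom h.toRingHom))

theorem sHom_id : sHom (AlgHom.id R B) = 𝟙 _ := Over.OverMorphism.ext (Spec.map_id _)

variable (C) in
/-- the comparison of the pullback with the spectrum of the tensor product -/
noncomputable def pbIso : ((Over.pullback (fO R O)).obj (sB R C)).left ≅ Spec (CommRingCat.of (C ⊗[R] O)) :=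
  pullbackSpecIso R C O

/-- the map of tensor products -/
noncomputable abbrev tmap (h : C →ₐ[R] C') : C ⊗[R] O →ₐ[R] C' ⊗[R] O := Algebra.TensorProduct.map h (AlgHom.id R O)

theorem pbIso_nat (h : C →ₐ[R] C') : (pbIso O C').inv ≫ ((Over.pullback (fO R O)).map (sHom h)).left =
    Spec.map (CommRingCat.ofHom (tmap O h).toRingHom) ≫ (pbIso O C).inv := by
  refine pullback.hom_ext ?_ ?_
  · refine (Category.assoc _ _ _).trans ((congrArg ((pbIso O C').inv ≫ ·) (pullback.lift_fst _ _ _)).trans ?_)
    refine Eq.trans ?_ (Category.assoc _ _ _).symm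
    refine Eq.trans ?_ (congrArg (Spec.map (CommRingCat.ofHom (tmap O h).toRingHom) ≫ ·) (pullbackSpecIso_inv_fst R C O)).symm
    refine (Category.assoc _ _ _).symm.trans ((congrArg (· ≫ (sHom h).left) (pullbackSpecIso_inv_fst R C' O)).trans ?_)
    show Spec.map _ ≫ Spec.map _ = Spec.map _ ≫ Spec.map _
    rw [← Spec.map_comp, ← Spec.map_comp]
    exact congrArg Spec.map (CommRingCat.hom_ext (RingHom.ext fun x => by simp))
  · refine (Category.assoc _ _ _).trans ((congrArg ((pbIso O C').inv ≫ ·) (pullback.lift_snd _ _ _)).trans ?_)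
    refine Eq.trans ?_ (Category.assoc _ _ _).symm
    refine Eq.trans ?_ (congrArg (Spec.map (CommRingCat.ofHom (tmap O h).toRingHom) ≫ ·) (pullbackSpecIso_inv_snd R C O)).symm
    refine (pullbackSpecIso_inv_snd R C' O).trans ?_
    rw [← Spec.map_comp]
    exact congrArg Spec.map (CommRingCat.hom_ext (RingHom.ext fun x => by simp))

variable (C) in
/-- functions on the pullback -/
noncomputable def toT : Γ(((Over.pullback (fO R O)).obj (sB R C)).left, ⊤) ≅ CommRingCat.of (C ⊗[R] O) where
  hom := (pbIso O C).inv.appTop ≫ (Scheme.ΓSpecIso _).hom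
  inv := (Scheme.ΓSpecIso _).inv ≫ (pbIso O C).hom.appTop
  hom_inv_id := by
    rw [Category.assoc, Iso.hom_inv_id_assoc, ← Scheme.Hom.comp_appTop, Iso.hom_inv_id]
    simp
  inv_hom_id := by
    rw [Category.assoc, ← Category.assoc ((pbIso O C).hom.appTop), ← Scheme.Hom.comp_appTop, Iso.inv_hom_id]
    simp

theorem toT_nat (h : C →ₐ[R] C') :
    ((Over.pullback (fO R O)).map (sHom h)).left.appTop ≫ (toT O C').hom =
      (toT O C).hom ≫ CommRingCat.ofHom (tmap O h).toRingHom := by
  show _ ≫ (pbIso O C').inv.appTop ≫ _ = ((pbIso O C).inv.appTop ≫ _) ≫ _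
  rw [Category.assoc, ← Scheme.ΓSpecIso_naturality, ← Category.assoc, ← Category.assoc, ← Scheme.Hom.comp_appTop,
    ← Scheme.Hom.comp_appTop]
  exact congrArg (fun m => Scheme.Hom.appTop m ≫ (Scheme.ΓSpecIso _).hom) (pbIso_nat O h)

/-- the point given by a section of the direct image -/
noncomputable def ptPush (s : (CGrpSh3.pushGm Scheme.fppfPrecoverage (fO R O)).obj.obj (op (sB R C))) :
    (Over.pullback (fO R O)).obj (sB R C) ⟶ Red.Gm (Spec (CommRingCat.of O)) := s.down.toMul

/-- the point given by a section of the multiplicative group -/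
noncomputable def ptBase (s : (CGrpSh2.Gm Scheme.fppfPrecoverage (Spec (CommRingCat.of R))).obj.obj (op (sB R C))) :
    sB R C ⟶ Red.Gm (Spec (CommRingCat.of R)) := s.down.toMul

/-- the unit of a point of the direct image -/
noncomputable def unitPush (s : (CGrpSh3.pushGm Scheme.fppfPrecoverage (fO R O)).obj.obj (op (sB R C))) : (C ⊗[R] O)ˣ :=
  Units.map (toT O C).hom.hom.toMonoidHom (GmPts.unitOfPt (ptPush O s))

/-- the point of the direct image given by a unit -/
noncomputable def ofUnit (w : (C ⊗[R] O)ˣ) : (CGrpSh3.pushGm Scheme.fppfPrecoverage (fO R O)).obj.obj (op (sB R C)) :=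
  ULift.up (Additive.ofMul (GmPts.ptOfUnit (Units.map (toT O C).inv.hom.toMonoidHom w)))

theorem unitPush_ofUnit (w : (C ⊗[R] O)ˣ) : unitPush O (ofUnit O w) = w := Units.ext (by
  refine (congrArg (fun v => (toT O C).hom.hom (Units.val v)) (GmPts.unitOfPt_ptOfUnit _)).trans ?_
  exact Iso.inv_hom_id_apply (toT O C) (w : C ⊗[R] O))

theorem unitPush_injective : Function.Injective (unitPush (R := R) O (C := C)) := fun s t h => by
  have h1 := (Units.map_injective (f := (toT O C).hom.hom.toMonoidHom)
    (toT O C).commRingCatIsoToRingEquiv.injective) h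
  have h2 : ptPush O s = ptPush O t := (GmPts.equiv _).injective h1
  exact ULift.ext _ _ (Additive.toMul.injective h2)

theorem ofUnit_unitPush (s : (CGrpSh3.pushGm Scheme.fppfPrecoverage (fO R O)).obj.obj (op (sB R C))) :
    ofUnit O (unitPush O s) = s :=
  unitPush_injective O (unitPush_ofUnit O _)

theorem unitPush_add (s t : (CGrpSh3.pushGm Scheme.fppfPrecoverage (fO R O)).obj.obj (op (sB R C))) :
    unitPush O (s + t) = unitPush O s * unitPush O t :=
  (congrArg (Units.map (toT O C).hom.hom.toMonoidHom) (GmPts.unitOfPt_mul (ptPush O s) (ptPush O t))).trans (map_mul _ _ _)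

theorem ofUnit_mul (v w : (C ⊗[R] O)ˣ) : ofUnit O (v * w) = ofUnit O v + ofUnit O w :=
  unitPush_injective O (by rw [unitPush_add, unitPush_ofUnit, unitPush_ofUnit, unitPush_ofUnit])

theorem unitPush_nat (h : C →ₐ[R] C') (s : (CGrpSh3.pushGm Scheme.fppfPrecoverage (fO R O)).obj.obj (op (sB R C))) :
    unitPush O (((CGrpSh3.pushGm Scheme.fppfPrecoverage (fO R O)).obj.map (sHom h).op).hom s) =
      Units.map (tmap O h).toRingHom.toMonoidHom (unitPush O s) := Units.ext (by
  refine (congrArg (fun v => (toT O C').hom.hom (Units.val v))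
    (GmPts.unitOfPt_comp ((Over.pullback (fO R O)).map (sHom h)) (ptPush O s))).trans ?_
  exact ConcreteCategory.congr_hom (toT_nat O h) _)

/-- the unit of a point of the multiplicative group -/
noncomputable def unitBase (s : (CGrpSh2.Gm Scheme.fppfPrecoverage (Spec (CommRingCat.of R))).obj.obj (op (sB R C))) : Cˣ :=
  Units.map (Scheme.ΓSpecIso (CommRingCat.of C)).hom.hom.toMonoidHom (GmPts.unitOfPt (ptBase s))

theorem unitBase_injective : Function.Injective (unitBase (R := R) (C := C)) := fun s t h => by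
  have h1 := (Units.map_injective (f := (Scheme.ΓSpecIso (CommRingCat.of C)).hom.hom.toMonoidHom)
    (Scheme.ΓSpecIso (CommRingCat.of C)).commRingCatIsoToRingEquiv.injective) h
  have h2 : ptBase s = ptBase t := (GmPts.equiv _).injective h1
  exact ULift.ext _ _ (Additive.toMul.injective h2)

theorem unitBase_add (s t : (CGrpSh2.Gm Scheme.fppfPrecoverage (Spec (CommRingCat.of R))).obj.obj (op (sB R C))) :
    unitBase (s + t) = unitBase s * unitBase t :=
  (congrArg (Units.map (Scheme.ΓSpecIso (CommRingCat.of C)).hom.hom.toMonoidHom)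
    (GmPts.unitOfPt_mul (ptBase s) (ptBase t))).trans (map_mul _ _ _)

theorem unitBase_nat (h : C →ₐ[R] C')
    (s : (CGrpSh2.Gm Scheme.fppfPrecoverage (Spec (CommRingCat.of R))).obj.obj (op (sB R C))) :
    unitBase (((CGrpSh2.Gm Scheme.fppfPrecoverage (Spec (CommRingCat.of R))).obj.map (sHom h).op).hom s) =
      Units.map h.toRingHom.toMonoidHom (unitBase s) := Units.ext (by
  refine (congrArg (fun v => (Scheme.ΓSpecIso (CommRingCat.of C')).hom.hom (Units.val v))
    (GmPts.unitOfPt_comp (sHom h) (ptBase s))).trans ?_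
  exact ConcreteCategory.congr_hom (Scheme.ΓSpecIso_naturality (CommRingCat.ofHom h.toRingHom)) _)

variable {O}

/-- the action of a character on units -/
noncomputable def app (χ : Ch R O B) (m : sB R C ⟶ sB R B) : (C ⊗[R] O)ˣ →* Cˣ :=
  MonoidHom.mk' (fun w => unitBase ((χ.hom.app (op (Over.mk m))).hom (ofUnit O w))) fun v w => by
    rw [ofUnit_mul]
    exact (congrArg unitBase (map_add (χ.hom.app (op (Over.mk m))).hom _ _)).trans (unitBase_add _ _)

theorem app_res (χ : Ch R O C) (k : sB R B ⟶ sB R C) (m : sB R C' ⟶ sB R B) :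
    app (((Fd R O).obj.map k.op).hom χ : Ch R O B) m = app χ (m ≫ k) := rfl

theorem app_nat (χ : Ch R O B) (m : sB R C ⟶ sB R B) (h : C →ₐ[R] C') (w : (C ⊗[R] O)ˣ) :
    app χ (sHom h ≫ m) (Units.map (tmap O h).toRingHom.toMonoidHom w) = Units.map h.toRingHom.toMonoidHom (app χ m w) := by
  let r : Over.mk (sHom h ≫ m) ⟶ Over.mk m := Over.homMk (sHom h) rfl
  have hn := ConcreteCategory.congr_hom (χ.hom.naturality r.op) (ofUnit O w)
  have e : ((CGrpSh3.pushGm Scheme.fppfPrecoverage (fO R O)).obj.map (sHom h).op).hom (ofUnit O w) =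
      ofUnit O (Units.map (tmap O h).toRingHom.toMonoidHom w) :=
    unitPush_injective O (by rw [unitPush_nat, unitPush_ofUnit, unitPush_ofUnit])
  show unitBase ((χ.hom.app (op (Over.mk (sHom h ≫ m)))).hom _) = _
  rw [← e]
  exact (congrArg unitBase hn).trans (unitBase_nat h _)

theorem app_add (χ ψ : Ch R O B) (m : sB R C ⟶ sB R B) (w : (C ⊗[R] O)ˣ) :
    app (χ + ψ) m w = app χ m w * app ψ m w :=
  unitBase_add ((χ.hom.app (op (Over.mk m))).hom (ofUnit O w)) ((ψ.hom.app (op (Over.mk m))).hom (ofUnit O w))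

/-- characters are determined by their action on units over algebras -/
theorem ext_app {χ ψ : Ch R O B}
    (h : ∀ (C : Type u) [CommRing C] [Algebra R C] (g : B →ₐ[R] C) (w : (C ⊗[R] O)ˣ), app χ (sHom g) w = app ψ (sHom g) w) :
    χ = ψ := by
  refine Sheaf.hom_ext (NatTrans.ext (funext fun T => AddCommGrpCat.ext fun s => ?_))
  obtain ⟨T⟩ := T
  refine ULift.ext _ _ (Additive.toMul.injective (Over.OverMorphism.ext
    (Scheme.Cover.hom_ext T.left.left.affineCover _ _ fun i => ?_)))
  obtain ⟨A, ⟨e⟩⟩ : ∃ A : CommRingCat.{u}, Nonempty (Spec A ≅ T.left.left.affineCover.X i) := ⟨_, ⟨Iso.refl _⟩⟩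
  let φ : CommRingCat.of B ⟶ A := Spec.preimage ((e.hom ≫ T.left.left.affineCover.f i) ≫ T.hom.left)
  letI : Algebra R A := (φ.hom.comp (algebraMap R B)).toAlgebra
  let g : B →ₐ[R] A := { φ.hom with commutes' := fun _ => rfl }
  let j : sB R A ⟶ T.left := Over.homMk (e.hom ≫ T.left.left.affineCover.f i) (by
    rw [← Over.w T.hom, ← Category.assoc]
    show (_ ≫ T.hom.left) ≫ Spec.map (CommRingCat.ofHom (algebraMap R B)) =
      Spec.map (CommRingCat.ofHom (φ.hom.comp (algebraMap R B)))
    rw [CommRingCat.ofHom_comp, Spec.map_comp]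
    exact congrArg (· ≫ _) (Spec.map_preimage _).symm)
  let r : Over.mk (sHom g) ⟶ T := Over.homMk j (Over.OverMorphism.ext (Spec.map_preimage _).symm)
  let sA := ((CGrpSh3.pushGm Scheme.fppfPrecoverage (fO R O)).obj.map j.op).hom s
  have hs : ofUnit O (unitPush O sA) = sA := ofUnit_unitPush O sA
  have key : (χ.hom.app (op (Over.mk (sHom g)))).hom sA = (ψ.hom.app (op (Over.mk (sHom g)))).hom sA := by
    rw [← hs]
    exact unitBase_injective (h A g _)
  have n1 := ConcreteCategory.congr_hom (χ.hom.naturality r.op) s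
  have n2 := ConcreteCategory.congr_hom (ψ.hom.naturality r.op) s
  have := n1.symm.trans (key.trans n2)
  have h' := congrArg (fun z : (CGrpSh2.Gm Scheme.fppfPrecoverage (Spec (CommRingCat.of R))).obj.obj (op (sB R A)) =>
    (z.down.toMul : sB R A ⟶ _).left) this
  exact (cancel_epi e.hom).1 (((Category.assoc _ _ _).symm.trans h').trans (Category.assoc _ _ _))

end Groth.Agent.GalEt.DualPush
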