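import Groth.Agent.GalEt.H1Cech
import Groth.Agent.GalEt.PtsPush

/-!
# First cohomology of a sheaf over a base change from descent on split coverings
-/

set_option autoImplicit false
set_option maxHeartbeats 1000000
set_option linter.style.haveILetI false
set_option linter.unusedSectionVars false
set_option backward.isDefEq.respectTransparency.types false

universe u

open CategoryTheory CategoryTheory.Limits AlgebraicGeometry Opposite TensorProduct

namespace Groth.Agent.GalEt.H1Desc

open Groth.Agent.AdeqFound Adeq2Lib.CechAffine Adeq2Lib.CechSingle Adeq2Lib.AffVan DualPush H1Cech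

variable {R A : Type u} [CommRing R] [CommRing A] [Algebra R A]

/-- the object of an algebra over the new base -/
noncomputable abbrev spA (C : Type u) [CommRing C] [Algebra A C] : Over (Spec (CommRingCat.of A)) := sp (CommRingCat.of A) (Adeq.algOf (CommRingCat.of A) C)

/-- a compatible identification of objects -/
structure Ident (R : Type u) [CommRing R] (A : Type u) [CommRing A] [Algebra R A]
    (J : Over (Spec (CommRingCat.of A)) ⥤ Over (Spec (CommRingCat.of R))) where
  iso : ∀ (C : Type u) [CommRing C] [Algebra R C] [Algebra A C] [IsScalarTower R A C], sB R C ≅ J.obj (spA C)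
  nat : ∀ (C D : Type u) [CommRing C] [CommRing D] [Algebra R C] [Algebra A C] [IsScalarTower R A C]
      [Algebra R D] [Algebra A D] [IsScalarTower R A D] (h : C →ₐ[A] D),
      (iso D).hom ≫ J.map (spMap (CommRingCat.of A) (CommAlgCat.ofHom h : Adeq.algOf (CommRingCat.of A) C ⟶ Adeq.algOf (CommRingCat.of A) D)) =
        sHom (h.restrictScalars R) ≫ (iso C).hom

variable {J : Over (Spec (CommRingCat.of A)) ⥤ Over (Spec (CommRingCat.of R))} (I : Ident R A J)
  (F : (Over (Spec (CommRingCat.of R)))ᵒᵖ ⥤ AddCommGrpCat.{u + 1})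

/-- the section over an algebra given by a section of the pulled back presheaf -/
noncomputable def cv (C : Type u) [CommRing C] [Algebra R C] [Algebra A C] [IsScalarTower R A C] :
    (J.op ⋙ F).obj (op (spA C)) →+ F.obj (op (sB R C)) := (F.map (I.iso C).hom.op).hom

theorem cv_bij (C : Type u) [CommRing C] [Algebra R C] [Algebra A C] [IsScalarTower R A C] :
    Function.Bijective (cv I F C) := ConcreteCategory.bijective_of_isIso (F.map (I.iso C).hom.op)

theorem cv_nat (C D : Type u) [CommRing C] [CommRing D] [Algebra R C] [Algebra A C] [IsScalarTower R A C]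
    [Algebra R D] [Algebra A D] [IsScalarTower R A D] (h : C →ₐ[A] D) (y : (J.op ⋙ F).obj (op (spA C))) :
    cv I F D (((J.op ⋙ F).map (spMap (CommRingCat.of A) (CommAlgCat.ofHom h : Adeq.algOf (CommRingCat.of A) C ⟶ Adeq.algOf (CommRingCat.of A) D)).op).hom y) =
      (F.map (sHom (h.restrictScalars R)).op).hom (cv I F C y) :=
  (FppfH1.map_map F _ _ y).trans
    ((congrArg (fun m => (F.map (Quiver.Hom.op m)).hom y) (I.nat C D h)).trans (FppfH1.map_map F _ _ y).symm)

variable (A) in
/-- cocycles for a covering are coboundaries -/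
def Desc (B : Type u) [CommRing B] [Algebra R B] [Algebra A B] [IsScalarTower R A B] : Prop :=
  ∀ X : F.obj (op (sB R (B ⊗[A] B))),
    (∀ (L : Type u) [Field L] [Algebra R L] [Algebra A L] [IsScalarTower R A L] (f g k : B →ₐ[A] L),
      (F.map (sHom ((Algebra.TensorProduct.productMap g k).restrictScalars R)).op).hom X +
        (F.map (sHom ((Algebra.TensorProduct.productMap f g).restrictScalars R)).op).hom X =
      (F.map (sHom ((Algebra.TensorProduct.productMap f k).restrictScalars R)).op).hom X) →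
    ∃ χ : F.obj (op (sB R B)),
      (F.map (sHom ((Algebra.TensorProduct.includeLeft : B →ₐ[A] B ⊗[A] B).restrictScalars R)).op).hom χ =
        X + (F.map (sHom ((Algebra.TensorProduct.includeRight : B →ₐ[A] B ⊗[A] B).restrictScalars R)).op).hom χ

theorem cocycle_rel (B : Type u) [CommRing B] [Algebra R B] [Algebra A B] [IsScalarTower R A B]
    (x : (J.op ⋙ F).obj (op (pw (X₀ (R := (CommRingCat.of A)) B) 1))) (hx : D (X₀ (R := (CommRingCat.of A)) B) (J.op ⋙ F) 1 x = 0)
    (L : Type u) [Field L] [Algebra R L] [Algebra A L] [IsScalarTower R A L] (f g k : B →ₐ[A] L) :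
    let X' := cv I F (B ⊗[A] B) (((J.op ⋙ F).map (m2 (CommRingCat.of A) B).op).hom x)
    (F.map (sHom ((Algebra.TensorProduct.productMap g k).restrictScalars R)).op).hom X' +
        (F.map (sHom ((Algebra.TensorProduct.productMap f g).restrictScalars R)).op).hom X' =
      (F.map (sHom ((Algebra.TensorProduct.productMap f k).restrictScalars R)).op).hom X' := by
  intro X'
  let P := J.op ⋙ F
  let sm : (B →ₐ[A] L) → (spA L ⟶ X₀ (R := (CommRingCat.of A)) B) := fun h =>
    spMap (CommRingCat.of A) (CommAlgCat.ofHom h : Adeq.algOf (CommRingCat.of A) B ⟶ Adeq.algOf (CommRingCat.of A) L)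
  let l3 : spA L ⟶ pw (X₀ (R := (CommRingCat.of A)) B) 2 := Pi.lift ![sm f, sm g, sm k]
  let pr2 : (B →ₐ[A] L) → (B →ₐ[A] L) → (B ⊗[A] B →ₐ[A] L) := fun u v => Algebra.TensorProduct.productMap u v
  let sp2 : (B →ₐ[A] L) → (B →ₐ[A] L) → (spA L ⟶ spA (B ⊗[A] B)) := fun u v =>
    spMap (CommRingCat.of A) (CommAlgCat.ofHom (pr2 u v) : Adeq.algOf (CommRingCat.of A) (B ⊗[A] B) ⟶ Adeq.algOf (CommRingCat.of A) L)
  have e0 : ∀ u v, sp2 u v ≫ spMap (CommRingCat.of A) (c0 (CommRingCat.of A) B) = sm u := fun u v => by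
    refine ((Functor.map_comp _ _ _).symm).trans (congrArg (fun w => spMap (CommRingCat.of A) w) (CommAlgCat.hom_ext (AlgHom.ext fun b => ?_)))
    show Algebra.TensorProduct.productMap u v (b ⊗ₜ 1) = u b
    simp
  have e1 : ∀ u v, sp2 u v ≫ spMap (CommRingCat.of A) (c1 (CommRingCat.of A) B) = sm v := fun u v => by
    refine ((Functor.map_comp _ _ _).symm).trans (congrArg (fun w => spMap (CommRingCat.of A) w) (CommAlgCat.hom_ext (AlgHom.ext fun b => ?_)))
    show Algebra.TensorProduct.productMap u v (1 ⊗ₜ b) = v b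
    simp
  have f0 : l3 ≫ fc (X₀ (R := (CommRingCat.of A)) B) 0 = sp2 g k ≫ m2 (CommRingCat.of A) B := Pi.hom_ext _ _ fun i => by
    rw [Category.assoc, fc_π, Category.assoc, H1Cech.m2, Pi.lift_π, Pi.lift_π]
    fin_cases i
    · exact (e0 g k).symm
    · exact (e1 g k).symm
  have f1 : l3 ≫ fc (X₀ (R := (CommRingCat.of A)) B) 1 = sp2 f k ≫ m2 (CommRingCat.of A) B := Pi.hom_ext _ _ fun i => by
    rw [Category.assoc, fc_π, Category.assoc, H1Cech.m2, Pi.lift_π, Pi.lift_π]
    fin_cases i
    · exact (e0 f k).symm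
    · exact (e1 f k).symm
  have f2 : l3 ≫ fc (X₀ (R := (CommRingCat.of A)) B) 2 = sp2 f g ≫ m2 (CommRingCat.of A) B := Pi.hom_ext _ _ fun i => by
    rw [Category.assoc, fc_π, Category.assoc, H1Cech.m2, Pi.lift_π, Pi.lift_π]
    fin_cases i
    · exact (e0 f g).symm
    · exact (e1 f g).symm
  have hx' := congrArg (P.map l3.op).hom hx
  rw [D_apply, Fin.sum_univ_three] at hx'
  simp only [Fin.val_zero, Fin.val_one, Fin.val_two, pow_zero, pow_one, neg_one_sq, one_smul, neg_smul] at hx'
  rw [map_zero, map_add, map_add, map_neg, FppfH1.map_map, FppfH1.map_map, FppfH1.map_map, f0, f1, f2,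
    ← FppfH1.map_map, ← FppfH1.map_map, ← FppfH1.map_map] at hx'
  have h3 : (F.map (sHom ((pr2 g k).restrictScalars R)).op).hom X' +
      (F.map (sHom ((pr2 f g).restrictScalars R)).op).hom X' =
      (F.map (sHom ((pr2 f k).restrictScalars R)).op).hom X' := by
    have h' := congrArg (cv I F L) hx'
    rw [map_zero, map_add, map_add, map_neg, cv_nat I F (B ⊗[A] B) L (pr2 g k), cv_nat I F (B ⊗[A] B) L (pr2 f k),
      cv_nat I F (B ⊗[A] B) L (pr2 f g)] at h'
    rw [← sub_eq_zero, ← h']
    abel
  exact h3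

/-- descent gives exactness of the Cech complex in degree one -/
theorem ex_of_desc (I : Ident R A J) (B : Type u) [CommRing B] [Algebra R B] [Algebra A B] [IsScalarTower R A B]
    (hF : Desc A F B) : Ex (X₀ (R := (CommRingCat.of A)) B) (J.op ⋙ F) 0 := by
  intro x hx
  let P := J.op ⋙ F
  obtain ⟨χ, hX'⟩ := hF _ (cocycle_rel I F B x hx)
  obtain ⟨b, hb⟩ := (cv_bij I F B).2 χ
  let y : P.obj (op (pw (X₀ (R := (CommRingCat.of A)) B) 0)) := - (P.map (Pi.π (fun _ : Fin 1 => X₀ (R := (CommRingCat.of A)) B) 0).op).hom b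
  refine ⟨y, ?_⟩
  have hm2 : Function.Injective (P.map (m2 (CommRingCat.of A) B).op).hom :=
    (AddCommGrpCat.mono_iff_injective _).1 inferInstance
  refine hm2 ((cv_bij I F (B ⊗[A] B)).1 ?_)
  have h0 : m2 (CommRingCat.of A) B ≫ fc (X₀ (R := (CommRingCat.of A)) B) 0 ≫ Pi.π (fun _ : Fin 1 => X₀ (R := (CommRingCat.of A)) B) 0 = spMap (CommRingCat.of A) (c1 (CommRingCat.of A) B) := by
    rw [fc_π]; exact m2_π1 (CommRingCat.of A) B
  have h1 : m2 (CommRingCat.of A) B ≫ fc (X₀ (R := (CommRingCat.of A)) B) 1 ≫ Pi.π (fun _ : Fin 1 => X₀ (R := (CommRingCat.of A)) B) 0 = spMap (CommRingCat.of A) (c0 (CommRingCat.of A) B) := by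
    rw [fc_π]; exact m2_π0 (CommRingCat.of A) B
  rw [D_apply, Fin.sum_univ_two]
  simp only [Fin.val_zero, Fin.val_one, pow_zero, pow_one, one_smul, neg_smul, y, P, map_neg, map_add, FppfH1.map_map, neg_neg,
    Category.assoc, h0, h1]
  rw [show cv I F (B ⊗[A] B) ((P.map (spMap (CommRingCat.of A) (c1 (CommRingCat.of A) B)).op).hom b) = _ from cv_nat I F B (B ⊗[A] B) Algebra.TensorProduct.includeRight b,
    show cv I F (B ⊗[A] B) ((P.map (spMap (CommRingCat.of A) (c0 (CommRingCat.of A) B)).op).hom b) = _ from cv_nat I F B (B ⊗[A] B) Algebra.TensorProduct.includeLeft b, hb,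
    neg_add_eq_iff_eq_add, hX', add_comm]

variable (R A) in
/-- the identification for restriction to an affine object -/
noncomputable def identOver : Ident R A (Over.map (𝟙 (Spec (CommRingCat.of A))) ⋙ Over.map (sB R A).hom) where
  iso C _ _ _ _ := Over.isoMk (Iso.refl _) (by
    show 𝟙 _ ≫ (((spA (A := A) C).hom ≫ 𝟙 _) ≫ (sB R A).hom) = Spec.map (CommRingCat.ofHom (algebraMap R C))
    rw [Category.id_comp, Category.comp_id, sp_hom]
    refine (Spec.map_comp _ _).symm.trans ?_
    exact congrArg Spec.map (CommRingCat.hom_ext (IsScalarTower.algebraMap_eq R A C).symm))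
  nat C D _ _ _ _ _ _ _ _ h := Over.OverMorphism.ext ((Category.id_comp _).trans (Category.comp_id _).symm)

variable (R) in
/-- the identification for the base itself -/
noncomputable def identSelf : Ident R R (Over.map (𝟙 (Spec (CommRingCat.of R)))) where
  iso C _ i₁ i₂ it := Over.isoMk (Iso.refl _) (by
    show 𝟙 _ ≫ (@spA R _ C _ i₂).hom ≫ 𝟙 _ = Spec.map (CommRingCat.ofHom (@algebraMap R C _ _ i₁))
    rw [Category.id_comp, Category.comp_id, sp_hom]
    exact congrArg Spec.map (CommRingCat.hom_ext (RingHom.ext fun r =>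
      (@IsScalarTower.algebraMap_apply R R C _ _ _ _ i₂ i₁ it r).symm)))
  nat C D _ _ _ _ _ _ _ _ h := Over.OverMorphism.ext ((Category.id_comp _).trans (Category.comp_id _).symm)

/-- the first cohomology vanishes when every covering is refined by one with descent -/
theorem subsingleton_H_of_desc (I : Ident R A J) (T : Type u) [CommRing T] [Algebra R T] [Module.FaithfullyFlat R T]
    [Algebra.FinitePresentation R T] (G : AbT (Spec (CommRingCat.of A)))
    (hG : Adeq2Lib.AffVan.pr G (𝟙 (Spec (CommRingCat.of A))) = J.op ⋙ F)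
    (hF : ∀ (B : Type u) [CommRing B] [Algebra R B] [Algebra A B] [IsScalarTower R A B] [Module.FaithfullyFlat A B]
      [Algebra.FinitePresentation A B] (_ : T →ₐ[R] B), Desc A F B) :
    Subsingleton (BigSite.H Scheme.fppfPrecoverage (Spec (CommRingCat.of A)) G 1) := by
  refine H1Cech.subsingleton_H_one G fun B₀ _ _ _ hlfp => ?_
  letI iA : Algebra A B₀ := (inferInstance : Algebra (CommRingCat.of A) B₀)
  letI : Algebra R B₀ := ((algebraMap A B₀).comp (algebraMap R A)).toAlgebra
  haveI : IsScalarTower R A B₀ := IsScalarTower.of_algebraMap_eq fun _ => rfl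
  haveI : Algebra.FinitePresentation A B₀ :=
    RingHom.finitePresentation_algebraMap.1 ((HasRingHomProperty.Spec_iff (P := @LocallyOfFinitePresentation)).1 hlfp)
  haveI : Module.FaithfullyFlat A B₀ := (inferInstance : Module.FaithfullyFlat (CommRingCat.of A) B₀)
  haveI : Module.FaithfullyFlat A (B₀ ⊗[R] T) := Module.FaithfullyFlat.trans A B₀ (B₀ ⊗[R] T)
  haveI : Algebra.FinitePresentation A (B₀ ⊗[R] T) := Algebra.FinitePresentation.trans A B₀ (B₀ ⊗[R] T)
  have hlfp' : LocallyOfFinitePresentation (Spec.map (CommRingCat.ofHom (algebraMap A (B₀ ⊗[R] T)))) :=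
    (HasRingHomProperty.Spec_iff (P := @LocallyOfFinitePresentation)).2
      (RingHom.finitePresentation_algebraMap.2 inferInstance)
  refine ⟨B₀ ⊗[R] T, inferInstance, inferInstance, inferInstance, hlfp',
    (Algebra.TensorProduct.includeLeft : B₀ →ₐ[A] B₀ ⊗[R] T), ?_⟩
  rw [hG]
  exact ex_of_desc F I (B₀ ⊗[R] T) (hF (B₀ ⊗[R] T) Algebra.TensorProduct.includeRight)

variable (A) in
/-- the first cohomology over an affine object -/
theorem subsingleton_HU_of_desc (F : BigSite.Ab Scheme.fppfPrecoverage (Spec (CommRingCat.of R)))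
    (T : Type u) [CommRing T] [Algebra R T] [Module.FaithfullyFlat R T] [Algebra.FinitePresentation R T]
    (hF : ∀ (B : Type u) [CommRing B] [Algebra R B] [Algebra A B] [IsScalarTower R A B] [Module.FaithfullyFlat A B]
      [Algebra.FinitePresentation A B] (_ : T →ₐ[R] B), Desc A F.obj B) :
    Subsingleton (BigSite.HU Scheme.fppfPrecoverage F 1 (sB R A)) :=
  subsingleton_H_of_desc F.obj (identOver R A) T _ rfl hF

/-- the first cohomology over the base -/
theorem subsingleton_H_base_of_desc (F : BigSite.Ab Scheme.fppfPrecoverage (Spec (CommRingCat.of R)))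
    (T : Type u) [CommRing T] [Algebra R T] [Module.FaithfullyFlat R T] [Algebra.FinitePresentation R T]
    (hF : ∀ (B : Type u) [CommRing B] [Algebra R B] [Module.FaithfullyFlat R B]
      [Algebra.FinitePresentation R B] (_ : T →ₐ[R] B), Desc R F.obj B) :
    Subsingleton (BigSite.H Scheme.fppfPrecoverage (Spec (CommRingCat.of R)) F 1) :=
  subsingleton_H_of_desc (A := R) F.obj (identSelf R) T _ rfl fun B _ i₁ i₂ it hff hfp ρ => by
    obtain rfl : i₁ = i₂ := Algebra.algebra_ext _ _ fun r => @IsScalarTower.algebraMap_apply R R B _ _ _ _ i₂ i₁ it r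
    exact hF B ρ

end Groth.Agent.GalEt.H1Desc
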