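import Mathlib.Algebra.Polynomial.Laurent
import Mathlib.RingTheory.Spectrum.Prime.Topology
import Mathlib.Topology.LocallyConstant.Basic
import Mathlib.RingTheory.Polynomial.UniqueFactorization
import Mathlib.RingTheory.Nilpotent.Basic

/-!
# The degree of a unit of a Laurent polynomial ring
-/

set_option autoImplicit false
set_option linter.style.haveILetI false
set_option backward.isDefEq.respectTransparency.types false

universe u v

open LaurentPolynomial

namespace Groth.Agent.GalEt.LaurentDeg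

theorem hom_ext {R : Type u} [CommRing R] {S : Type v} [CommRing S] {f g : R[T;T⁻¹] →+* S}
    (hC : ∀ r, f (C r) = g (C r)) (hT : f (T 1) = g (T 1)) : f = g := by
  refine IsLocalization.ringHom_ext (Submonoid.powers (Polynomial.X : Polynomial R)) (Polynomial.ringHom_ext ?_ ?_)
  · intro r
    simpa [LaurentPolynomial.algebraMap_eq_toLaurent] using hC r
  · simpa [LaurentPolynomial.algebraMap_eq_toLaurent] using hT

/-- the variable as a unit -/
noncomputable def unitT (R : Type u) [CommRing R] : (R[T;T⁻¹])ˣ := (isUnit_T 1).unit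

theorem val_unitT (R : Type u) [CommRing R] : (unitT R : R[T;T⁻¹]) = T 1 := rfl

/-- the map on coefficients -/
noncomputable def lmap {R : Type u} {S : Type v} [CommRing R] [CommRing S] (φ : R →+* S) : R[T;T⁻¹] →+* S[T;T⁻¹] :=
  AddMonoidAlgebra.mapRingHom ℤ φ

theorem coeff_lmap {R : Type u} {S : Type v} [CommRing R] [CommRing S] (φ : R →+* S) (p : R[T;T⁻¹]) (n : ℤ) :
    (lmap φ p).coeff n = φ (p.coeff n) := by
  simp [lmap]

theorem lmap_C {R : Type u} {S : Type v} [CommRing R] [CommRing S] (φ : R →+* S) (r : R) : lmap φ (C r) = C (φ r) :=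
  LaurentPolynomial.ext fun n => by rw [coeff_lmap, C_apply, C_apply]; split_ifs <;> simp

theorem lmap_T {R : Type u} {S : Type v} [CommRing R] [CommRing S] (φ : R →+* S) (n : ℤ) : lmap φ (T n) = T n :=
  LaurentPolynomial.ext fun m => by rw [coeff_lmap, T_apply, T_apply]; split_ifs <;> simp

theorem isUnit_eq_monomial {L : Type u} [CommRing L] [IsDomain L] {p : L[T;T⁻¹]} (h : IsUnit p) :
    ∃ (a : L) (n : ℤ), a ≠ 0 ∧ p = C a * T n := by
  obtain ⟨v, hv⟩ := h.exists_right_inv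
  obtain ⟨i, p', hp⟩ := exists_T_pow p
  obtain ⟨j, v', hv'⟩ := exists_T_pow v
  have h1 : p' * v' = Polynomial.X ^ (i + j) := Polynomial.toLaurent_injective (by
    rw [map_mul, hp, hv', Polynomial.toLaurent_X_pow]
    push_cast
    rw [T_add]
    linear_combination (T (i : ℤ) * T (j : ℤ)) * hv)
  obtain ⟨k, -, hk⟩ := (dvd_prime_pow Polynomial.prime_X _).1 (Dvd.intro v' h1)
  obtain ⟨w, hw⟩ := hk.symm
  obtain ⟨a, ha, hwa⟩ := Polynomial.isUnit_iff.1 w.isUnit
  refine ⟨a, (k : ℤ) - i, ha.ne_zero, ?_⟩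
  rw [← hw, ← hwa, map_mul, Polynomial.toLaurent_X_pow, Polynomial.toLaurent_C] at hp
  rw [T_sub, ← mul_assoc, mul_comm (C a) (T (k : ℤ)), hp, mul_assoc, ← T_add, add_neg_cancel, T_zero, mul_one]

theorem coeff_C_mul_T {L : Type u} [CommRing L] (a : L) (n m : ℤ) : (C a * T n).coeff m = if n = m then a else 0 := by
  rw [← single_eq_C_mul_T]
  exact Finsupp.single_apply

variable {D : Type u} [CommRing D]

theorem existsUnique_coeff (u : (D[T;T⁻¹])ˣ) (P : PrimeSpectrum D) :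
    ∃! m : ℤ, (u : D[T;T⁻¹]).coeff m ∉ P.asIdeal := by
  obtain ⟨a, n, ha, hu⟩ := isUnit_eq_monomial (u.isUnit.map (lmap (Ideal.Quotient.mk P.asIdeal)))
  have h : ∀ m, Ideal.Quotient.mk P.asIdeal ((u : D[T;T⁻¹]).coeff m) = if n = m then a else 0 := fun m => by
    rw [← coeff_lmap, hu, coeff_C_mul_T]
  refine ⟨n, fun hm => ha ?_, fun m hm => ?_⟩
  · have := h n
    rw [if_pos rfl, Ideal.Quotient.eq_zero_iff_mem.2 hm] at this
    exact this.symm
  · by_contra hne
    refine hm (Ideal.Quotient.eq_zero_iff_mem.1 ?_)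
    rw [h, if_neg (Ne.symm hne)]

/-- the degree of a unit at a point -/
noncomputable def deg (u : (D[T;T⁻¹])ˣ) (P : PrimeSpectrum D) : ℤ := (existsUnique_coeff u P).choose

theorem deg_eq_iff (u : (D[T;T⁻¹])ˣ) (P : PrimeSpectrum D) (m : ℤ) :
    deg u P = m ↔ (u : D[T;T⁻¹]).coeff m ∉ P.asIdeal :=
  ⟨fun h => h ▸ (existsUnique_coeff u P).choose_spec.1, fun h => ((existsUnique_coeff u P).choose_spec.2 m h).symm⟩

theorem isLocallyConstant_deg (u : (D[T;T⁻¹])ˣ) : IsLocallyConstant (deg u) :=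
  IsLocallyConstant.iff_isOpen_fiber.2 fun m => by
    have e : deg u ⁻¹' {m} = (PrimeSpectrum.basicOpen ((u : D[T;T⁻¹]).coeff m) : Set (PrimeSpectrum D)) := by
      ext P
      exact deg_eq_iff u P m
    rw [e]
    exact (PrimeSpectrum.basicOpen _).2

/-- the degree of a unit, a locally constant function -/
noncomputable def ldeg (u : (D[T;T⁻¹])ˣ) : LocallyConstant (PrimeSpectrum D) ℤ := ⟨deg u, isLocallyConstant_deg u⟩

theorem ldeg_map {E : Type v} [CommRing E] (φ : D →+* E) (u : (D[T;T⁻¹])ˣ) (Q : PrimeSpectrum E) :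
    ldeg (Units.map (lmap φ).toMonoidHom u) Q = ldeg u (PrimeSpectrum.comap φ Q) := by
  refine (deg_eq_iff _ _ _).2 ?_
  show (lmap φ (u : D[T;T⁻¹])).coeff _ ∉ _
  rw [coeff_lmap]
  exact (deg_eq_iff u (PrimeSpectrum.comap φ Q) _).1 rfl

theorem exists_quot_eq (u : (D[T;T⁻¹])ˣ) (P : PrimeSpectrum D) :
    ∃ a : D ⧸ P.asIdeal, a ≠ 0 ∧ lmap (Ideal.Quotient.mk P.asIdeal) (u : D[T;T⁻¹]) = C a * T (ldeg u P) := by
  obtain ⟨a, n, ha, hu⟩ := isUnit_eq_monomial (u.isUnit.map (lmap (Ideal.Quotient.mk P.asIdeal)))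
  have hn : ldeg u P = n := (deg_eq_iff u P n).2 fun hm => ha (by
    have h := coeff_lmap (Ideal.Quotient.mk P.asIdeal) (u : D[T;T⁻¹]) n
    rw [Ideal.Quotient.eq_zero_iff_mem.2 hm, hu, coeff_C_mul_T, if_pos rfl] at h
    exact h)
  exact ⟨a, ha, hn ▸ hu⟩

theorem ldeg_mul (u v : (D[T;T⁻¹])ˣ) (P : PrimeSpectrum D) : ldeg (u * v) P = ldeg u P + ldeg v P := by
  obtain ⟨a, ha, hu⟩ := exists_quot_eq u P
  obtain ⟨b, hb, hv⟩ := exists_quot_eq v P
  refine (deg_eq_iff (u * v) P _).2 fun hm => mul_ne_zero ha hb ?_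
  have h := coeff_lmap (Ideal.Quotient.mk P.asIdeal) ((u * v : (D[T;T⁻¹])ˣ) : D[T;T⁻¹]) (ldeg u P + ldeg v P)
  rw [Ideal.Quotient.eq_zero_iff_mem.2 hm, Units.val_mul, map_mul, hu, hv,
    show C a * T (ldeg u P) * (C b * T (ldeg v P)) = C (a * b) * T (ldeg u P + ldeg v P) by rw [map_mul, T_add]; ring,
    coeff_C_mul_T, if_pos rfl] at h
  exact h

theorem ldeg_one (P : PrimeSpectrum D) : ldeg (1 : (D[T;T⁻¹])ˣ) P = 0 := by
  have := ldeg_mul 1 1 P
  rw [one_mul] at this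
  linarith

/-- a grouplike unit of degree zero is trivial -/
theorem eq_one_of_ldeg_eq_zero (u : (D[T;T⁻¹])ˣ)
    (hu : ∀ {E : Type u} [CommRing E] (φ : D →+* E) (x y : Eˣ),
      eval₂ φ x (u : D[T;T⁻¹]) * eval₂ φ y (u : D[T;T⁻¹]) = eval₂ φ (x * y) (u : D[T;T⁻¹]))
    (h : ∀ P, ldeg u P = 0) : u = 1 := by
  classical
  let U : D[T;T⁻¹] := u
  let φ : D →+* (D[T;T⁻¹])[T;T⁻¹] := C.comp C
  let x : ((D[T;T⁻¹])[T;T⁻¹])ˣ := Units.map (C : D[T;T⁻¹] →+* (D[T;T⁻¹])[T;T⁻¹]).toMonoidHom (unitT D)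
  let y : ((D[T;T⁻¹])[T;T⁻¹])ˣ := unitT D[T;T⁻¹]
  have hx : eval₂ φ x = (C : D[T;T⁻¹] →+* (D[T;T⁻¹])[T;T⁻¹]) := hom_ext (fun r => by simp [φ])
    (by rw [eval₂_T, zpow_one]; rfl)
  have hy : eval₂ φ y = lmap (C : D →+* D[T;T⁻¹]) := hom_ext (fun r => by simp [φ, lmap_C])
    (by rw [eval₂_T, zpow_one, lmap_T]; rfl)
  have key : ∀ m l, U.coeff m * U.coeff l = if l = m then U.coeff l else 0 := fun m l => by
    have e := congrArg (fun z : (D[T;T⁻¹])[T;T⁻¹] => (z.coeff l).coeff m) (hu φ x y)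
    have h1 : ∀ p : D[T;T⁻¹], (eval₂ φ (x * y) p).coeff l = C (p.coeff l) * T l := fun p => by
      induction p using LaurentPolynomial.induction_on' with
      | add p q hp hq => rw [map_add, AddMonoidAlgebra.coeff_add, Finsupp.add_apply, hp, hq, AddMonoidAlgebra.coeff_add, Finsupp.add_apply, map_add, add_mul]
      | C_mul_T n a =>
        have hz : (((x * y) ^ n : ((D[T;T⁻¹])[T;T⁻¹])ˣ) : (D[T;T⁻¹])[T;T⁻¹]) = C (T n) * T n := by
          have hh : (x * y) ^ n = x ^ n * y ^ n := mul_zpow x y n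
          erw [hh, Units.val_mul]
          congr 1
          · rw [show (x ^ n : ((D[T;T⁻¹])[T;T⁻¹])ˣ) = Units.map (C : D[T;T⁻¹] →+* (D[T;T⁻¹])[T;T⁻¹]).toMonoidHom (unitT D ^ n) from (map_zpow _ _ _).symm]
            show C ((unitT D ^ n : (D[T;T⁻¹])ˣ) : D[T;T⁻¹]) = C (T n)
            rw [← eval₂_T (C : D →+* D[T;T⁻¹]) (unitT D) n,
              show eval₂ (C : D →+* D[T;T⁻¹]) (unitT D) = RingHom.id _ from hom_ext (fun r => by simp) (by rw [eval₂_T, zpow_one]; rfl)]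
            rfl
          · rw [← eval₂_T φ y n, hy, lmap_T]
        rw [eval₂_C_mul_T, hz, ← mul_assoc]
        show (C (C a) * C (T n) * T n).coeff l = _
        rw [← map_mul, coeff_C_mul_T, coeff_C_mul_T]
        split_ifs with hnl
        · rw [hnl]
        · simp
    rw [hx, hy] at e
    rw [h1, ← single_eq_C, AddMonoidAlgebra.coeff_single_zero_mul, coeff_lmap, mul_comm U] at e
    rw [← single_eq_C, AddMonoidAlgebra.coeff_single_zero_mul, single_eq_C, coeff_C_mul_T, mul_comm] at e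
    exact e
  have hnil : ∀ m, m ≠ 0 → U.coeff m = 0 := fun m hm => by
    have hi : IsIdempotentElem (U.coeff m) := (key m m).trans (if_pos rfl)
    refine IsIdempotentElem.eq_zero_of_isNilpotent hi ?_
    rw [← mem_nilradical, nilradical_eq_sInf, Ideal.mem_sInf]
    intro P hP
    by_contra hc
    exact hm (((deg_eq_iff u ⟨P, hP⟩ m).2 hc).symm.trans (h ⟨P, hP⟩))
  have hU : U = C (U.coeff 0) := by
    ext n
    rw [C_apply]
    split_ifs with hn
    · rw [hn]
    · exact hnil n hn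
  have h0 : IsIdempotentElem (U.coeff 0) := (key 0 0).trans (if_pos rfl)
  refine Units.ext (((IsIdempotentElem.iff_eq_one_of_isUnit u.isUnit).1 ?_))
  show U * U = U
  rw [hU, ← map_mul, h0]

end Groth.Agent.GalEt.LaurentDeg
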