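import Mathlib.AlgebraicGeometry.Morphisms.ClosedImmersion
import Mathlib.AlgebraicGeometry.Morphisms.Separated
import Mathlib.AlgebraicGeometry.Morphisms.FiniteType
import Mathlib.AlgebraicGeometry.Limits
import Mathlib.RingTheory.Spectrum.Prime.Topology
import Mathlib.Order.Filter.Cofinite

/-!
# Points with values in products of local rings and in restricted products
-/

set_option autoImplicit false
set_option linter.style.haveILetI false
set_option backward.isDefEq.respectTransparency.types false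

universe u

open CategoryTheory CategoryTheory.Limits AlgebraicGeometry Opposite

namespace Groth.Agent.GalEt.ProdPts

/-- two points with values in a ring agree if they agree along jointly injective maps -/
theorem eq_of_jointly_injective {X Z : Scheme.{u}} (f : X ⟶ Z) [IsSeparated f] {α : Type*} (R : CommRingCat.{u})
    (L : α → CommRingCat.{u}) (p : ∀ i, R ⟶ L i) (hp : ∀ r : R, (∀ i, (p i).hom r = 0) → r = 0)
    (a b : Spec R ⟶ X) (hf : a ≫ f = b ≫ f) (h : ∀ i, Spec.map (p i) ≫ a = Spec.map (p i) ≫ b) : a = b := by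
  let d := pullback.diagonal f
  let t : Spec R ⟶ pullback f f := pullback.lift a b hf
  let e : pullback d t ⟶ Spec R := pullback.snd d t
  haveI : IsClosedImmersion d := IsSeparated.isClosedImmersion_diagonal
  haveI : IsClosedImmersion e := inferInstanceAs (IsClosedImmersion (pullback.snd d t))
  have hfac : ∀ i, ∃ q : Spec (L i) ⟶ pullback d t, q ≫ e = Spec.map (p i) := fun i =>
    ⟨pullback.lift (Spec.map (p i) ≫ a) (Spec.map (p i)) (pullback.hom_ext
      (by rw [Category.assoc, Category.assoc, pullback.diagonal_fst, Category.comp_id, Category.assoc]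
          exact (congrArg (Spec.map (p i) ≫ ·) (pullback.lift_fst a b hf)).symm)
      (by rw [Category.assoc, Category.assoc, pullback.diagonal_snd, Category.comp_id, Category.assoc]
          exact (h i).trans (congrArg (Spec.map (p i) ≫ ·) (pullback.lift_snd a b hf)).symm)),
      pullback.lift_snd _ _ _⟩
  haveI : IsAffine (pullback d t) := isAffine_of_isAffineHom e
  have hinj : Function.Injective e.appTop := by
    rw [injective_iff_map_eq_zero]
    intro r hr
    obtain ⟨r, rfl⟩ : ∃ r' : R, (Scheme.ΓSpecIso R).inv r' = r :=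
      ⟨(Scheme.ΓSpecIso R).hom r, Iso.hom_inv_id_apply (Scheme.ΓSpecIso R) r⟩
    suffices r = 0 by rw [this, map_zero]
    refine hp r fun i => ?_
    obtain ⟨q, hq⟩ := hfac i
    have h1 : (Spec.map (p i)).appTop ((Scheme.ΓSpecIso R).inv r) = 0 := by
      rw [← hq, Scheme.Hom.comp_appTop]
      show q.appTop (e.appTop _) = 0
      rw [hr, map_zero]
    have h2 := ConcreteCategory.congr_hom (Scheme.ΓSpecIso_naturality (p i)) ((Scheme.ΓSpecIso R).inv r)
    rw [ConcreteCategory.comp_apply, ConcreteCategory.comp_apply, h1, map_zero, Iso.inv_hom_id_apply] at h2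
    exact h2.symm
  haveI : IsIso e := IsClosedImmersion.isIso_of_injective_of_isAffine hinj
  have h1 : pullback.fst d t = e ≫ a := by
    have := congrArg (· ≫ pullback.fst f f) (pullback.condition (f := d) (g := t))
    simpa [d, t, e, Category.assoc, show pullback.lift a b hf ≫ pullback.fst f f = a from pullback.lift_fst a b hf] using this
  have h2 : pullback.fst d t = e ≫ b := by
    have := congrArg (· ≫ pullback.snd f f) (pullback.condition (f := d) (g := t))
    simpa [d, t, e, Category.assoc, show pullback.lift a b hf ≫ pullback.snd f f = b from pullback.lift_snd a b hf] using this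
  exact (cancel_epi e).1 (h1.symm.trans h2)

/-- a point with values in a product of local rings -/
theorem exists_point_pi {X : Scheme.{u}} [CompactSpace X] {α : Type u} (L : α → CommRingCat.{u})
    [∀ i, IsLocalRing (L i)] (x : ∀ i, Spec (L i) ⟶ X) :
    ∃ z : Spec (CommRingCat.of (∀ i, L i)) ⟶ X,
      ∀ i, Spec.map (CommRingCat.ofHom (Pi.evalRingHom (fun i => (L i : Type u)) i)) ≫ z = x i := by
  classical
  choose U hU hxU _ using fun p : X => exists_isAffineOpen_mem_and_subset (U := (⊤ : X.Opens)) (x := p) trivial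
  obtain ⟨t, ht⟩ := isCompact_univ.elim_finite_subcover (fun p : X => (U p : Set X)) (fun p => (U p).isOpen)
    (fun p _ => Set.mem_iUnion.2 ⟨p, hxU p⟩)
  have hc : ∀ i, ∃ j : {q : X // q ∈ t}, (x i) (IsLocalRing.closedPoint (L i)) ∈ U j.1 := fun i => by
    obtain ⟨p, hpt, hp⟩ := Set.mem_iUnion₂.1 (ht (Set.mem_univ ((x i) (IsLocalRing.closedPoint (L i)))))
    exact ⟨⟨p, hpt⟩, hp⟩
  choose c hc' using hc
  have hrange : ∀ i, Set.range (x i) ⊆ Set.range (hU (c i).1).fromSpec := by
    rintro i _ ⟨y, rfl⟩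
    rw [IsAffineOpen.range_fromSpec]
    exact ((IsLocalRing.specializes_closedPoint (y : PrimeSpectrum (L i))).map (x i).continuous).mem_open
      (U _).isOpen (hc' i)
  let φ : ∀ i, Γ(X, U (c i).1) ⟶ L i := fun i =>
    Spec.preimage (IsOpenImmersion.lift (hU (c i).1).fromSpec (x i) (hrange i))
  have hφ : ∀ i, Spec.map (φ i) ≫ (hU (c i).1).fromSpec = x i := fun i => by
    rw [Spec.map_preimage, IsOpenImmersion.lift_fac]
  let P : {q : X // q ∈ t} → CommRingCat.{u} := fun j => CommRingCat.of (∀ i : {i // c i = j}, L i.1)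
  let z₁ : ∀ j, Spec (P j) ⟶ X := fun j => Spec.map (CommRingCat.ofHom
    (RingHom.pi fun i : {i // c i = j} => ((φ i.1).hom.comp (X.presheaf.map (eqToHom (by rw [i.2])).op).hom))) ≫
      (hU j.1).fromSpec
  haveI : Finite {q : X // q ∈ t} := inferInstance
  let w : (∀ i, L i) →+* (∀ j : {q : X // q ∈ t}, P j) :=
    RingHom.pi fun j => RingHom.pi fun i : {i // c i = j} => Pi.evalRingHom (fun i => (L i : Type u)) i.1
  have hwb : Function.Bijective w := by
    refine ⟨fun a b h => funext fun i => congrFun (congrFun h (c i)) ⟨i, rfl⟩, fun (y : ∀ j : {q : X // q ∈ t}, P j) =>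
      ⟨fun i => (show ∀ i' : {i' // c i' = c i}, L i'.1 from y (c i)) ⟨i, rfl⟩, funext fun j => funext fun i => ?_⟩⟩
    obtain ⟨i, rfl⟩ := i
    rfl
  refine ⟨Spec.map (CommRingCat.ofHom (RingEquiv.ofBijective w hwb).symm.toRingHom) ≫ inv (sigmaSpec P) ≫ Sigma.desc z₁,
    fun i => ?_⟩
  let π : (∀ j : {q : X // q ∈ t}, P j) →+* L i :=
    (Pi.evalRingHom (fun i' : {i' // c i' = c i} => (L i'.1 : Type u)) ⟨i, rfl⟩).comp
      (Pi.evalRingHom (fun j => (P j : Type u)) (c i))
  rw [← Category.assoc, ← Spec.map_comp]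
  have e : CommRingCat.ofHom (RingEquiv.ofBijective w hwb).symm.toRingHom ≫
      CommRingCat.ofHom (Pi.evalRingHom (fun i => (L i : Type u)) i) =
      CommRingCat.ofHom (Pi.evalRingHom (fun j => (P j : Type u)) (c i)) ≫
        CommRingCat.ofHom (Pi.evalRingHom (fun i' : {i' // c i' = c i} => (L i'.1 : Type u)) ⟨i, rfl⟩) := by
    refine CommRingCat.hom_ext (RingHom.ext fun y => ?_)
    obtain ⟨a, rfl⟩ := (RingEquiv.ofBijective w hwb).surjective y
    show (RingEquiv.ofBijective w hwb).symm (w a) i = _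
    rw [show (RingEquiv.ofBijective w hwb).symm (w a) = a from (RingEquiv.ofBijective w hwb).symm_apply_apply a]
    rfl
  rw [e, Spec.map_comp, Category.assoc, ← ι_sigmaSpec_assoc P (c i), IsIso.hom_inv_id_assoc, Sigma.ι_desc]
  show _ ≫ Spec.map _ ≫ _ = _
  rw [← Category.assoc, ← Spec.map_comp]
  refine Eq.trans ?_ (hφ i)
  congr 2
  refine CommRingCat.hom_ext (RingHom.ext fun y => ?_)
  show (φ i).hom ((X.presheaf.map (eqToHom rfl).op).hom y) = _
  simp

/-- almost all components of a point with values in a restricted product are integral -/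
theorem eventually_integral {R₀ : CommRingCat.{u}} {X : Scheme.{u}} (f : X ⟶ Spec R₀) [LocallyOfFiniteType f]
    [QuasiCompact f] {α : Type u} {A : CommRingCat.{u}} (ρ : R₀ ⟶ A) (x : Spec A ⟶ X) (hx : x ≫ f = Spec.map ρ)
    (E : α → CommRingCat.{u}) (O : ∀ v, Subring (E v)) [∀ v, IsLocalRing (O v)] (p : ∀ v, A ⟶ E v)
    (hA : ∀ a : A, ∀ᶠ v in Filter.cofinite, (p v).hom a ∈ O v) :
    ∀ᶠ v in Filter.cofinite, ∀ hR : (∀ r : R₀, (p v).hom (ρ.hom r) ∈ O v),
      ∃ y : Spec (CommRingCat.of (O v)) ⟶ X, y ≫ f = Spec.map (CommRingCat.ofHom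
          (((p v).hom.comp ρ.hom).codRestrict (O v) hR)) ∧
        Spec.map (CommRingCat.ofHom (O v).subtype) ≫ y = Spec.map (p v) ≫ x := by
  classical
  haveI : CompactSpace X := QuasiCompact.compactSpace_of_compactSpace f
  choose U hU hxU _ using fun q : Spec A => exists_isAffineOpen_mem_and_subset (U := (⊤ : X.Opens)) (x := x q) trivial
  have hg : ∀ q : Spec A, ∃ g : A, g ∉ q.asIdeal ∧ ∀ q' : Spec A, g ∉ q'.asIdeal → x q' ∈ U q := fun q => by
    obtain ⟨_, ⟨_, ⟨g, rfl⟩, rfl⟩, hq, hsub⟩ := PrimeSpectrum.isBasis_basic_opens.exists_subset_of_mem_open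
      (hxU q : q ∈ (x ⁻¹' (U q) : Set (PrimeSpectrum A))) ((U q).isOpen.preimage x.continuous)
    exact ⟨g, hq, fun q' h => hsub h⟩
  choose g hgq hgU using hg
  have hspan : Ideal.span (Set.range g) = ⊤ := by
    by_contra hne
    obtain ⟨m, hm, hle⟩ := Ideal.exists_le_maximal _ hne
    exact hgq ⟨m, hm.isPrime⟩ (hle (Ideal.subset_span ⟨_, rfl⟩))
  obtain ⟨l, hl⟩ := (Finsupp.mem_span_range_iff_exists_finsupp).1 (hspan ▸ Submodule.mem_top (x := (1 : A)))
  have hft : ∀ q : Spec A, ∃ ψ : R₀ ⟶ Γ(X, U q), ψ.hom.FiniteType ∧ (hU q).fromSpec ≫ f = Spec.map ψ := fun q => by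
    refine ⟨Spec.preimage ((hU q).fromSpec ≫ f), ?_, (Spec.map_preimage _).symm⟩
    refine (HasRingHomProperty.Spec_iff (P := @LocallyOfFiniteType)).1 ?_
    rw [Spec.map_preimage]
    infer_instance
  choose ψ hψ hψf using hft
  have hrange : ∀ q : Spec A, Set.range (Spec.map (CommRingCat.ofHom (algebraMap A (Localization.Away (g q)))) ≫ x) ⊆
      Set.range (hU q).fromSpec := fun q => by
    rw [IsAffineOpen.range_fromSpec]
    rintro _ ⟨y, rfl⟩
    exact hgU q _ ((PrimeSpectrum.localization_away_comap_range (Localization.Away (g q)) (g q)).le ⟨y, rfl⟩)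
  let φ : ∀ q, Γ(X, U q) ⟶ CommRingCat.of (Localization.Away (g q)) := fun q =>
    Spec.preimage (IsOpenImmersion.lift (hU q).fromSpec _ (hrange q))
  have hφ : ∀ q, Spec.map (φ q) ≫ (hU q).fromSpec =
      Spec.map (CommRingCat.ofHom (algebraMap A (Localization.Away (g q)))) ≫ x := fun q => by
    rw [Spec.map_preimage, IsOpenImmersion.lift_fac]
  have hgen : ∀ q, ∀ᶠ v in Filter.cofinite, ∀ hu : IsUnit ((p v).hom (g q)), ↑hu.unit⁻¹ ∈ O v →
      (∀ r : R₀, (p v).hom (ρ.hom r) ∈ O v) →
      ∀ s, IsLocalization.Away.lift (g q) hu ((φ q).hom s) ∈ O v := fun q => by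
    letI := (ψ q).hom.toAlgebra
    obtain ⟨T, hT⟩ : (⊤ : Subalgebra R₀ Γ(X, U q)).FG := (hψ q).out
    choose a ha using fun s : T => IsLocalization.Away.surj (g q) ((φ q).hom s.1)
    choose b hb using ha
    filter_upwards [Filter.eventually_all.2 fun s : T => hA (b s)] with v hv hu hinv hR s
    let Φ : Γ(X, U q) →+* E v := (IsLocalization.Away.lift (g q) hu).comp (φ q).hom
    have hΦR : ∀ r : R₀, Φ ((ψ q).hom r) = (p v).hom (ρ.hom r) := fun r => by
      have h0 : Spec.map (φ q) ≫ Spec.map (ψ q) = Spec.map (CommRingCat.ofHom (algebraMap A _)) ≫ Spec.map ρ := by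
        rw [← hψf, ← Category.assoc, hφ, Category.assoc, hx]
      rw [← Spec.map_comp, ← Spec.map_comp] at h0
      show IsLocalization.Away.lift (g q) hu ((φ q).hom ((ψ q).hom r)) = _
      rw [show (φ q).hom ((ψ q).hom r) = algebraMap A _ (ρ.hom r) from ConcreteCategory.congr_hom (Spec.map_injective h0) r]
      exact IsLocalization.Away.lift_eq (g q) hu _
    let W : Subalgebra R₀ Γ(X, U q) :=
      { (O v).comap Φ with algebraMap_mem' := fun r => by show Φ ((ψ q).hom r) ∈ O v; rw [hΦR]; exact hR r }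
    have hW : (⊤ : Subalgebra R₀ Γ(X, U q)) ≤ W := by
      rw [← hT]
      refine Algebra.adjoin_le fun s hs => ?_
      show Φ s ∈ O v
      have h1 := congrArg (IsLocalization.Away.lift (S := Localization.Away (g q)) (g q) hu) (hb ⟨s, hs⟩)
      rw [map_mul, map_pow, IsLocalization.Away.lift_eq, IsLocalization.Away.lift_eq] at h1
      have h2 : Φ s = (p v).hom (b ⟨s, hs⟩) * (↑hu.unit⁻¹ : E v) ^ a ⟨s, hs⟩ := by
        rw [← h1, mul_assoc, ← mul_pow, IsUnit.mul_val_inv, one_pow, mul_one]
        rfl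
      rw [h2]
      exact (O v).mul_mem (hv ⟨s, hs⟩) ((O v).pow_mem hinv _)
    exact hW (Algebra.mem_top (x := s))
  filter_upwards [Filter.eventually_all.2 fun q : l.support => hgen q.1, Filter.eventually_all.2 fun q : l.support => hA (g q.1),
    Filter.eventually_all.2 fun q : l.support => hA (l q.1)] with v hv hgv hlv hR
  obtain ⟨q, hq⟩ : ∃ q : l.support, IsUnit (⟨(p v).hom (g q.1), hgv q⟩ : O v) := by
    by_contra hne
    push Not at hne
    have h1 : (1 : O v) = ∑ q : l.support, (⟨_, hlv q⟩ : O v) * ⟨_, hgv q⟩ := Subtype.ext (by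
      rw [AddSubmonoidClass.coe_finset_sum]
      show (1 : E v) = _
      rw [← map_one (p v).hom, ← hl, Finsupp.sum, ← Finset.sum_coe_sort l.support, map_sum]
      simp [smul_eq_mul])
    refine (IsLocalRing.maximalIdeal.isMaximal (O v)).ne_top ((Ideal.eq_top_iff_one _).2 (h1 ▸ ?_))
    exact Submodule.sum_mem _ fun q _ => Ideal.mul_mem_left _ _ (hne q)
  let q₀ : Spec A := q.1
  have hu : IsUnit ((p v).hom (g q₀)) := hq.map (O v).subtype
  have hinv : ↑hu.unit⁻¹ ∈ O v := by
    have e : (↑hu.unit⁻¹ : E v) = ((↑hq.unit⁻¹ : O v) : E v) := by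
      refine hu.mul_left_cancel ?_
      rw [IsUnit.mul_val_inv]
      exact (congrArg Subtype.val (IsUnit.mul_val_inv hq)).symm
    rw [e]
    exact Subtype.coe_prop _
  let Φ : Γ(X, U q₀) ⟶ CommRingCat.of (O v) := CommRingCat.ofHom
    (((IsLocalization.Away.lift (g q₀) hu).comp (φ q₀).hom).codRestrict (O v) (hv q hu hinv hR))
  have hΦ : Spec.map (CommRingCat.ofHom (O v).subtype) ≫ Spec.map Φ ≫ (hU q₀).fromSpec = Spec.map (p v) ≫ x := by
    rw [← Spec.map_comp_assoc, show Φ ≫ CommRingCat.ofHom (O v).subtype =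
      φ q₀ ≫ CommRingCat.ofHom (IsLocalization.Away.lift (g q₀) hu) from rfl, Spec.map_comp, Category.assoc, hφ,
      ← Spec.map_comp_assoc]
    congr 2
    exact CommRingCat.hom_ext (IsLocalization.Away.lift_comp (g q₀) hu)
  refine ⟨Spec.map Φ ≫ (hU q₀).fromSpec, ?_, hΦ⟩
  rw [Category.assoc, hψf, ← Spec.map_comp]
  congr 1
  refine CommRingCat.hom_ext (RingHom.ext fun r => Subtype.ext ?_)
  have h0 := congrArg (fun w => w ≫ f) hΦ
  simp only [Category.assoc, hψf, hx, ← Spec.map_comp] at h0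
  exact ConcreteCategory.congr_hom (Spec.map_injective h0) r

end Groth.Agent.GalEt.ProdPts
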