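import Groth.Agent.GalEt.FppfH1

/-!
# First cohomology of a direct image on big sites
-/

set_option autoImplicit false
set_option maxHeartbeats 1000000
set_option backward.isDefEq.respectTransparency.types false
set_option linter.style.haveILetI false

universe u

open CategoryTheory Limits AlgebraicGeometry Opposite Abelian

namespace Groth.Agent.GalEt.PushH1

open Adeq2Lib.AffVan

variable {S T : Scheme.{u}} (f : T ⟶ S)

/-- if sections of the cokernel of an injective embedding lift, the first cohomology of the direct image vanishes -/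
theorem subsingleton_H_one_pushBig (E : ShortComplex (AbT T)) (hE : E.ShortExact) [Injective E.X₂]
    (hs : Function.Surjective (E.g.hom.app (op (Over.mk (𝟙 T)))).hom) :
    Subsingleton (BigSite.H Scheme.fppfPrecoverage S
      ((BigSite.pushBig Scheme.fppfPrecoverage f AddCommGrpCat.{u + 1}).obj E.X₁) 1) := by
  let F := BigSite.pushBig Scheme.fppfPrecoverage f AddCommGrpCat.{u + 1}
  let P := BigSite.pullBig Scheme.fppfPrecoverage f AddCommGrpCat.{u + 1}
  let adj : P ⊣ F := BigSite.bigAdj Scheme.fppfPrecoverage f AddCommGrpCat.{u + 1}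
  haveI : F.IsRightAdjoint := adj.isRightAdjoint
  haveI : P.IsRightAdjoint := (BigSite.shriekAbAdj Scheme.fppfPrecoverage f).isRightAdjoint
  haveI : P.PreservesMonomorphisms := inferInstance
  haveI : Injective (F.obj E.X₂) := Injective.injective_of_adjoint adj E.X₂
  haveI := hE.mono_f
  haveI : Mono (F.map E.f) := inferInstance
  haveI : PreservesLimit (parallelPair E.g 0) F := inferInstance
  have hex : (E.map F).Exact := hE.exact.map_of_mono_of_preservesKernel F ‹_› ‹_›
  let φ : cokernel (E.map F).f ⟶ (E.map F).X₃ := cokernel.desc _ (E.map F).g (E.map F).zero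
  haveI hφm : Mono φ := ((E.map F).exact_iff_mono_cokernel_desc).1 hex
  let C : ShortComplex (AbT S) := ShortComplex.mk (E.map F).f (cokernel.π (E.map F).f) (cokernel.condition _)
  have hC : C.ShortExact :=
    { exact := ShortComplex.exact_of_g_is_cokernel _ (cokernelIsCokernel _)
      mono_f := (inferInstanceAs (Mono (F.map E.f)))
      epi_g := inferInstanceAs (Epi (cokernel.π _)) }
  have hT : IsTerminal (Over.mk (𝟙 S)) := Over.mkIdTerminal
  refine subsingleton_of_forall_eq 0 fun x => ?_
  obtain ⟨y, rfl⟩ := Ext.covariant_sequence_exact₁ _ hC x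
    ((Ext.eq_zero_of_injective (I := F.obj E.X₂) _)) (n₀ := 0) rfl
  let V : Over T := (Over.pullback f).obj (Over.mk (𝟙 S))
  let e : V ≅ Over.mk (𝟙 T) := Over.isoMk (asIso (pullback.snd (𝟙 S) f)) (Category.comp_id _)
  let q : E.X₃.obj.obj (op V) := (φ.hom.app (op (Over.mk (𝟙 S)))).hom (Sheaf.H.equiv₀ C.X₃ hT y)
  obtain ⟨t, ht⟩ := hs (rA E.X₃ e.inv q)
  have ht' : (E.g.hom.app (op V)).hom (rA E.X₂ e.hom t) = q := by
    refine (ConcreteCategory.congr_hom (E.g.hom.naturality e.hom.op) t).trans ?_
    refine (congrArg (rA E.X₃ e.hom) ht).trans ?_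
    rw [rA_comp, e.hom_inv_id, rA_id]
  have hinj : Function.Injective (φ.hom.app (op (Over.mk (𝟙 S)))).hom := by
    haveI : (secA (T := S) (Over.mk (𝟙 S))).Additive := ⟨fun {_ _ _ _} => rfl⟩
    haveI : PreservesFiniteLimits (secA (T := S) (Over.mk (𝟙 S))) := inferInstance
    exact (AddCommGrpCat.mono_iff_injective ((secA (T := S) (Over.mk (𝟙 S))).map φ)).1 inferInstance
  let t' : C.X₂.obj.obj (op (Over.mk (𝟙 S))) := rA E.X₂ e.hom t
  have hy : y = Sheaf.H.map C.g 0 ((Sheaf.H.equiv₀ C.X₂ hT).symm t') := by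
    refine (Sheaf.H.equiv₀ C.X₃ hT).injective ?_
    rw [← Sheaf.H.equiv₀_naturality, AddEquiv.apply_symm_apply]
    refine hinj ?_
    refine Eq.trans ?_ (ConcreteCategory.congr_hom (congrArg (fun α : C.X₂ ⟶ (E.map F).X₃ =>
      α.hom.app (op (Over.mk (𝟙 S)))) (cokernel.π_desc (E.map F).f (E.map F).g (E.map F).zero)) t').symm
    exact ht'.symm
  rw [hy, Sheaf.H.map_apply, Ext.comp_assoc_of_second_deg_zero, hC.comp_extClass, Ext.comp_zero]
  rfl

theorem subsingleton_H_one_pushBig_Gm (k : Type u) [Field k] (g : Spec (CommRingCat.of k) ⟶ S) :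
    Subsingleton (BigSite.H Scheme.fppfPrecoverage S
      ((BigSite.pushBig Scheme.fppfPrecoverage g AddCommGrpCat.{u + 1}).obj
        (CGrpSh2.Gm Scheme.fppfPrecoverage (Spec (CommRingCat.of k)))) 1) := by
  let P := Classical.arbitrary (InjectivePresentation (FppfH1.GmS (CommRingCat.of k)))
  haveI : Injective P.shortComplex.X₂ := P.injective
  exact subsingleton_H_one_pushBig g P.shortComplex P.shortExact_shortComplex
    (FppfH1.surjective_sections_field k P.shortComplex P.shortExact_shortComplex
      fun M _ _ => FppfH1.ex_field k M)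

end Groth.Agent.GalEt.PushH1
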