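import Groth.Agent.GalEt.RatVanish
import Groth.Agent.EtAdic69.HmapComp
import Groth.Agent.S3889
import Mathlib.AlgebraicGeometry.Morphisms.OpenImmersion
import Mathlib.RingTheory.Valuation.ValuationRing

/-!
# Rational cohomology of the spectrum of a product of valuation rings
-/

set_option autoImplicit false
set_option linter.unusedSectionVars false
set_option linter.style.haveILetI false

universe u

open CategoryTheory CategoryTheory.Limits AlgebraicGeometry Opposite CategoryTheory.Abelian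

namespace Groth.Agent.GalEt

set_option backward.isDefEq.respectTransparency.types false
set_option synthInstance.maxHeartbeats 400000
set_option maxHeartbeats 1000000

theorem pullConst_trans {W U X : Scheme.{u}} (k : W ⟶ U) (t : U ⟶ X) (w : W ⟶ X) (e : w = k ≫ t)
    (M : Type) [AddCommGroup M] :
    (EtCore.pullCongr e ≪≫ EtCore.pullComp k t).hom.app (EtCoh.const X M) ≫
      (EtCoh.pull k).map (EtCore.pullConst t M).hom ≫ (EtCore.pullConst k M).hom = (EtCore.pullConst w M).hom := by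
  subst e
  have h1 : EtCore.pullCongr (rfl : k ≫ t = k ≫ t) = Iso.refl _ := rfl
  have h : (EtMVLib.θ t (k ≫ t) k rfl).hom.app (EtCoh.const X M) ≫ (EtCore.pullConst (k ≫ t) M).hom =
      (EtCoh.pull k).map (EtCore.pullConst t M).hom ≫ (EtCore.pullConst k M).hom :=
    EtAdic69.pullConst_comp_hom t (k ≫ t) k rfl M
  rw [← h, show EtMVLib.θ t (k ≫ t) k rfl = (EtCore.pullComp k t).symm ≪≫ EtCore.pullCongr rfl from rfl, h1]
  simp only [Iso.trans_hom, Iso.refl_hom, Iso.symm_hom, NatTrans.comp_app, NatTrans.id_app, Category.comp_id,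
    Category.id_comp]
  exact Iso.hom_inv_id_app_assoc _ _ _

theorem HpullThen_eq {X Y : Scheme.{u}} (v : X ⟶ Y) [PreservesFiniteLimits (EtCoh.pull v)] (F : EtCoh.Ab Y)
    {M : EtCoh.Ab X} (α : (EtCoh.pull v).obj F ⟶ M) (n : ℕ) (z : EtCoh.H Y F n) :
    EtLim.HpullThen v F α n z = (EtCore.Hpull v F n z).comp (Ext.mk₀ α) (add_zero n) := rfl

/-- the class pulled back with constant coefficients -/
noncomputable def pullRat {X Y : Scheme.{u}} (f : X ⟶ Y) {n : ℕ} (x : EtCoh.H Y (EtCoh.const Y ℚ) n) :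
    EtCoh.H X (EtCoh.const X ℚ) n :=
  ((Ext.mk₀ (EtCore.pullConst f ℤ).inv).comp (pullExt f x) (zero_add n)).comp
    (Ext.mk₀ (EtCore.pullConst f ℚ).hom) (add_zero n)

theorem pullExt_pullRat {W X Y : Scheme.{u}} (g : W ⟶ X) (f : X ⟶ Y) {n : ℕ} (x : EtCoh.H Y (EtCoh.const Y ℚ) n) :
    pullExt g (pullRat f x) =
      ((Ext.mk₀ ((EtCoh.pull g).map (EtCore.pullConst f ℤ).inv)).comp (pullExt g (pullExt f x)) (zero_add n)).comp
        (Ext.mk₀ ((EtCoh.pull g).map (EtCore.pullConst f ℚ).hom)) (add_zero n) := by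
  rw [pullRat, pullExt_comp, pullExt_comp, pullExt_mk₀, pullExt_mk₀]

theorem eq_zero_of_conj {X : Scheme.{u}} {A' A B B' : EtCoh.Ab X} (a : A' ≅ A) (b : B ≅ B') {m : ℕ} (y : Ext A B m)
    (h : ((Ext.mk₀ a.hom).comp y (zero_add m)).comp (Ext.mk₀ b.hom) (add_zero m) = 0) : y = 0 := by
  have h1 := congrArg (fun z : Ext A' B' m => (Ext.mk₀ a.inv).comp (z.comp (Ext.mk₀ b.inv) (add_zero m)) (zero_add m)) h
  simpa using h1

theorem pullExt_pullRat_eq_zero_iff {W X Y : Scheme.{u}} {g : W ⟶ X} {f : X ⟶ Y} {w : W ⟶ Y} (e : g ≫ f = w)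
    {n : ℕ} (x : EtCoh.H Y (EtCoh.const Y ℚ) n) : pullExt g (pullRat f x) = 0 ↔ pullExt w x = 0 := by
  rw [pullExt_pullRat, ← pullExt_eq_zero_of_comp e x]
  refine ⟨fun h => ?_, fun h => by rw [h, Ext.comp_zero, Ext.zero_comp]⟩
  exact eq_zero_of_conj ((EtCoh.pull g).mapIso (EtCore.pullConst f ℤ).symm)
    ((EtCoh.pull g).mapIso (EtCore.pullConst f ℚ)) _ h

section Ring

variable {R : Type u} [CommRing R] (P : Ideal R)

/-- the ideal generated by the idempotents of `P` -/
def idemIdeal : Ideal R where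
  carrier := {x | ∃ e, IsIdempotentElem e ∧ e ∈ P ∧ x * e = x}
  zero_mem' := ⟨0, IsIdempotentElem.zero, P.zero_mem, zero_mul _⟩
  add_mem' := by
    rintro x y ⟨e, he, heP, hx⟩ ⟨f, hf, hfP, hy⟩
    refine ⟨e + f - e * f, ?_, P.sub_mem (P.add_mem heP hfP) (P.mul_mem_left _ hfP), ?_⟩
    · unfold IsIdempotentElem at he hf ⊢
      linear_combination (1 - 2 * f + f * f) * he + (1 - e) * hf
    · linear_combination (1 - f) * hx + (1 - e) * hy
  smul_mem' := by
    rintro a x ⟨e, he, heP, hx⟩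
    exact ⟨e, he, heP, by simp only [smul_eq_mul]; linear_combination a * hx⟩

theorem mem_idemIdeal {x : R} : x ∈ idemIdeal P ↔ ∃ e, IsIdempotentElem e ∧ e ∈ P ∧ x * e = x := Iff.rfl

/-- idempotents of `P` -/
abbrev Idem : Type u := {e : R // IsIdempotentElem e ∧ e ∈ P}

variable {P}

instance : Preorder (Idem P) where
  le e f := e.1 * f.1 = e.1
  le_refl e := e.2.1
  le_trans e f g h₁ h₂ := by
    show e.1 * g.1 = e.1
    calc e.1 * g.1 = e.1 * f.1 * g.1 := by rw [h₁]
    _ = e.1 * (f.1 * g.1) := mul_assoc _ _ _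
    _ = e.1 := by rw [h₂, h₁]

instance : Nonempty (Idem P) := ⟨⟨0, IsIdempotentElem.zero, P.zero_mem⟩⟩

instance : IsDirected (Idem P) (· ≤ ·) :=
  ⟨fun e f => ⟨⟨e.1 + f.1 - e.1 * f.1, by
      have he : e.1 * e.1 = e.1 := e.2.1
      have hf : f.1 * f.1 = f.1 := f.2.1
      show _ = _
      linear_combination (1 - 2 * f.1 + f.1 * f.1) * he + (1 - e.1) * hf,
      P.sub_mem (P.add_mem e.2.2 f.2.2) (P.mul_mem_left _ f.2.2)⟩, by
      have he : e.1 * e.1 = e.1 := e.2.1
      show _ = _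
      linear_combination (1 - f.1) * he, by
      have hf : f.1 * f.1 = f.1 := f.2.1
      show _ = _
      linear_combination (1 - e.1) * hf⟩⟩

theorem span_mono {e f : Idem P} (h : e ≤ f) : Ideal.span {e.1} ≤ Ideal.span {f.1} :=
  Ideal.span_singleton_le_span_singleton.2 ⟨e.1, by rw [mul_comm]; exact h.symm⟩

theorem span_le_idemIdeal (e : Idem P) : Ideal.span {e.1} ≤ idemIdeal P :=
  (Ideal.span_singleton_le_iff_mem _).2 ⟨e.1, e.2.1, e.2.2, e.2.1⟩

/-- the rings of the clopen neighbourhoods -/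
noncomputable def idemSys : Idem P ⥤ CommRingCat.{u} where
  obj e := CommRingCat.of (R ⧸ Ideal.span {e.1})
  map {e f} h := CommRingCat.ofHom (Ideal.Quotient.factor (span_mono (leOfHom h)))
  map_id e := by
    refine CommRingCat.hom_ext (Ideal.Quotient.ringHom_ext (RingHom.ext fun x => ?_))
    simp
  map_comp {e f g} h h' := by
    refine CommRingCat.hom_ext (Ideal.Quotient.ringHom_ext (RingHom.ext fun x => ?_))
    simp

/-- the colimit cocone -/
noncomputable def idemCocone : Cocone (idemSys (P := P)) where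
  pt := CommRingCat.of (R ⧸ idemIdeal P)
  ι :=
    { app e := CommRingCat.ofHom (Ideal.Quotient.factor (span_le_idemIdeal e))
      naturality e f h := by
        refine CommRingCat.hom_ext (Ideal.Quotient.ringHom_ext (RingHom.ext fun x => ?_))
        simp [idemSys] }

/-- it is colimiting -/
noncomputable def idemIsColimit : IsColimit (idemCocone (P := P)) := by
  haveI : ReflectsColimit (idemSys (P := P)) (forget CommRingCat.{u}) :=
    reflectsColimit_of_reflectsIsomorphisms _ _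
  refine isColimitOfReflects (forget CommRingCat.{u}) ?_
  refine Types.FilteredColimit.isColimitOf' _ _ (fun z => ?_) fun e x y h => ?_
  · obtain ⟨r, hr⟩ := Ideal.Quotient.mk_surjective (z : R ⧸ idemIdeal P)
    let e₀ : Idem P := ⟨0, IsIdempotentElem.zero, P.zero_mem⟩
    refine ⟨e₀, Ideal.Quotient.mk (Ideal.span {e₀.1}) r, hr.symm.trans ?_⟩
    rfl
  · obtain ⟨r, rfl⟩ := Ideal.Quotient.mk_surjective (x : R ⧸ Ideal.span {e.1})
    obtain ⟨s, rfl⟩ := Ideal.Quotient.mk_surjective (y : R ⧸ Ideal.span {e.1})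
    have h' : Ideal.Quotient.mk (idemIdeal P) r = Ideal.Quotient.mk (idemIdeal P) s := h
    obtain ⟨d, hd, hdP, hrs⟩ := Ideal.Quotient.eq.1 h'
    obtain ⟨g, heg, hdg⟩ := exists_ge_ge e ⟨d, hd, hdP⟩
    refine ⟨g, homOfLE heg, ?_⟩
    show Ideal.Quotient.mk (Ideal.span {g.1}) r = Ideal.Quotient.mk (Ideal.span {g.1}) s
    rw [Ideal.Quotient.eq, ← hrs]
    exact Ideal.mul_mem_left _ _ (span_mono hdg (Ideal.mem_span_singleton_self d))

/-- the clopen immersion -/
theorem isOpenImmersion_idem (e : Idem P) :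
    IsOpenImmersion (Spec.map (CommRingCat.ofHom (Ideal.Quotient.mk (Ideal.span {e.1})))) := by
  haveI : IsLocalization.Away (1 - e.1) (R ⧸ Ideal.span {e.1}) :=
    IsLocalization.away_of_isIdempotentElem e.2.1.one_sub (by simp) Ideal.Quotient.mk_surjective
  exact IsOpenImmersion.of_isLocalization (1 - e.1)

variable (P)

theorem eq_zero_of_iso_comp {X : Scheme.{u}} {A B : EtCoh.Ab X} (e : A ≅ B) {m : ℕ} (y : EtCoh.H X A m)
    (h : y.comp (Ext.mk₀ e.hom) (add_zero m) = 0) : y = 0 := by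
  have h1 := congrArg (fun z : EtCoh.H X B m => z.comp (Ext.mk₀ e.inv) (add_zero m)) h
  simpa using h1

theorem stalk_isIntegrallyClosed {D : Type u} [CommRing D] [IsDomain D] [IsIntegrallyClosed D]
    (x : Spec (CommRingCat.of D)) : IsIntegrallyClosed ((Spec (CommRingCat.of D)).presheaf.stalk x) := by
  haveI : IsIntegrallyClosed (Localization.AtPrime x.asIdeal) :=
    isIntegrallyClosed_of_isLocalization _ x.asIdeal.primeCompl x.asIdeal.primeCompl_le_nonZeroDivisors
  exact IsIntegrallyClosed.of_equiv (StructureSheaf.stalkIso D x).toRingEquiv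

theorem exists_killed_stage {ι : Type u} [Preorder ι] [Nonempty ι] [IsDirected ι (· ≤ ·)]
    (Xs : ιᵒᵖ ⥤ Scheme.{u}) (haff : ∀ a, IsAffine (Xs.obj a)) (c : Cone Xs) (hc : IsLimit c)
    {X : Scheme.{u}} (q : ∀ i : ι, Xs.obj (op i) ⟶ X)
    (hq : ∀ ⦃i j : ι⦄ (h : i ≤ j), Xs.map (homOfLE h).op ≫ q i = q j)
    (n : ℕ) (x : EtCoh.H X (EtCoh.const X ℚ) (n + 1)) (e₀ : ι)
    (hlim : pullExt (c.π.app (op e₀) ≫ q e₀) x = 0) : ∃ k : ι, pullExt (q k) x = 0 := by
  let F : ∀ e : ι, EtCoh.Ab (Xs.obj (op e)) := fun e => EtCoh.const _ ℚ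
  let φ : ∀ ⦃i j : ι⦄ (h : i ≤ j), (EtCoh.pull (Xs.map (homOfLE h).op)).obj (F i) ⟶ F j :=
    fun i j h => (EtCore.pullConst _ ℚ).hom
  have hφ : ∀ ⦃i j k : ι⦄ (hij : i ≤ j) (hjk : j ≤ k),
      φ (hij.trans hjk) = (EtLim.pullTrans Xs hij hjk).hom.app (F i) ≫
        (EtCoh.pull (Xs.map (homOfLE hjk).op)).map (φ hij) ≫ φ hjk := by
    intro i j k hij hjk
    exact (pullConst_trans _ _ _ _ ℚ).symm
  let G : ι ⥤ EtCoh.Ab c.pt := (Functor.const _).obj (EtCoh.const c.pt ℚ)
  let ψ : ∀ i : ι, (EtCoh.pull (c.π.app (op i))).obj (F i) ≅ G.obj i :=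
    fun i => EtCore.pullConst _ ℚ
  have hψ : ∀ ⦃i j : ι⦄ (hij : i ≤ j), (ψ i).hom ≫ G.map (homOfLE hij) =
      (EtLim.pullTransCone Xs c hij).hom.app (F i) ≫ (EtCoh.pull (c.π.app (op j))).map (φ hij) ≫ (ψ j).hom := by
    intro i j hij
    refine (Category.comp_id _).trans ?_
    exact (pullConst_trans _ _ _ _ ℚ).symm
  haveI : ∀ a, PreservesFiniteLimits (EtCoh.pull (c.π.app a)) := fun a => EtFound.pull_preservesFiniteLimits _
  haveI : ∀ ⦃a b : ιᵒᵖ⦄ (h : a ⟶ b), PreservesFiniteLimits (EtCoh.pull (Xs.map h)) :=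
    fun a b h => EtFound.pull_preservesFiniteLimits _
  have hξ : EtLim.HpullThen (c.π.app (op e₀)) (F e₀) ((ψ e₀).hom ≫ colimit.ι G e₀) (n + 1) (pullRat (q e₀) x) = 0 := by
    rw [HpullThen_eq, (Hpull_eq_zero_iff (c.π.app (op e₀)) (F e₀) (n + 1) (pullRat (q e₀) x)).2
      ((pullExt_pullRat_eq_zero_iff rfl x).2 hlim), Ext.zero_comp]
  obtain ⟨k, hk, hk0⟩ := (Groth.Agent.S3889.result Xs
    (fun a b h => haveI := haff a; haveI := haff b; isAffineHom_of_isAffine _)
    (fun a => haveI := haff a; inferInstance) (fun a => haveI := haff a; inferInstance)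
    c hc F φ hφ G ψ hψ (n + 1)).2 e₀ (pullRat (q e₀) x) hξ
  rw [HpullThen_eq] at hk0
  exact ⟨k, (pullExt_pullRat_eq_zero_iff (hq hk) x).1
    ((Hpull_eq_zero_iff (Xs.map (homOfLE hk).op) (F e₀) (n + 1) (pullRat (q e₀) x)).1
      (eq_zero_of_iso_comp (EtCore.pullConst (Xs.map (homOfLE hk).op) ℚ) _ hk0))⟩

theorem eq_zero_pullExt_of_domain {X : Scheme.{u}} (D : Type u) [CommRing D] [IsDomain D] [IsIntegrallyClosed D]
    (f : Spec (CommRingCat.of D) ⟶ X) (n : ℕ) (x : EtCoh.H X (EtCoh.const X ℚ) (n + 1)) : pullExt f x = 0 := by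
  haveI := EtFound.pull_preservesFiniteLimits f
  refine (Hpull_eq_zero_iff f _ (n + 1) x).1 ?_
  haveI : IsIntegral (Spec (CommRingCat.of D)) := inferInstance
  haveI : QuasiCompact ((Spec (CommRingCat.of D)).fromSpecStalk (genericPoint (Spec (CommRingCat.of D)))) :=
    inferInstance
  exact eq_zero_of_iso_comp (EtCore.pullConst f ℚ) _
    (H_rat_eq_zero_of_integral (Spec (CommRingCat.of D)) stalk_isIntegrallyClosed n _)

theorem exists_idem_killed [P.IsPrime] [IsDomain (R ⧸ idemIdeal P)] [IsIntegrallyClosed (R ⧸ idemIdeal P)] (n : ℕ)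
    (x : EtCoh.H (Spec (CommRingCat.of R)) (EtCoh.const (Spec (CommRingCat.of R)) ℚ) (n + 1)) :
    ∃ e : Idem P, pullExt (Spec.map (CommRingCat.ofHom (Ideal.Quotient.mk (Ideal.span {e.1})))) x = 0 := by
  refine exists_killed_stage ((idemSys (P := P)).op ⋙ Scheme.Spec) (fun a => isAffine_Spec _)
    (Scheme.Spec.mapCone (idemCocone (P := P)).op) (isLimitOfPreserves Scheme.Spec idemIsColimit.op)
    (fun e => Spec.map (CommRingCat.ofHom (Ideal.Quotient.mk (Ideal.span {e.1})))) (fun e f h => ?_) n x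
    ⟨0, IsIdempotentElem.zero, P.zero_mem⟩ (eq_zero_pullExt_of_domain (R ⧸ idemIdeal P) _ n x)
  show Spec.map _ ≫ Spec.map _ = Spec.map _
  rw [← Spec.map_comp]
  congr 1

end Ring

section Cover

variable {R : Type u} [CommRing R]

/-- the clopen subscheme cut out by an idempotent -/
noncomputable def clop (f : R) : (Spec (CommRingCat.of R)).Opens :=
  (PrimeSpectrum.basicOpen f : TopologicalSpace.Opens (PrimeSpectrum R))

theorem mem_clop {f : R} {p : Spec (CommRingCat.of R)} : p ∈ clop f ↔ f ∉ p.asIdeal := Iff.rfl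

theorem killed_of_idem (e : R) (he : IsIdempotentElem e)
    {F : EtCoh.Ab (Spec (CommRingCat.of R))} {n : ℕ} (x : EtCoh.H (Spec (CommRingCat.of R)) F n)
    (h : pullExt (Spec.map (CommRingCat.ofHom (Ideal.Quotient.mk (Ideal.span {e})))) x = 0) :
    pullExt (clop (1 - e)).ι x = 0 := by
  haveI : IsLocalization.Away (1 - e) (R ⧸ Ideal.span {e}) :=
    IsLocalization.away_of_isIdempotentElem he.one_sub (by simp) Ideal.Quotient.mk_surjective
  haveI : IsOpenImmersion (Spec.map (CommRingCat.ofHom (Ideal.Quotient.mk (Ideal.span {e})))) :=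
    IsOpenImmersion.of_isLocalization (1 - e)
  let q := Spec.map (CommRingCat.ofHom (Ideal.Quotient.mk (Ideal.span {e})))
  have hr : Set.range (clop (1 - e)).ι ⊆ Set.range q := by
    rw [Scheme.Opens.range_ι]
    exact (PrimeSpectrum.localization_away_comap_range (R ⧸ Ideal.span {e}) (1 - e)).ge
  exact (pullExt_eq_zero_of_comp (IsOpenImmersion.lift_fac q (clop (1 - e)).ι hr) x).1 (by rw [h, pullExt_zero])

theorem killed_opens_mono {X : Scheme.{u}} {U V : X.Opens} (hle : U ≤ V) {F : EtCoh.Ab X} {n : ℕ}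
    (x : EtCoh.H X F n) (h : pullExt V.ι x = 0) : pullExt U.ι x = 0 :=
  (pullExt_eq_zero_of_comp (X.homOfLE_ι hle) x).1 (by rw [h, pullExt_zero])

theorem killed_finset {F : EtCoh.Ab (Spec (CommRingCat.of R))} {n : ℕ}
    (x : EtCoh.H (Spec (CommRingCat.of R)) F (n + 1)) (t : Finset R) (hid : ∀ f ∈ t, IsIdempotentElem f)
    (hk : ∀ f ∈ t, pullExt (clop f).ι x = 0) : pullExt (t.sup clop).ι x = 0 := by
  classical
  induction t using Finset.induction with
  | empty =>
    haveI : IsEmpty (⊥ : (Spec (CommRingCat.of R)).Opens).toScheme := ⟨fun p => p.2⟩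
    haveI := EtFound.pull_preservesFiniteLimits (⊥ : (Spec (CommRingCat.of R)).Opens).ι
    rw [Finset.sup_empty]
    exact (Hpull_eq_zero_iff (⊥ : (Spec (CommRingCat.of R)).Opens).ι _ (n + 1) x).1 (H_eq_zero_of_isEmpty _ _ _)
  | @insert f t hf ih =>
    rw [Finset.sup_insert]
    have hfi := hid f (Finset.mem_insert_self f t)
    have hrest := killed_opens_mono (U := t.sup clop ⊓ clop (1 - f)) inf_le_left x
      (ih (fun g hg => hid g (Finset.mem_insert_of_mem hg)) (fun g hg => hk g (Finset.mem_insert_of_mem hg)))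
    have e : clop f ⊔ t.sup clop = clop f ⊔ (t.sup clop ⊓ clop (1 - f)) := by
      refine le_antisymm ?_ (sup_le_sup_left inf_le_left _)
      intro p hp
      by_cases hpf : f ∈ p.asIdeal
      · rcases hp with hp | hp
        · exact absurd hpf hp
        · refine Or.inr ⟨hp, fun h1 => p.isPrime.ne_top ((Ideal.eq_top_iff_one _).2 ?_)⟩
          simpa using p.asIdeal.add_mem h1 hpf
      · exact Or.inl hpf
    rw [e]
    refine killed_sup ?_ x (hk f (Finset.mem_insert_self f t)) hrest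
    refine eq_bot_iff.2 fun p hp => ?_
    have h0 : f * (1 - f) ∈ p.asIdeal := by
      rw [hfi.mul_one_sub_self]
      exact p.asIdeal.zero_mem
    exact ((p.isPrime.mem_or_mem h0).elim hp.1 hp.2.2).elim

theorem H_rat_eq_zero_of_components (hR : ∀ P : Ideal R, P.IsPrime →
      ∃ (_ : IsDomain (R ⧸ idemIdeal P)), IsIntegrallyClosed (R ⧸ idemIdeal P)) (n : ℕ)
    (x : EtCoh.H (Spec (CommRingCat.of R)) (EtCoh.const (Spec (CommRingCat.of R)) ℚ) (n + 1)) : x = 0 := by
  classical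
  have key : ∀ p : Spec (CommRingCat.of R), ∃ f : R, IsIdempotentElem f ∧ f ∉ p.asIdeal ∧ pullExt (clop f).ι x = 0 := by
    intro p
    obtain ⟨hd, hi⟩ := hR p.asIdeal p.isPrime
    haveI := p.isPrime
    obtain ⟨e, he⟩ := exists_idem_killed p.asIdeal n x
    refine ⟨1 - e.1, e.2.1.one_sub, fun h => p.isPrime.ne_top ((Ideal.eq_top_iff_one _).2 ?_),
      killed_of_idem e.1 e.2.1 x he⟩
    simpa using p.asIdeal.add_mem h e.2.2
  choose f hf hfp hfk using key
  obtain ⟨t, ht⟩ := isCompact_univ.elim_finite_subcover (fun p => ((clop (f p) : (Spec (CommRingCat.of R)).Opens) : Set (Spec (CommRingCat.of R))))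
    (fun p => (clop (f p)).isOpen) (fun p _ => Set.mem_iUnion.2 ⟨p, hfp p⟩)
  refine eq_zero_of_killed_top x (killed_opens_mono ?_ x (killed_finset x (t.image f)
    (fun g hg => by obtain ⟨p, -, rfl⟩ := Finset.mem_image.1 hg; exact hf p)
    (fun g hg => by obtain ⟨p, -, rfl⟩ := Finset.mem_image.1 hg; exact hfk p)))
  intro q _
  obtain ⟨p, hp, hq⟩ := Set.mem_iUnion₂.1 (ht (Set.mem_univ q))
  exact (Finset.le_sup (f := clop) (Finset.mem_image_of_mem f hp)) hq

end Cover

section Prod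

variable {α : Type u} (A : α → Type u) [∀ i, CommRing (A i)] [∀ i, IsDomain (A i)] [∀ i, ValuationRing (A i)]

/-- indicator -/
noncomputable def chi (s : Set α) : ∀ i, A i := by classical exact fun i => if i ∈ s then 1 else 0

theorem chi_idem (s : Set α) : IsIdempotentElem (chi A s) := by
  classical
  funext i
  simp [chi]

theorem chi_mem_or (P : Ideal (∀ i, A i)) [P.IsPrime] (s : Set α) : chi A s ∈ P ∨ chi A sᶜ ∈ P := by
  classical
  refine ‹P.IsPrime›.mem_or_mem ?_
  have e : chi A s * chi A sᶜ = 0 := by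
    funext i
    by_cases h : i ∈ s <;> simp [chi, h]
  rw [e]
  exact P.zero_mem

theorem quot_idem_domain_valuation (P : Ideal (∀ i, A i)) [P.IsPrime] :
    ∃ (_ : IsDomain ((∀ i, A i) ⧸ idemIdeal P)), ValuationRing ((∀ i, A i) ⧸ idemIdeal P) := by
  classical
  have mem : ∀ (x : ∀ i, A i) (s : Set α), (∀ i ∉ s, x i = 0) → chi A s ∈ P → x ∈ idemIdeal P := fun x s hs hP =>
    ⟨chi A s, chi_idem A s, hP, funext fun i => by by_cases h : i ∈ s <;> simp [chi, h, hs i]⟩
  haveI hpr : (idemIdeal P).IsPrime := by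
    refine ⟨fun h => ?_, fun {x y} hxy => ?_⟩
    · obtain ⟨e, -, heP, h1⟩ := (Ideal.eq_top_iff_one _).1 h
      rw [one_mul] at h1
      exact ‹P.IsPrime›.ne_top ((Ideal.eq_top_iff_one _).2 (h1 ▸ heP))
    obtain ⟨e, he, heP, hxye⟩ := hxy
    rcases chi_mem_or A P {i | x i ≠ 0} with hx | hx
    · exact Or.inl (mem x _ (fun i hi => not_not.1 hi) hx)
    · refine Or.inr ⟨e + chi A {i | x i ≠ 0}ᶜ - e * chi A {i | x i ≠ 0}ᶜ, ?_,
        P.sub_mem (P.add_mem heP hx) (P.mul_mem_left _ hx), funext fun i => ?_⟩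
      · have hc := chi_idem A {i | x i ≠ 0}ᶜ
        unfold IsIdempotentElem at he hc ⊢
        linear_combination (1 - 2 * chi A {i | x i ≠ 0}ᶜ + chi A {i | x i ≠ 0}ᶜ * chi A {i | x i ≠ 0}ᶜ) * he +
          (1 - e) * hc
      · by_cases h : x i = 0
        · simp [chi, h]
        · have h' := congrFun hxye i
          simp only [Pi.mul_apply] at h'
          rw [mul_assoc] at h'
          simp [chi, h, mul_left_cancel₀ h h']
  haveI : IsDomain ((∀ i, A i) ⧸ idemIdeal P) := Ideal.Quotient.isDomain _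
  refine ⟨this, ?_⟩
  haveI : PreValuationRing ((∀ i, A i) ⧸ idemIdeal P) := by
    refine ⟨fun a b => ?_⟩
    obtain ⟨f, rfl⟩ := Ideal.Quotient.mk_surjective a
    obtain ⟨g, rfl⟩ := Ideal.Quotient.mk_surjective b
    have h1 : ∀ i, ∃ c : A i, (f i ∣ g i → f i * c = g i) ∧ (¬ f i ∣ g i → g i * c = f i) := fun i => by
      by_cases h : f i ∣ g i
      · obtain ⟨c, hc⟩ := h
        exact ⟨c, fun _ => hc.symm, fun h' => absurd ⟨c, hc⟩ h'⟩
      · obtain ⟨c, hc | hc⟩ := ValuationRing.cond (f i) (g i)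
        · exact absurd ⟨c, hc.symm⟩ h
        · exact ⟨c, fun h' => absurd h' h, fun _ => hc⟩
    choose c hc hc' using h1
    refine ⟨Ideal.Quotient.mk _ c, ?_⟩
    rcases chi_mem_or A P {i | ¬ f i ∣ g i} with h | h
    · left
      rw [← map_mul, Ideal.Quotient.eq]
      refine mem _ _ (fun i hi => ?_) h
      simp [hc i (not_not.1 hi)]
    · right
      rw [← map_mul, Ideal.Quotient.eq]
      refine mem _ _ (fun i hi => ?_) h
      simp [hc' i (not_not.1 hi)]
  exact {}

/-- rational cohomology of a product of valuation rings vanishes -/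
theorem H_rat_eq_zero_of_pi_valuationRing (n : ℕ)
    (x : EtCoh.H (Spec (CommRingCat.of (∀ i, A i))) (EtCoh.const (Spec (CommRingCat.of (∀ i, A i))) ℚ) (n + 1)) :
    x = 0 :=
  H_rat_eq_zero_of_components (fun P hP => by
    obtain ⟨h1, h2⟩ := quot_idem_domain_valuation A P
    exact ⟨h1, inferInstance⟩) n x

end Prod

end Groth.Agent.GalEt
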