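import Groth.Agent.FFLib.Degree
import Groth.Prelude.Def_AdFn
import Mathlib.FieldTheory.SeparableClosure
import Mathlib.FieldTheory.Perfect
import Mathlib.FieldTheory.PurelyInseparable.PerfectClosure
import Mathlib.FieldTheory.KummerPolynomial
import Mathlib.LinearAlgebra.TensorProduct.Basis
import Mathlib.RingTheory.Artinian.Ring
import Mathlib.LinearAlgebra.FreeModule.Finite.Matrix
import Mathlib.RingTheory.Nilpotent.Basic
import Mathlib.FieldTheory.Finite.Basic

/-!
# Separability of the completions of a global function field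
-/

set_option autoImplicit false
set_option maxHeartbeats 1000000
set_option linter.style.haveILetI false
set_option backward.isDefEq.respectTransparency.types false

universe u

open Polynomial IntermediateField TensorProduct

namespace Groth.Agent.GalEt.SepFF

variable {Fq : Type u} [Field Fq] [Finite Fq] {K : Type u} [Field K] [Algebra (RatFunc Fq) K] [FunctionField Fq K]
    [Algebra Fq K] [IsScalarTower Fq (RatFunc Fq) K]

theorem isFF : FFLib.IsFF Fq K := by
  let x : K := algebraMap (RatFunc Fq) K RatFunc.X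
  have hx : Transcendental Fq x :=
    (transcendental_algebraMap_iff (algebraMap (RatFunc Fq) K).injective).2 RatFunc.transcendental_X
  refine ⟨x, hx, ?_⟩
  let f : RatFunc Fq →ₐ[Fq] K := IsScalarTower.toAlgHom Fq (RatFunc Fq) K
  have hr : f.fieldRange = Fq⟮x⟯ := by
    rw [AlgHom.fieldRange_eq_map, ← RatFunc.adjoin_X, IntermediateField.adjoin_map, Set.image_singleton]
    rfl
  rw [← hr]
  letI : Algebra (RatFunc Fq) f.fieldRange := f.rangeRestrict.toRingHom.toAlgebra
  haveI : IsScalarTower (RatFunc Fq) f.fieldRange K := IsScalarTower.of_algebraMap_eq fun _ => rfl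
  exact Module.Finite.of_restrictScalars_finite (RatFunc Fq) f.fieldRange K

theorem finite_poles (x : K) : Set.Finite {v : FunFld.Place Fq K | 1 < v.1 x} := by
  by_cases hx : x = 0
  · simp [hx]
  refine (FFLib.finite_support_ord isFF x).subset fun v hv => ?_
  have := (FFLib.one_lt_val_iff v hx).1 hv
  simp only [Function.mem_support]
  omega

variable (p : ℕ) [hp : Fact p.Prime] [CharP Fq p]

theorem exists_coeffs (f : RatFunc Fq) :
    ∃ c : Fin p → RatFunc Fq, f = ∑ a, c a ^ p * RatFunc.X ^ (a : ℕ) := by
  have hpoly : ∀ q : Fq[X], ∃ c : Fin p → Fq[X], q = ∑ a, c a ^ p * X ^ (a : ℕ) := fun q => by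
    induction q using Polynomial.induction_on' with
    | add q r hq hr =>
      obtain ⟨c, rfl⟩ := hq
      obtain ⟨d, rfl⟩ := hr
      exact ⟨c + d, by simp [← Finset.sum_add_distrib, add_pow_char, add_mul]⟩
    | monomial m e =>
      obtain ⟨e', rfl⟩ : ∃ e', e' ^ p = e := by
        haveI := Fintype.ofFinite Fq
        exact (PerfectRing.bijective_frobenius (R := Fq) (p := p)).2 e
      refine ⟨fun a => if (a : ℕ) = m % p then C e' * X ^ (m / p) else 0, ?_⟩
      rw [Finset.sum_eq_single ⟨m % p, Nat.mod_lt _ hp.out.pos⟩ (fun b _ hb => by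
        simp only [if_neg (fun h : (b : ℕ) = m % p => hb (Fin.ext h)), zero_pow hp.out.ne_zero, zero_mul]) (by simp)]
      simp only [↓reduceIte]
      rw [mul_pow, ← C_pow, ← pow_mul, mul_assoc, ← pow_add, Nat.div_add_mod' m p, C_mul_X_pow_eq_monomial]
  induction f using RatFunc.induction_on with
  | f g h hh =>
    obtain ⟨c, hc⟩ := hpoly (g * h ^ (p - 1))
    refine ⟨fun a => algebraMap _ _ (c a) / algebraMap _ _ h, ?_⟩
    have hh' : algebraMap Fq[X] (RatFunc Fq) h ≠ 0 := RatFunc.algebraMap_ne_zero hh
    calc algebraMap _ (RatFunc Fq) g / algebraMap _ _ h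
        = algebraMap _ _ (g * h ^ (p - 1)) / algebraMap _ _ h ^ p := by
          rw [map_mul, map_pow, div_eq_div_iff hh' (pow_ne_zero _ hh'), mul_assoc, ← pow_succ, Nat.sub_add_cancel hp.out.one_le]
      _ = _ := by
          rw [hc, map_sum, div_eq_mul_inv, Finset.sum_mul]
          refine Finset.sum_congr rfl fun a _ => ?_
          simp only [map_mul, map_pow, RatFunc.algebraMap_X, div_pow]
          ring

theorem surjective_of_semilinear {E L ι : Type*} [Field E] [Field L] [Fintype ι] (φ : E →+* L)
    (f g : (ι → E) →+ L) (hf : ∀ r c, f (r • c) = φ r * f c) (hg : ∀ r c, g (r • c) = φ r * g c)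
    (hfs : Function.Surjective f) (hgi : Function.Injective g) : Function.Surjective g := by
  letI : Algebra E L := φ.toAlgebra
  let fL : (ι → E) →ₗ[E] L := { f with map_smul' := fun r c => hf r c }
  let gL : (ι → E) →ₗ[E] L := { g with map_smul' := fun r c => hg r c }
  haveI : FiniteDimensional E L := Module.Finite.of_surjective fL hfs
  refine (LinearMap.injective_iff_surjective_of_finrank_eq_finrank (f := gL) (le_antisymm ?_ ?_)).1 hgi
  · exact LinearMap.finrank_le_finrank_of_injective (f := gL) hgi
  · exact LinearMap.finrank_le_finrank_of_surjective (f := fL) hfs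

omit hp [CharP Fq p]

/-- `1, t, …, t^(p-1)` are independent over the `p`-th powers -/
def PInd {L : Type*} [Field L] (t : L) : Prop :=
  ∀ a : Fin p → L, ∑ i, a i ^ p * t ^ (i : ℕ) = 0 → ∀ i, a i = 0

theorem pind_of_val {L : Type*} [Field L] (w : Valuation L (WithZero (Multiplicative ℤ))) {t : L}
    (ht : w t = WithZero.exp (-1)) : PInd p t := by
  intro a ha i
  by_contra hi
  classical
  let s := Finset.univ.filter fun j => a j ≠ 0
  have hval : ∀ j ∈ s, w (a j ^ p * t ^ (j : ℕ)) =
      WithZero.exp ((p : ℤ) * WithZero.log (w (a j)) - (j : ℕ)) := by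
    intro j hj
    have hw : w (a j) ≠ 0 := w.ne_zero_iff.2 (Finset.mem_filter.1 hj).2
    rw [map_mul, map_pow, map_pow, ht, ← WithZero.exp_nsmul, ← WithZero.exp_log hw, ← WithZero.exp_nsmul,
      ← WithZero.exp_add, WithZero.log_exp]
    congr 1
    simp [nsmul_eq_mul]
    ring
  obtain ⟨j, hj, hmax⟩ := s.exists_max_image (fun j => w (a j ^ p * t ^ (j : ℕ))) ⟨i, by simp [s, hi]⟩
  have hlt : ∀ k ∈ s, k ≠ j → w (a k ^ p * t ^ (k : ℕ)) < w (a j ^ p * t ^ (j : ℕ)) := by
    intro k hk hne
    refine lt_of_le_of_ne (hmax k hk) fun h => hne ?_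
    rw [hval k hk, hval j hj, WithZero.exp_inj] at h
    have h1 : ((k : ℕ) : ℤ) % p = ((j : ℕ) : ℤ) % p := by
      rw [Int.emod_eq_emod_iff_emod_sub_eq_zero]
      exact Int.emod_eq_zero_of_dvd ⟨WithZero.log (w (a k)) - WithZero.log (w (a j)), by linarith⟩
    rw [Int.emod_eq_of_lt (by positivity) (by exact_mod_cast k.2), Int.emod_eq_of_lt (by positivity) (by exact_mod_cast j.2)] at h1
    exact Fin.ext (by exact_mod_cast h1)
  have hsum : ∑ k ∈ s, a k ^ p * t ^ (k : ℕ) = 0 := by
    rw [Finset.sum_filter_of_ne]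
    · exact ha
    · intro k _ hne h0
      exact hne (by rw [h0, zero_pow (by have := k.2; omega), zero_mul])
  have := w.map_sum_eq_of_lt hj (fun k hk => hlt k (Finset.mem_sdiff.1 hk).1 (by simpa using (Finset.mem_sdiff.1 hk).2))
  rw [hsum, map_zero] at this
  rw [hval j hj] at this
  exact WithZero.exp_ne_zero this.symm

include hp

theorem not_pow_of_pind {L : Type*} [Field L] [CharP L p] {t : L} (h : PInd p t) (u : L) : u ^ p ≠ t := by
  intro hu
  have h0 : (⟨1, hp.out.one_lt⟩ : Fin p) ≠ ⟨0, hp.out.pos⟩ := by simp [Fin.ext_iff]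
  classical
  have := h (fun i => if i = ⟨0, hp.out.pos⟩ then u else if i = ⟨1, hp.out.one_lt⟩ then (-1 : L) else 0) ?_ ⟨1, hp.out.one_lt⟩
  · simp [h0] at this
  · rw [Finset.sum_eq_add (⟨0, hp.out.pos⟩ : Fin p) ⟨1, hp.out.one_lt⟩ h0.symm]
    · simp only [↓reduceIte, if_neg h0, pow_zero, mul_one, pow_one]
      rw [hu, show (-1 : L) ^ p = -1 from by simpa [frobenius_def] using (frobenius L p).map_neg 1]
      ring
    · intro c _ hc
      simp only [if_neg hc.1, if_neg hc.2, zero_pow hp.out.ne_zero, zero_mul]
    all_goals simp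

theorem pind_of_not_pow {L : Type u} [Field L] [CharP L p] {t : L} (h : ∀ u : L, u ^ p ≠ t) : PInd p t := by
  intro a ha
  let A := AlgebraicClosure L
  haveI : CharP A p := charP_of_injective_algebraMap (algebraMap L A).injective p
  obtain ⟨u, hu⟩ := IsAlgClosed.exists_pow_nat_eq (algebraMap L A t) hp.out.pos
  have hirr := X_pow_sub_C_irreducible_of_prime hp.out h
  have hmin : minpoly L u = X ^ p - C t :=
    (minpoly.eq_of_irreducible_of_monic hirr (by simp [hu]) (monic_X_pow_sub_C t hp.out.ne_zero)).symm
  have hli := linearIndependent_pow (K := L) u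
  rw [hmin, natDegree_X_pow_sub_C] at hli
  refine Fintype.linearIndependent_iff.1 hli a ?_
  refine (pow_eq_zero_iff hp.out.ne_zero).1 ?_
  rw [sum_pow_char]
  simp only [Algebra.smul_def, mul_pow, ← pow_mul, mul_comm _ p]
  simp only [pow_mul, hu, ← map_pow, ← map_mul, ← map_sum, ha, map_zero]

variable [CharP Fq p] [CharP K p]

/-- a uniformizer generates the field over the `p`-th powers -/
theorem exists_pow_combination (v : FunFld.Place Fq K) {t : K} (ht : v.1 t = WithZero.exp (-1)) (z : K) :
    ∃ a : Fin p → K, z = ∑ i, a i ^ p * t ^ (i : ℕ) := by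
  classical
  let E := RatFunc Fq
  haveI : CharP E p := charP_of_injective_algebraMap (algebraMap Fq E).injective p
  let φ : E →+* K := (algebraMap E K).comp (frobenius E p)
  let b := Module.finBasis E K
  let d := Module.finrank E K
  let f : (Fin p × Fin d → E) →+ K :=
    AddMonoidHom.mk' (fun c => ∑ q : Fin p × Fin d, φ (c q) * (algebraMap E K RatFunc.X ^ (q.1 : ℕ) * b q.2))
      fun c c' => by simp [← Finset.sum_add_distrib, add_mul]
  let g : (Fin p × Fin d → E) →+ K :=
    AddMonoidHom.mk' (fun c => ∑ i : Fin p, (∑ j, c (i, j) • b j) ^ p * t ^ (i : ℕ))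
      fun c c' => by simp only [Pi.add_apply, add_smul, Finset.sum_add_distrib, add_pow_char, add_mul]
  suffices hs : Function.Surjective g by
    obtain ⟨c, rfl⟩ := hs z
    exact ⟨fun i => ∑ j, c (i, j) • b j, rfl⟩
  refine surjective_of_semilinear φ f g (fun r c => ?_) (fun r c => ?_) (fun w => ?_) ?_
  · show ∑ q, φ ((r • c) q) * _ = φ r * ∑ q, φ (c q) * _
    rw [Finset.mul_sum]
    exact Finset.sum_congr rfl fun q _ => by simp [mul_assoc]
  · show ∑ i : Fin p, (∑ j, (r • c) (i, j) • b j) ^ p * t ^ (i : ℕ) = φ r * ∑ i : Fin p, (∑ j, c (i, j) • b j) ^ p * t ^ (i : ℕ)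
    rw [Finset.mul_sum]
    refine Finset.sum_congr rfl fun i _ => ?_
    rw [show (∑ j, (r • c) (i, j) • b j) = algebraMap E K r * ∑ j, c (i, j) • b j from by
      simp [Finset.mul_sum, Algebra.smul_def, mul_assoc]]
    simp only [mul_pow, φ, RingHom.comp_apply, frobenius_def, map_pow, mul_assoc]
  · choose c hc using fun j => exists_coeffs (Fq := Fq) p (b.repr w j)
    refine ⟨fun q => c q.2 q.1, ?_⟩
    show ∑ q : Fin p × Fin d, _ = w
    rw [Fintype.sum_prod_type_right]
    conv_rhs => rw [← b.sum_repr w]
    refine Finset.sum_congr rfl fun j _ => ?_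
    rw [Algebra.smul_def, hc j, map_sum, Finset.sum_mul]
    refine Finset.sum_congr rfl fun a _ => ?_
    simp only [φ, RingHom.comp_apply, frobenius_def, map_mul, map_pow]
    ring
  · rw [injective_iff_map_eq_zero]
    intro c hc
    funext q
    exact Fintype.linearIndependent_iff.1 b.linearIndependent (fun j => c (q.1, j))
      (pind_of_val p v.1 ht (fun i => ∑ j, c (i, j) • b j) hc q.1) q.2

omit hp [CharP Fq p] [CharP K p] in
theorem eq_zero_of_sum_tmul {k M N ι : Type u} [Field k] [AddCommGroup M] [Module k M] [AddCommGroup N] [Module k N]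
    [Fintype ι] {f : ι → M} (hf : LinearIndependent k f) (c : ι → N) (h : ∑ i, f i ⊗ₜ[k] c i = 0) (i : ι) : c i = 0 := by
  classical
  obtain ⟨g, hg⟩ := (Fintype.linearCombination k f).exists_leftInverse_of_injective
    (LinearMap.ker_eq_bot.2 hf.fintypeLinearCombination_injective)
  have hgl : ∀ l, g (f l) i = if l = i then 1 else 0 := fun l => by
    have := congrFun (LinearMap.congr_fun hg (Pi.single l 1)) i
    simpa [Fintype.linearCombination_apply_single, Pi.single_apply, eq_comm] using this
  have := congrArg ((TensorProduct.lid k N).toLinearMap ∘ₗ ((LinearMap.proj i ∘ₗ g).rTensor N)) h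
  simpa [hgl] using this

variable {L : Type u} [Field L] [Algebra K L]

/-- `p`-th powers of independent elements stay independent -/
theorem linearIndependent_pow_char (v : FunFld.Place Fq K) {t : K} (ht : v.1 t = WithZero.exp (-1))
    (h : PInd p (algebraMap K L t)) {ι : Type*} {e : ι → L} (he : LinearIndependent K e) :
    LinearIndependent K fun i => e i ^ p := by
  haveI : CharP L p := charP_of_injective_algebraMap (algebraMap K L).injective p
  rw [linearIndependent_iff'] at he ⊢
  intro s g hg
  choose a ha using fun i => exists_pow_combination p v ht (g i)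
  have h0 := h (fun j => ∑ i ∈ s, a i j • e i) ?_
  · intro i hi
    rw [ha i]
    exact Finset.sum_eq_zero fun j _ => by rw [he s (fun i => a i j) (h0 j) i hi, zero_pow hp.out.ne_zero, zero_mul]
  · rw [← hg]
    simp only [sum_pow_char, Finset.sum_mul]
    rw [Finset.sum_comm]
    refine Finset.sum_congr rfl fun i _ => ?_
    rw [ha i, Finset.sum_smul]
    refine Finset.sum_congr rfl fun j _ => ?_
    simp only [Algebra.smul_def, map_mul, map_pow, mul_pow]
    ring

theorem pind_Kv (v : FunFld.Place Fq K) {t : K} (ht : v.1 t = WithZero.exp (-1)) :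
    PInd p (algebraMap K (AdFn.Kv v) t) :=
  pind_of_val p Valued.v ((AdFn.valued_toKv v t).trans ht)

omit [CharP Fq p] [CharP K p] in
theorem pind_separable {F : Type u} [Field F] [CharP F p] {Ω : Type u} [Field Ω] [Algebra F Ω]
    [Algebra.IsSeparable F Ω] {t : F} (h : PInd p t) : PInd p (algebraMap F Ω t) := by
  haveI : CharP Ω p := charP_of_injective_algebraMap (algebraMap F Ω).injective p
  refine pind_of_not_pow p fun u hu => ?_
  haveI : ExpChar F p := ExpChar.prime hp.out
  have hu' : u ∈ (⊥ : IntermediateField F Ω) := by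
    rw [← separableClosure_inf_perfectClosure]
    exact ⟨Algebra.IsSeparable.isSeparable F u, (mem_perfectClosure_iff_pow_mem p).2 ⟨1, t, by rw [pow_one, hu]⟩⟩
  obtain ⟨w, rfl⟩ := IntermediateField.mem_bot.1 hu'
  exact not_pow_of_pind p h w ((algebraMap F Ω).injective (by rw [map_pow, hu]))

/-- base change of a reduced algebra along a separable extension is reduced -/
theorem isReduced_tensor (v : FunFld.Place Fq K) {t : K} (ht : v.1 t = WithZero.exp (-1))
    (h : PInd p (algebraMap K L t)) (R : Type u) [CommRing R] [Algebra K R] [IsReduced R] [Nontrivial R] :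
    IsReduced (L ⊗[K] R) := by
  classical
  haveI : CharP R p := charP_of_injective_algebraMap (algebraMap K R).injective p
  haveI : Nontrivial (L ⊗[K] R) := by
    haveI := (Module.Free.chooseBasis K L).index_nonempty
    exact (TensorProduct.equivFinsuppOfBasisLeft (Module.Free.chooseBasis K L) (N := R)).toEquiv.nontrivial
  haveI : CharP (L ⊗[K] R) p := charP_of_injective_algebraMap (algebraMap K (L ⊗[K] R)).injective p
  rw [isReduced_iff_pow_one_lt p hp.out.one_lt]
  intro z hz
  let b := Module.Free.chooseBasis K L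
  let e := TensorProduct.equivFinsuppOfBasisLeft b (N := R)
  obtain ⟨c, rfl⟩ := e.symm.surjective z
  have hc : e.symm c = c.sum fun l r => b l ⊗ₜ[K] r := TensorProduct.equivFinsuppOfBasisLeft_symm_apply b c
  rw [hc, Finsupp.sum, sum_pow_char] at hz
  simp only [Algebra.TensorProduct.tmul_pow] at hz
  have hli := (linearIndependent_pow_char p v ht h b.linearIndependent).comp (fun l : c.support => l.1) Subtype.val_injective
  rw [← Finset.sum_coe_sort] at hz
  have h0 := eq_zero_of_sum_tmul hli _ hz
  have : c = 0 := Finsupp.ext fun l => by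
    by_contra hne
    exact hne (eq_zero_of_pow_eq_zero (h0 ⟨l, Finsupp.mem_support_iff.2 hne⟩))
  simp [this]

omit hp [CharP K p] in
/-- finitely many points of a finite algebra in a finite reduced algebra -/
theorem finite_ringHom {k A C : Type u} [Field k] [CommRing A] [CommRing C] [IsArtinianRing C] [IsReduced C]
    (ψ : k →+* A) (hψ : ψ.Finite) (χ : k →+* C) : Finite {f : A →+* C // f.comp ψ = χ} := by
  letI := ψ.toAlgebra
  haveI : Module.Finite k A := hψ
  letI := χ.toAlgebra
  haveI : ∀ I : MaximalSpectrum C, IsDomain (C ⧸ I.asIdeal) := fun I => Ideal.Quotient.isDomain _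
  refine Finite.of_injective (β := ∀ I : MaximalSpectrum C, A →ₐ[k] C ⧸ I.asIdeal)
    (fun f I => (Ideal.Quotient.mkₐ k I.asIdeal).comp ({ f.1 with commutes' := fun r => RingHom.congr_fun f.2 r } : A →ₐ[k] C)) ?_
  intro f g hfg
  refine Subtype.ext (RingHom.ext fun a => (IsArtinianRing.equivPi C).injective (funext fun I => ?_))
  rw [IsArtinianRing.equivPi_apply, IsArtinianRing.equivPi_apply]
  exact AlgHom.congr_fun (congrFun hfg I) a

end Groth.Agent.GalEt.SepFF
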