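import Mathlib.FieldTheory.SeparablyGenerated
import Mathlib.FieldTheory.IsSepClosed
import Mathlib.RingTheory.AlgebraicIndependent.Adjoin
import Mathlib.FieldTheory.IntermediateField.Adjoin.Algebra

/-!
# A subfield of a separable extension with finitely many embeddings is separable algebraic
-/

set_option autoImplicit false
set_option maxHeartbeats 1000000
set_option linter.style.haveILetI false
set_option backward.isDefEq.respectTransparency.types false

universe u

open IntermediateField MvPolynomial

namespace Groth.Agent.GalEt.SepPts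

theorem sep_of_bot {K F : Type u} [Field K] [Field F] [Algebra K F] (S : IntermediateField K F) (hS : S = ⊥)
    (h : Algebra.IsSeparable S F) (x : F) : IsSeparable K x := by
  subst hS
  haveI := h
  haveI : Algebra.IsSeparable K (⊥ : IntermediateField K F) :=
    Algebra.IsSeparable.of_algHom K K (botEquiv K F).toAlgHom
  exact IsSeparable.of_algebra_isSeparable_of_isSeparable K
    (Algebra.IsSeparable.isSeparable (⊥ : IntermediateField K F) x)

theorem isSeparable_of_finite_algHom_core {K F Ω : Type u} [Field K] [Infinite K] [Field F] [Algebra K F]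
    [Algebra.EssFiniteType K F] [Field Ω] [Algebra K Ω] [IsSepClosed Ω] (p : ℕ) (hp : p.Prime) [ExpChar K p]
    (i : F →ₐ[K] Ω) (hF : ∀ s : Finset F, LinearIndepOn K _root_.id (s : Set F) → LinearIndepOn K (· ^ p) (s : Set F))
    (hfin : Finite (F →ₐ[K] Ω)) (x : F) : IsSeparable K x := by
  classical
  obtain ⟨s, hs, hsep⟩ := exists_isTranscendenceBasis_and_isSeparable_of_linearIndepOn_pow_of_essFiniteType
    (k := K) (K := F) p hp hF
  rcases s.eq_empty_or_nonempty with rfl | ⟨y, hy⟩
  · exact sep_of_bot _ (by simp) hsep x
  · exfalso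
    let a : s → Ω := fun j => i j.1
    have ha : AlgebraicIndependent K a := hs.1.map' (f := i) i.injective
    have hinj : ∀ c : K, AlgebraicIndependent K fun j => a j + algebraMap K Ω c := fun c => by
      have e : (MvPolynomial.aeval fun j => a j + algebraMap K Ω c) =
          (MvPolynomial.aeval a).comp (MvPolynomial.aeval fun j : s => X j + C c) := by
        refine MvPolynomial.algHom_ext fun j => ?_
        simp
      rw [AlgebraicIndependent, e, AlgHom.coe_comp]
      refine Function.Injective.comp ha (Function.HasLeftInverse.injective ⟨MvPolynomial.aeval fun j : s => X j - C c, fun q => ?_⟩)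
      rw [← AlgHom.comp_apply]
      conv_rhs => rw [← AlgHom.id_apply (R := K) q]
      refine AlgHom.congr_fun (MvPolynomial.algHom_ext fun j => ?_) q
      simp
    let σ : ∀ c : K, adjoin K (s : Set F) →ₐ[K] Ω := fun c =>
      ((adjoin K (Set.range fun j => a j + algebraMap K Ω c)).val.comp (hinj c).aevalEquivField.toAlgHom).comp
        (hs.1.aevalEquivField.symm.toAlgHom.comp (inclusion (le_of_eq (by simp))))
    have hσ : ∀ c : K, σ c ⟨y, subset_adjoin _ _ hy⟩ = a ⟨y, hy⟩ + algebraMap K Ω c := fun c => by
      have e : hs.1.aevalEquivField.symm ⟨y, subset_adjoin K _ ⟨(⟨y, hy⟩ : s), rfl⟩⟩ =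
          algebraMap (MvPolynomial s K) (FractionRing (MvPolynomial s K)) (X (⟨y, hy⟩ : s)) := by
        rw [AlgEquiv.symm_apply_eq]
        exact Subtype.ext (by rw [AlgebraicIndependent.aevalEquivField_algebraMap_apply_coe, aeval_X])
      show ((hinj c).aevalEquivField (hs.1.aevalEquivField.symm ⟨y, _⟩) : Ω) = _
      rw [e, AlgebraicIndependent.aevalEquivField_algebraMap_apply_coe, aeval_X]
    choose τ hτ using fun c => IsSepClosed.surjective_domRestrict_of_isSeparable (M := Ω) (E := F)
      (adjoin K (s : Set F)) (σ c)
    haveI := hfin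
    suffices Function.Injective τ by
      haveI := Finite.of_injective τ this
      exact not_finite K
    intro c d hcd
    have h1 := congrArg (fun (g : F →ₐ[K] Ω) => g.domRestrict (adjoin K (s : Set F)) ⟨y, subset_adjoin _ _ hy⟩) hcd
    simp only [hτ, hσ] at h1
    exact (algebraMap K Ω).injective (add_left_cancel h1)

theorem isSeparable_of_finite_algHom {K L Ω : Type u} [Field K] [Infinite K] [Field L] [Algebra K L]
    [Field Ω] [Algebra K Ω] [IsSepClosed Ω] (p : ℕ) (hp : p.Prime) [ExpChar K p] (i : L →ₐ[K] Ω)
    (hL : ∀ {ι : Type u} (e : ι → L), LinearIndependent K e → LinearIndependent K fun j => e j ^ p)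
    (T : Set L) (hT : T.Finite) (hfin : Finite (adjoin K T →ₐ[K] Ω)) {x : L} (hx : x ∈ T) :
    IsSeparable K x := by
  haveI : Algebra.EssFiniteType K (adjoin K T) := essFiniteType_iff.2 (fg_def.2 ⟨T, hT, rfl⟩)
  have h := isSeparable_of_finite_algHom_core p hp (i.comp (adjoin K T).val) (fun w hw => by
    have h1 := hw.linearIndependent.map' (adjoin K T).val.toLinearMap (LinearMap.ker_eq_bot.2 (adjoin K T).val.injective)
    exact LinearIndependent.of_comp (adjoin K T).val.toLinearMap (by simpa [Function.comp_def] using hL _ h1))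
    hfin ⟨x, subset_adjoin _ _ hx⟩
  rw [IsSeparable, IntermediateField.minpoly_eq] at h
  exact h

end Groth.Agent.GalEt.SepPts
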