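import Groth.Agent.GalEt.H1

/-!
# Sections over a split cover
-/

universe u

open CategoryTheory CategoryTheory.Limits AlgebraicGeometry Opposite

namespace Groth.Agent.GalEt

set_option backward.isDefEq.respectTransparency.types false

variable {X : Scheme.{u}}

/-- the graph of `g : U ⟶ T` -/
noncomputable def graph {T U : X.Etale} (g : U ⟶ T) : U ⟶ (P T).obj U :=
  MorphismProperty.Over.homMk
    (pullback.lift (𝟙 U.left) (g.left : U.left ⟶ T.left)
      ((Category.id_comp _).trans (MorphismProperty.Over.w g).symm))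
    ((Category.assoc _ _ _).symm.trans ((congrArg (· ≫ (T.hom : T.left ⟶ X)) (pullback.lift_snd _ _ _)).trans
      (MorphismProperty.Over.w g)))

@[reassoc]
theorem graph_pr {T U : X.Etale} (g : U ⟶ T) : graph g ≫ pr T U = 𝟙 U :=
  MorphismProperty.Over.Hom.ext (pullback.lift_fst _ _ _)

@[reassoc]
theorem graph_pr₂ {T U : X.Etale} (g : U ⟶ T) : graph g ≫ pr₂ T U = g :=
  MorphismProperty.Over.Hom.ext (pullback.lift_snd _ _ _)

theorem graph_mapT {M T U : X.Etale} (g : U ⟶ M) (i : M ⟶ T) : graph g ≫ mapT i U = graph (g ≫ i) :=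
  P_hom_ext (by rw [Category.assoc, mapT_pr, graph_pr, graph_pr])
    (by rw [Category.assoc, mapT_pr₂, graph_pr₂_assoc, graph_pr₂])

theorem graph_naturality {T U V : X.Etale} (f : V ⟶ U) (g : U ⟶ T) :
    graph (f ≫ g) ≫ (P T).map f = f ≫ graph g :=
  P_hom_ext (by rw [Category.assoc, map_pr, graph_pr_assoc, Category.assoc, graph_pr, Category.comp_id])
    (by rw [Category.assoc, map_pr₂, graph_pr₂, Category.assoc, graph_pr₂])

variable {k : Type u} [Field k]

theorem graph_cover (L M : Type u) [Field L] [Algebra k L] [FiniteDimensional k L] [IsGalois k L]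
    [Field M] [Algebra k M] [FiniteDimensional k M] [Algebra.IsSeparable k M] (v : extObj k M ⟶ extObj k L) :
    Sieve.generate (Presieve.ofArrows (fun _ : extObj k L ≅ extObj k L => extObj k M)
      (fun i => graph (v ≫ i.hom))) ∈
      (Spec (CommRingCat.of k)).smallEtaleTopology ((P (extObj k L)).obj (extObj k M)) := by
  refine (EtFound.mem_topology_iff _).2 fun z => ?_
  obtain ⟨W, g, w, σ, hw, hσ⟩ := (isGaloisObj_extObj (k := k) L).locally
    (pr (extObj k L) (extObj k M) ≫ v) (pr₂ (extObj k L) (extObj k M)) z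
  refine ⟨W, g, w, ⟨extObj k M, g ≫ pr (extObj k L) (extObj k M), graph (v ≫ σ.hom), Presieve.ofArrows.mk σ, ?_⟩, hw⟩
  exact P_hom_ext (by simp only [Category.assoc, graph_pr, Category.comp_id])
    (by simp only [Category.assoc, graph_pr₂] at hσ ⊢; exact hσ)

theorem section_graph_ext (L M : Type u) [Field L] [Algebra k L] [FiniteDimensional k L] [IsGalois k L]
    [Field M] [Algebra k M] [FiniteDimensional k M] [Algebra.IsSeparable k M] (v : extObj k M ⟶ extObj k L)
    (F : EtCoh.Ab (Spec (CommRingCat.of k))) {s t : EtCoh.sect F ((P (extObj k L)).obj (extObj k M))}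
    (h : ∀ i : extObj k L ≅ extObj k L, F.obj.map (graph (v ≫ i.hom)).op s = F.obj.map (graph (v ≫ i.hom)).op t) :
    s = t := by
  refine EtFound.eq_of_cover F _ _ ((Spec (CommRingCat.of k)).smallEtaleTopology.superset_covering ?_ (graph_cover L M v))
  rintro Y f ⟨Z, a, b, ⟨i⟩, rfl⟩
  show F.obj.map _ s = F.obj.map _ t
  rw [← hom_comp_map F, ← hom_comp_map F, h i]

set_option maxHeartbeats 1000000 in
/-- sections over `Spec M ⊗ L` for `M ⊇ L` Galois are families indexed by the embeddings -/
theorem exists_section_graph (L M : Type u) [Field L] [Algebra k L] [FiniteDimensional k L] [IsGalois k L]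
    [Field M] [Algebra k M] [FiniteDimensional k M] [Algebra.IsSeparable k M] (v : extObj k M ⟶ extObj k L)
    (F : EtCoh.Ab (Spec (CommRingCat.of k)))
    (f : (extObj k L ≅ extObj k L) → EtCoh.sect F (extObj k M)) :
    ∃ s : EtCoh.sect F ((P (extObj k L)).obj (extObj k M)),
      ∀ i, F.obj.map (graph (v ≫ i.hom)).op s = f i := by
  let U := extObj k M
  let T := extObj k L
  let γ : (T ≅ T) → (U ⟶ (P T).obj U) := fun i => graph (v ≫ i.hom)
  have hcov := graph_cover L M v
  have h := ((isSheaf_iff_isSheaf_of_type _ _).1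
    ((sheafCompose (Spec (CommRingCat.of k)).smallEtaleTopology (forget AddCommGrpCat.{u + 1})).obj F).property)
    _ hcov
  rw [← Presieve.isSheafFor_iff_generate, Presieve.isSheafFor_arrows_iff] at h
  refine (h f fun i j Z gi gj e => ?_).exists
  have h1 : gi = gj := by
    have := congrArg (· ≫ pr T U) e
    simpa only [γ, T, U, Category.assoc, graph_pr, Category.comp_id] using this
  subst h1
  by_cases hij : i = j
  · subst hij; rfl
  · refine EtFound.eq_of_cover F _ _ ((EtFound.mem_topology_iff _).2 fun z => ?_)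
    exfalso
    obtain ⟨K, _, _, _, _, g, -, -⟩ := exists_extObj_through k z
    have h2 := congrArg (fun t => g ≫ t ≫ pr₂ T U) e
    simp only [γ, T, U, Category.assoc, graph_pr₂] at h2
    obtain ⟨φ, hφ⟩ := extHomEquiv.surjective ((g ≫ gi) ≫ v)
    obtain ⟨a, ha⟩ := extHomEquiv.surjective i.hom
    obtain ⟨b, hb⟩ := extHomEquiv.surjective j.hom
    rw [← Category.assoc g gi, ← Category.assoc _ v, ← Category.assoc g gi, ← Category.assoc _ v, ← hφ, ← ha,
      ← hb] at h2
    have h3 : φ.comp a = φ.comp b := extHomEquiv.injective ((extMap_comp a φ).symm.trans (h2.trans (extMap_comp b φ)))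
    exact hij (Iso.ext (by rw [← ha, ← hb, AlgHom.ext fun x => φ.injective (AlgHom.congr_fun h3 x)]))

/-- compositum: a finite Galois extension containing two given extensions -/
theorem exists_galois_containing (L K : Type u) [Field L] [Algebra k L] [FiniteDimensional k L]
    [Algebra.IsSeparable k L] [Field K] [Algebra k K] [FiniteDimensional k K] [Algebra.IsSeparable k K] :
    ∃ (M : Type u) (_ : Field M) (_ : Algebra k M) (_ : FiniteDimensional k M) (_ : IsGalois k M),
      Nonempty (L →ₐ[k] M) ∧ Nonempty (K →ₐ[k] M) := by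
  let fL : L →ₐ[k] SeparableClosure k := IsSepClosed.lift
  let fK : K →ₐ[k] SeparableClosure k := IsSepClosed.lift
  let C : IntermediateField k (SeparableClosure k) := fL.fieldRange ⊔ fK.fieldRange
  haveI : FiniteDimensional k fL.fieldRange := Module.Finite.equiv (AlgEquiv.ofInjectiveField fL).toLinearEquiv
  haveI : FiniteDimensional k fK.fieldRange := Module.Finite.equiv (AlgEquiv.ofInjectiveField fK).toLinearEquiv
  haveI : Algebra.IsSeparable k C := Algebra.isSeparable_tower_bot_of_isSeparable k _ (SeparableClosure k)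
  refine ⟨galClosure k C, inferInstance, inferInstance, inferInstance, inferInstance, ⟨?_⟩, ⟨?_⟩⟩
  · exact (toGalClosure k C).comp (fL.codRestrict C.toSubalgebra
      fun x => le_sup_left (a := fL.fieldRange) (b := fK.fieldRange) ⟨x, rfl⟩)
  · exact (toGalClosure k C).comp (fK.codRestrict C.toSubalgebra
      fun x => le_sup_right (a := fL.fieldRange) (b := fK.fieldRange) ⟨x, rfl⟩)

end Groth.Agent.GalEt
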