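import Groth.Prelude.Def_CGrpSh
import Mathlib.AlgebraicGeometry.Morphisms.Finite
import Mathlib.AlgebraicGeometry.Pullbacks
import Mathlib.RingTheory.TensorProduct.Finite
import Groth.Agent.GalEt.SepFF

/-!
# Points of a subgroup of a Weil restriction of a finite group scheme
-/

set_option autoImplicit false
set_option maxHeartbeats 1000000
set_option linter.style.haveILetI false
set_option backward.isDefEq.respectTransparency.types false

universe u

open CategoryTheory CategoryTheory.Limits AlgebraicGeometry Opposite TensorProduct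

namespace Groth.Agent.GalEt.WeilPts

theorem finite_scheme_pts {k C : Type u} [Field k] [CommRing C] [IsArtinianRing C] [IsReduced C]
    {B : Scheme.{u}} (g : B ⟶ Spec (CommRingCat.of k)) [IsFinite g] (χ : k →+* C) :
    Finite {y : Spec (CommRingCat.of C) ⟶ B // y ≫ g = Spec.map (CommRingCat.ofHom χ)} := by
  haveI : IsAffine B := isAffine_of_isAffineHom g
  let ψ : CommRingCat.of k ⟶ Γ(B, ⊤) := Spec.preimage (B.isoSpec.inv ≫ g)
  have hψ : Spec.map ψ = B.isoSpec.inv ≫ g := Spec.map_preimage _
  have hfin : ψ.hom.Finite := (IsFinite.SpecMap_iff ψ).1 (by rw [hψ]; infer_instance)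
  haveI := SepFF.finite_ringHom ψ.hom hfin χ
  refine Finite.of_injective (β := {f : Γ(B, ⊤) →+* C // f.comp ψ.hom = χ})
    (fun y => ⟨(Spec.preimage (y.1 ≫ B.isoSpec.hom)).hom, ?_⟩) ?_
  · have h : ψ ≫ Spec.preimage (y.1 ≫ B.isoSpec.hom) = CommRingCat.ofHom χ := Spec.map_injective (by
      rw [Spec.map_comp, Spec.map_preimage, hψ, Category.assoc, Iso.hom_inv_id_assoc]
      exact y.2)
    exact congrArg CommRingCat.Hom.hom h
  · intro y y' h
    have h1 := congrArg Spec.map (CommRingCat.hom_ext (congrArg Subtype.val h) :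
      Spec.preimage (y.1 ≫ B.isoSpec.hom) = Spec.preimage (y'.1 ≫ B.isoSpec.hom))
    rw [Spec.map_preimage, Spec.map_preimage, cancel_mono] at h1
    exact Subtype.ext h1

/-- finitely many points in a reduced base change of a finite scheme -/
theorem finite_pullback_pts {K k' L : Type u} [Field K] [Field k'] [Algebra K k'] [FiniteDimensional K k']
    [Field L] [Algebra K L] [IsReduced (L ⊗[K] k')] (B' : Over (Spec (CommRingCat.of k'))) [IsFinite B'.hom] :
    Finite ((Over.pullback (Spec.map (CommRingCat.ofHom (algebraMap K k')))).obj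
      (Over.mk (Spec.map (CommRingCat.ofHom (algebraMap K L)))) ⟶ B') := by
  haveI : IsArtinianRing (L ⊗[K] k') := IsArtinianRing.of_finite L _
  haveI := finite_scheme_pts B'.hom
    (Algebra.TensorProduct.includeRight (R := K) (A := L) (B := k') : k' →ₐ[K] L ⊗[K] k').toRingHom
  refine Finite.of_injective (β := {y : Spec (CommRingCat.of (L ⊗[K] k')) ⟶ B'.left // y ≫ B'.hom =
    Spec.map (CommRingCat.ofHom
      (Algebra.TensorProduct.includeRight (R := K) (A := L) (B := k') : k' →ₐ[K] L ⊗[K] k').toRingHom)})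
    (fun z => ⟨(pullbackSpecIso K L k').inv ≫ z.left, by
      rw [Category.assoc, show z.left ≫ B'.hom = _ from Over.w z]
      exact pullbackSpecIso_inv_snd K L k'⟩) ?_
  intro z z' h
  exact Over.OverMorphism.ext ((cancel_epi (pullbackSpecIso K L k').inv).1 (congrArg Subtype.val h))

variable {R₀ K k' L : Type u} [CommRing R₀] [Field K] [Field k'] [Algebra K k'] [FiniteDimensional K k']
  [Field L] [Algebra K L] (φ₀ : R₀ →+* K)

/-- finitely many points of a model -/
theorem finite_model_pts [IsReduced (L ⊗[K] k')]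
    (B' : Over (Spec (CommRingCat.of k'))) [GrpObj B'] [IsCommMonObj B'] [IsFinite B'.hom]
    (G : Over (Spec (CommRingCat.of K))) [GrpObj G] [IsCommMonObj G]
    (j : CGrpSh.pts Scheme.fppfPrecoverage G ⟶ (BigSite.pushBig Scheme.fppfPrecoverage
      (Spec.map (CommRingCat.ofHom (algebraMap K k'))) AddCommGrpCat.{u+1}).obj (CGrpSh.pts Scheme.fppfPrecoverage B'))
    [Mono j]
    (𝒢 : Over (Spec (CommRingCat.of R₀))) [GrpObj 𝒢] [IsCommMonObj 𝒢]
    (e : (BigSite.pullBig Scheme.fppfPrecoverage (Spec.map (CommRingCat.ofHom φ₀)) AddCommGrpCat.{u + 1}).obj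
      (CGrpSh.pts Scheme.fppfPrecoverage 𝒢) ≅ CGrpSh.pts Scheme.fppfPrecoverage G) :
    Finite {y : Spec (CommRingCat.of L) ⟶ 𝒢.left //
      y ≫ 𝒢.hom = Spec.map (CommRingCat.ofHom ((algebraMap K L).comp φ₀))} := by
  let U : Over (Spec (CommRingCat.of K)) := Over.mk (Spec.map (CommRingCat.ofHom (algebraMap K L)))
  let V := (Over.pullback (Spec.map (CommRingCat.ofHom (algebraMap K k')))).obj U
  haveI : Finite (V ⟶ B') := finite_pullback_pts B'
  let m := (e.hom ≫ j).hom.app (op U)
  have hm : Function.Injective m := by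
    haveI : Mono (e.hom ≫ j).hom := (sheafToPresheaf _ _).map_mono (e.hom ≫ j)
    exact (AddCommGrpCat.mono_iff_injective m).1 inferInstance
  let W := (Over.map (Spec.map (CommRingCat.ofHom φ₀))).obj U
  haveI : Finite (W ⟶ 𝒢) := Finite.of_injective (β := V ⟶ B')
    (fun w => (show ULift.{u + 1} (Additive (V ⟶ B')) from m (ULift.up (Additive.ofMul w))).down.toMul)
    (fun w w' h => Additive.ofMul.injective (ULift.up.inj (hm (ULift.ext _ _ (Additive.toMul.injective h)))))
  refine Finite.of_injective (β := W ⟶ 𝒢) (fun y => Over.homMk y.1 (y.2.trans ?_))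
    (fun y y' h => Subtype.ext (congrArg CommaMorphism.left h))
  show _ = Spec.map _ ≫ Spec.map _
  rw [← Spec.map_comp, ← CommRingCat.ofHom_comp]

/-- finitely many homomorphisms from the coordinate ring of an open affine -/
theorem finite_chart {X : Scheme.{u}} (g : X ⟶ Spec (CommRingCat.of R₀)) {U : X.Opens} (hU : IsAffineOpen U)
    (ψ : CommRingCat.of R₀ ⟶ Γ(X, U)) (hψ : hU.fromSpec ≫ g = Spec.map ψ) {L : Type u} [CommRing L] (χ : R₀ →+* L)
    [Finite {y : Spec (CommRingCat.of L) ⟶ X // y ≫ g = Spec.map (CommRingCat.ofHom χ)}] :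
    Finite {φ : Γ(X, U) →+* L // φ.comp ψ.hom = χ} := by
  refine Finite.of_injective (β := {y : Spec (CommRingCat.of L) ⟶ X // y ≫ g = Spec.map (CommRingCat.ofHom χ)})
    (fun φ => ⟨Spec.map (CommRingCat.ofHom φ.1) ≫ hU.fromSpec, ?_⟩) ?_
  · rw [Category.assoc, hψ, ← Spec.map_comp]
    exact congrArg Spec.map (CommRingCat.hom_ext φ.2)
  · intro φ φ' h
    have h1 := Spec.map_injective ((cancel_mono hU.fromSpec).1 (congrArg Subtype.val h))
    exact Subtype.ext (congrArg CommRingCat.Hom.hom h1)

end Groth.Agent.GalEt.WeilPts
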