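import Groth.Agent.GalEt.SepPts
import Groth.Agent.GalEt.WeilPts
import Mathlib.AlgebraicGeometry.Morphisms.FiniteType
import Mathlib.RingTheory.Valuation.Integral

/-!
# Local points of a subgroup of a Weil restriction of a finite group scheme are integral
-/

set_option autoImplicit false
set_option maxHeartbeats 1000000
set_option linter.style.haveILetI false
set_option backward.isDefEq.respectTransparency.types false

universe u

open CategoryTheory AlgebraicGeometry TensorProduct IntermediateField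

namespace Groth.Agent.GalEt.WeilInt

/-- a ring homomorphism lands in a subring once the generators do -/
theorem mem_of_gens {R B L : Type u} [CommRing R] [CommRing B] [CommRing L] [Algebra R B] {T : Finset B}
    (hT : Algebra.adjoin R (T : Set B) = ⊤) (φ : B →+* L) (O : Subring L)
    (hR : ∀ r, φ (algebraMap R B r) ∈ O) (hs : ∀ s ∈ T, φ s ∈ O) (b : B) : φ b ∈ O := by
  let W : Subalgebra R B := { O.comap φ with algebraMap_mem' := hR }
  have hW : Algebra.adjoin R (T : Set B) ≤ W := Algebra.adjoin_le hs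
  exact hW (hT ▸ Algebra.mem_top (x := b))

/-- two homomorphisms agree once they agree on generators -/
theorem ext_of_gens {R B L : Type u} [CommRing R] [CommRing B] [CommRing L] [Algebra R B] {T : Finset B}
    (hT : Algebra.adjoin R (T : Set B) = ⊤) {φ φ' : B →+* L}
    (hR : ∀ r, φ (algebraMap R B r) = φ' (algebraMap R B r)) (hs : ∀ s ∈ T, φ s = φ' s) : φ = φ' := by
  let W : Subalgebra R B := { φ.eqLocus φ' with algebraMap_mem' := hR }
  have hW : Algebra.adjoin R (T : Set B) ≤ W := Algebra.adjoin_le hs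
  exact RingHom.ext fun b => hW (hT ▸ Algebra.mem_top (x := b))

/-- a homomorphism with finitely many deformations gives a point over a separable closure -/
theorem exists_sep_point {R B K L : Type u} [CommRing R] [CommRing B] [Algebra R B] [Field K] [Infinite K] [Field L]
    [Algebra K L] (φ₀ : R →+* K) (p : ℕ) (hp : p.Prime) [ExpChar K p]
    (hL : ∀ {ι : Type u} (e : ι → L), LinearIndependent K e → LinearIndependent K fun j => e j ^ p)
    (hfin : Finite {φ : B →+* SeparableClosure L //
      φ.comp (algebraMap R B) = (algebraMap K (SeparableClosure L)).comp φ₀})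
    (T : Finset B) (hT : Algebra.adjoin R (T : Set B) = ⊤)
    (φ : B →+* L) (hφ : φ.comp (algebraMap R B) = (algebraMap K L).comp φ₀) :
    ∃ ψ : B →+* SeparableClosure K, ψ.comp (algebraMap R B) = (algebraMap K (SeparableClosure K)).comp φ₀ ∧
      ∀ s ∈ T, minpoly K (ψ s) = minpoly K (φ s) ∧ IsIntegral K (φ s) := by
  classical
  let F := adjoin K (φ '' (T : Set B))
  have hmem : ∀ b, φ b ∈ F := mem_of_gens hT φ F.toSubring
    (fun r => (RingHom.congr_fun hφ r).symm ▸ F.algebraMap_mem (φ₀ r))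
    fun s hs => subset_adjoin _ _ ⟨s, hs, rfl⟩
  let φF : B →+* F := φ.codRestrict F hmem
  have hφF : ∀ r, φF (algebraMap R B r) = algebraMap K F (φ₀ r) := fun r =>
    Subtype.ext (RingHom.congr_fun hφ r)
  have hsep : ∀ x ∈ φ '' (T : Set B), IsSeparable K x := fun x hx => by
    haveI := hfin
    refine SepPts.isSeparable_of_finite_algHom (Ω := SeparableClosure L) p hp
      (IsScalarTower.toAlgHom K L (SeparableClosure L)) hL _ (T.finite_toSet.image φ) ?_ hx
    refine Finite.of_injective (β := {φ : B →+* SeparableClosure L //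
      φ.comp (algebraMap R B) = (algebraMap K (SeparableClosure L)).comp φ₀})
      (fun g => ⟨g.toRingHom.comp φF, RingHom.ext fun r => ?_⟩) ?_
    · show g (φF (algebraMap R B r)) = _
      rw [hφF, g.commutes]
      rfl
    · intro g g' h
      refine adjoin_algHom_ext K fun y hy => ?_
      obtain ⟨s, hs, rfl⟩ := hy
      exact RingHom.congr_fun (congrArg Subtype.val h) s
  haveI : Algebra.IsSeparable K F := (isSeparable_adjoin_iff_isSeparable K L).2 hsep
  let σ : F →ₐ[K] SeparableClosure K := IsSepClosed.lift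
  refine ⟨σ.toRingHom.comp φF, RingHom.ext fun r => ?_, fun s hs => ⟨?_, (hsep _ ⟨s, hs, rfl⟩).isIntegral⟩⟩
  · show σ (φF (algebraMap R B r)) = _
    rw [hφF, σ.commutes]
    rfl
  · show minpoly K (σ (φF s)) = _
    rw [minpoly.algHom_eq σ σ.injective, IntermediateField.minpoly_eq]
    rfl

/-- a root of a polynomial with integral coefficients is integral -/
theorem mem_of_minpoly {K L : Type u} [Field K] [Field L] [Algebra K L] (O : ValuationSubring L) {x : L}
    (hx : IsIntegral K x) (h : ∀ n, algebraMap K L ((minpoly K x).coeff n) ∈ O) : x ∈ O := by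
  have h1 : (minpoly K x).map (algebraMap K L) ∈ Polynomial.lifts (algebraMap O L) :=
    (Polynomial.lifts_iff_coeff_lifts _).2 fun n => ⟨⟨_, h n⟩, by rw [Polynomial.coeff_map]; rfl⟩
  obtain ⟨q, hq, -, hmon⟩ := Polynomial.lifts_and_natDegree_eq_and_monic h1 ((minpoly.monic hx).map _)
  have hint : IsIntegral O x := ⟨q, hmon, by
    rw [← Polynomial.eval_map, hq, Polynomial.eval_map, ← Polynomial.aeval_def, minpoly.aeval]⟩
  obtain ⟨y, hy⟩ := IsIntegrallyClosed.isIntegral_iff.1 hint
  exact hy ▸ y.2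

variable {Fq : Type u} [Field Fq] [Finite Fq] {K : Type u} [Field K] [Algebra (RatFunc Fq) K] [FunctionField Fq K]
    [Algebra Fq K] [IsScalarTower Fq (RatFunc Fq) K] (S : Set (FunFld.Place Fq K))

/-- almost all points over completions extend to the rings of integers -/
theorem eventually_surjective (hne : Nonempty (FunFld.Place Fq K)) {X : Scheme.{u}}
    (g : X ⟶ Spec (CommRingCat.of (AdFn.SInt S))) [LocallyOfFiniteType g] [QuasiCompact g]
    {k' : Type u} [Field k'] [Algebra K k']
    (hfin : ∀ (L : Type u) [Field L] [Algebra K L], IsReduced (L ⊗[K] k') →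
      Finite {y : Spec (CommRingCat.of L) ⟶ X //
        y ≫ g = Spec.map (CommRingCat.ofHom ((algebraMap K L).comp (AdFn.SInt.toK S)))}) :
    ∀ᶠ v in Filter.cofinite, ∀ hv : v ∉ S, ∀ x : Spec (CommRingCat.of (AdFn.Kv v)) ⟶ X,
      x ≫ g = Spec.map (CommRingCat.ofHom (AdFn.SInt.toKv S v)) →
      ∃ y : Spec (CommRingCat.of (AdFn.Ov v)) ⟶ X, y ≫ g = Spec.map (CommRingCat.ofHom (AdFn.SInt.toOv S hv)) ∧
        Spec.map (CommRingCat.ofHom (AdFn.Ov v).subtype) ≫ y = x := by
  classical
  obtain ⟨p, hpc⟩ := CharP.exists Fq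
  haveI : CharP Fq p := hpc
  haveI : Fact p.Prime := ⟨CharP.char_is_prime Fq p⟩
  haveI : CharP K p := charP_of_injective_algebraMap (algebraMap Fq K).injective p
  haveI : ExpChar K p := ExpChar.prime Fact.out
  haveI : Infinite K := Infinite.of_injective _
    ((algebraMap (RatFunc Fq) K).injective.comp (IsFractionRing.injective (Polynomial Fq) (RatFunc Fq)))
  obtain ⟨v₀⟩ := hne
  obtain ⟨t₀, ht₀⟩ := v₀.2.2 (WithZero.exp (-1))
  -- finiteness over the separable closure of `K`
  let Ω₀ := SeparableClosure K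
  haveI := hfin Ω₀ (SepFF.isReduced_tensor p v₀ ht₀
    (SepFF.pind_separable p (SepFF.pind_of_val p v₀.1 ht₀)) k')
  haveI : CompactSpace X := QuasiCompact.compactSpace_of_compactSpace g
  choose U hU hxU _ using fun q : X => exists_isAffineOpen_mem_and_subset (U := (⊤ : X.Opens)) (x := q) trivial
  obtain ⟨t, ht⟩ := isCompact_univ.elim_finite_subcover (fun q : X => (U q : Set X)) (fun q => (U q).isOpen)
    (fun q _ => Set.mem_iUnion.2 ⟨q, hxU q⟩)
  have hft : ∀ q : X, ∃ ψ : CommRingCat.of (AdFn.SInt S) ⟶ Γ(X, U q),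
      ψ.hom.FiniteType ∧ (hU q).fromSpec ≫ g = Spec.map ψ := fun q => by
    refine ⟨Spec.preimage ((hU q).fromSpec ≫ g), ?_, (Spec.map_preimage _).symm⟩
    refine (HasRingHomProperty.Spec_iff (P := @LocallyOfFiniteType)).1 ?_
    rw [Spec.map_preimage]
    infer_instance
  choose ψ hψ hψg using hft
  letI : ∀ q, Algebra (AdFn.SInt S) Γ(X, U q) := fun q => (ψ q).hom.toAlgebra
  choose T hT using fun q => (show (⊤ : Subalgebra (AdFn.SInt S) Γ(X, U q)).FG from (hψ q).out)
  haveI := fun q : X => WeilPts.finite_chart g (hU q) (ψ q) (hψg q)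
    (L := Ω₀) ((algebraMap K Ω₀).comp (AdFn.SInt.toK S))
  have hgood : ∀ᶠ v : FunFld.Place Fq K in Filter.cofinite, ∀ (q : {q // q ∈ t})
      (φ : {φ : Γ(X, U q.1) →+* Ω₀ // φ.comp (ψ q.1).hom = (algebraMap K Ω₀).comp (AdFn.SInt.toK S)})
      (s : {s // s ∈ T q.1}), ∀ n ∈ (minpoly K (φ.1 s.1)).support, v.1 ((minpoly K (φ.1 s.1)).coeff n) ≤ 1 := by
    refine Filter.eventually_all.2 fun q => Filter.eventually_all.2 fun φ => Filter.eventually_all.2 fun s =>
      (Filter.eventually_all_finset _).2 fun n _ => Filter.eventually_cofinite.2 ?_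
    exact (SepFF.finite_poles _).subset fun v hv => lt_of_not_ge hv
  filter_upwards [hgood] with v hv hvS x hx
  obtain ⟨tv, htv⟩ := v.2.2 (WithZero.exp (-1))
  obtain ⟨q, hqt, hq⟩ := Set.mem_iUnion₂.1 (ht (Set.mem_univ (x (IsLocalRing.closedPoint (AdFn.Kv v)))))
  have hrange : Set.range x ⊆ Set.range (hU q).fromSpec := by
    rw [IsAffineOpen.range_fromSpec]
    rintro _ ⟨y, rfl⟩
    rwa [show y = IsLocalRing.closedPoint (AdFn.Kv v) from Subsingleton.elim (α := PrimeSpectrum (AdFn.Kv v)) _ _]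
  let Φ : Γ(X, U q) ⟶ CommRingCat.of (AdFn.Kv v) := Spec.preimage (IsOpenImmersion.lift (hU q).fromSpec x hrange)
  have hΦ : Spec.map Φ ≫ (hU q).fromSpec = x := by rw [Spec.map_preimage, IsOpenImmersion.lift_fac]
  have hΦψ : Φ.hom.comp (ψ q).hom = AdFn.SInt.toKv S v := by
    have h0 : Spec.map (ψ q ≫ Φ) = Spec.map (CommRingCat.ofHom (AdFn.SInt.toKv S v)) := by
      rw [Spec.map_comp, ← hψg, ← Category.assoc, hΦ, hx]
    exact congrArg CommRingCat.Hom.hom (Spec.map_injective h0)
  have hp := SepFF.pind_Kv p v htv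
  let Ω := SeparableClosure (AdFn.Kv v)
  haveI : CharP (AdFn.Kv v) p := charP_of_injective_algebraMap (algebraMap K (AdFn.Kv v)).injective p
  haveI := hfin Ω (SepFF.isReduced_tensor p v htv
    (by rw [IsScalarTower.algebraMap_apply K (AdFn.Kv v) Ω]; exact SepFF.pind_separable p hp) k')
  obtain ⟨φ, hφψ, hφ⟩ := exists_sep_point (L := AdFn.Kv v) (AdFn.SInt.toK S) p Fact.out
    (fun e he => SepFF.linearIndependent_pow_char p v htv hp he)
    (WeilPts.finite_chart g (hU q) (ψ q) (hψg q) (L := Ω) ((algebraMap K Ω).comp (AdFn.SInt.toK S)))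
    (T q) (hT q) Φ.hom hΦψ
  have hO : ∀ b, Φ.hom b ∈ (AdFn.Ov v).toSubring := mem_of_gens (hT q) Φ.hom _
    (fun r => by rw [show Φ.hom (algebraMap _ _ r) = _ from RingHom.congr_fun hΦψ r]; exact (AdFn.SInt.toOv S hvS r).2)
    fun s hs => mem_of_minpoly (K := K) (AdFn.Ov v) (hφ s hs).2 fun n => by
      rw [← (hφ s hs).1]
      by_cases hn : n ∈ (minpoly K (φ s)).support
      · exact (AdFn.toKv_mem_Ov v _).2 (hv ⟨q, hqt⟩ ⟨φ, hφψ⟩ ⟨s, hs⟩ n hn)
      · rw [Polynomial.notMem_support_iff.1 hn, map_zero]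
        exact zero_mem _
  refine ⟨Spec.map (CommRingCat.ofHom (Φ.hom.codRestrict (AdFn.Ov v).toSubring hO)) ≫ (hU q).fromSpec, ?_, ?_⟩
  · rw [Category.assoc, hψg, ← Spec.map_comp]
    refine congrArg Spec.map (CommRingCat.hom_ext (RingHom.ext fun r => Subtype.ext ?_))
    exact RingHom.congr_fun hΦψ r
  · rw [← Category.assoc, ← Spec.map_comp]
    exact hΦ

end Groth.Agent.GalEt.WeilInt
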